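import Cfsg.Agent.Omega.F4Leaf.Exit.Dua
import Cfsg.Agent.Omega.F4Leaf.Big.OneZ

/-!
# LeafF4, `m ≥ 2`, `V₀ ≠ 1` (#21183 of helper758): the line `V_l` and a Sylow group `T₁` of `C_G(12) ∩ N_G(V_l)`

* `VL ε i j = {1, r_ij, r_i0, r_j0}`, `XL ε i j = ⟨O₂(C(r_ij)), O₂(C(r_i0)), O₂(C(r_j0))⟩`;
* `Ln S P m A ε i j` : `Pos.Sit`, a `WP`-element moving `A`, `i, j ≠ 0`, `S ∩ C(r_ij)` is Sylow in `P ∩ C(r_ij)`;
* `Tn S P m A ε i j T₁` : `T₁ ≥ S ∩ C(r_ij)` is a Sylow 2-subgroup of `C_G(r_ij) ∩ N_G(V_l)`;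
* `absorb` : a 2-group of `C` normalising the Sylow group `T` of `C` is in `T`;
* `Ln.only0` : `S ∩ C(r_ij)` fixes only the label `0` outside `{i, j}`.
-/

set_option autoImplicit false
set_option linter.dupNamespace false

namespace Cfsg.Agent.Omega.F4Leaf.Syl

open Subgroup Pointwise Cfsg Cfsg.Agent Cfsg.Agent.Omega.MinPar
open Cfsg.Agent.ZN (o2 zc zl)
open Cfsg.Agent.Omega.FrameFF (cv Single Free)
open Cfsg.Agent.Omega.S5.Def Cfsg.Agent.Omega.S5.Syl Cfsg.Agent.Omega.F4Leaf.Def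
open Cfsg.Agent.Omega.NSix.Base Cfsg.Agent.Omega.NSix.Basic Cfsg.Agent.Omega.F4Leaf.Pos
open Cfsg.Agent.Omega.NSix.Zero (WP mem_WP WP_norm WP_conj zpow_cases)
open Cfsg.Agent.Omega.F4Leaf.Exit.Tr Cfsg.Agent.Omega.F4Leaf.Exit.Dua
open Cfsg.Agent.MinSimple.VModule (o2_isPGroup o2_le le_o2 le_normalizer_o2 le_normalizer_zl o2_le_of_sylow mem_zc)

universe u

variable {G : Type u} [Group G]

/-- the line `{1, r_ij, r_i0, r_j0}` -/
def VL {m : ℕ} (ε : (Fin (2 ^ m + 1) → ZMod 2) → G) (i j : Fin (2 ^ m + 1)) : Subgroup G :=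
  closure {rr ε i j, rr ε i 0}

/-- `⟨O₂(C(r_ij)), O₂(C(r_i0)), O₂(C(r_j0))⟩` -/
def XL {m : ℕ} (ε : (Fin (2 ^ m + 1) → ZMod 2) → G) (i j : Fin (2 ^ m + 1)) : Subgroup G :=
  o2 (NN ε i j) ⊔ o2 (NN ε i 0) ⊔ o2 (NN ε j 0)

section line

variable {m : ℕ} {ε : (Fin (2 ^ m + 1) → ZMod 2) → G} {i j : Fin (2 ^ m + 1)}

theorem rr_mem_VL : rr ε i j ∈ VL ε i j := subset_closure (Or.inl rfl)

theorem ri_mem_VL : rr ε i 0 ∈ VL ε i j := subset_closure (Or.inr rfl)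

theorem rj_mem_VL {V L : Subgroup G} (hE : EvenSet (2 ^ m + 1) V L ε) : rr ε j 0 ∈ VL ε i j := by
  have h1 : rr ε i j * rr ε i 0 = rr ε j 0 := by rw [rr_symm hE i j, rr_add hE]
  rw [← h1]
  exact mul_mem rr_mem_VL ri_mem_VL

theorem mem_VL {V L : Subgroup G} (hE : EvenSet (2 ^ m + 1) V L ε) {g : G} :
    g ∈ VL ε i j ↔ g = 1 ∨ g = rr ε i j ∨ g = rr ε i 0 ∨ g = rr ε j 0 := by
  constructor
  · intro hg
    have c1 : rr ε i j * rr ε i 0 = rr ε j 0 := by rw [rr_symm hE i j, rr_add hE]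
    have c2 : rr ε i 0 * rr ε i j = rr ε j 0 := by rw [hE.comm_mem (rr_mem hE i 0) (rr_mem hE i j), c1]
    have c3 : rr ε i j * rr ε j 0 = rr ε i 0 := rr_add hE i j 0
    have c4 : rr ε j 0 * rr ε i j = rr ε i 0 := by rw [hE.comm_mem (rr_mem hE j 0) (rr_mem hE i j), c3]
    have c5 : rr ε i 0 * rr ε j 0 = rr ε i j := by rw [rr_symm hE j 0, rr_add hE]
    have c6 : rr ε j 0 * rr ε i 0 = rr ε i j := by rw [hE.comm_mem (rr_mem hE j 0) (rr_mem hE i 0), c5]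
    unfold VL at hg
    induction hg using closure_induction with
    | mem x hx =>
      rcases hx with rfl | rfl
      · exact Or.inr (Or.inl rfl)
      · exact Or.inr (Or.inr (Or.inl rfl))
    | one => exact Or.inl rfl
    | mul x y _ _ hx hy =>
      rcases hx with rfl | rfl | rfl | rfl <;> rcases hy with rfl | rfl | rfl | rfl <;>
        simp [c1, c2, c3, c4, c5, c6, rr_sq hE]
    | inv x _ hx =>
      rcases hx with rfl | rfl | rfl | rfl <;> simp [rr_inv hE]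
  · rintro (rfl | rfl | rfl | rfl)
    · exact one_mem _
    · exact rr_mem_VL
    · exact ri_mem_VL
    · exact rj_mem_VL hE

theorem VL_le {V L : Subgroup G} (hE : EvenSet (2 ^ m + 1) V L ε) : VL ε i j ≤ V := by
  unfold VL
  rw [closure_le]
  rintro x (rfl | rfl)
  · exact rr_mem hE _ _
  · exact rr_mem hE _ _

end line

/-- The position: `ij` is a pair off `0` and `S ∩ C(r_ij)` is Sylow in `P ∩ C(r_ij)`. -/
structure Ln [Finite G] (S : Sylow 2 G) (P : Subgroup G) (m : ℕ) (A : Subgroup G)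
    (ε : (Fin (2 ^ m + 1) → ZMod 2) → G) (i j : Fin (2 ^ m + 1)) : Prop where
  sit : Sit S P m A ε
  wp : ∃ i j, i ≠ j ∧ ∃ g ∈ WP ε i j, ¬ g ∈ centralizer (A : Set G)
  ij : i ≠ j
  i0 : i ≠ 0
  j0 : j ≠ 0
  odd : ¬ 2 ∣ ((S : Subgroup G) ⊓ NN ε i j).relIndex (P ⊓ NN ε i j)

/-- `T₁ ≥ S ∩ C(r_ij)` is a Sylow 2-subgroup of `C_G(r_ij) ∩ N_G(V_l)`. -/
structure Tn [Finite G] (S : Sylow 2 G) (P : Subgroup G) (m : ℕ) (A : Subgroup G)
    (ε : (Fin (2 ^ m + 1) → ZMod 2) → G) (i j : Fin (2 ^ m + 1)) (T₁ : Subgroup G) : Prop where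
  ln : Ln S P m A ε i j
  TT : (S : Subgroup G) ⊓ NN ε i j ≤ T₁
  two : IsPGroup 2 T₁
  le : T₁ ≤ NN ε i j
  nrm : T₁ ≤ normalizer (VL ε i j : Set G)
  syl : ¬ 2 ∣ T₁.relIndex (NN ε i j ⊓ normalizer (VL ε i j : Set G))

/-- A 2-subgroup of `C` normalising the Sylow 2-subgroup `T` of `C` is in `T`. -/
theorem absorb [Finite G] {T X C : Subgroup G} (hT : IsPGroup 2 T) (hX : IsPGroup 2 X) (hi : ¬ 2 ∣ T.relIndex C)
    (hTC : T ≤ C) (hXC : X ≤ C) (hn : X ≤ normalizer (T : Set G)) : X ≤ T := by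
  have hf : Fact (Nat.Prime 2) := ⟨Nat.prime_two⟩
  have h1 : IsPGroup 2 (X ⊔ T : Subgroup G) := hX.to_sup_of_normal_right' hT hn
  have h2 : X ⊔ T ≤ C := sup_le hXC hTC
  have h3 : ¬ 2 ∣ T.relIndex (X ⊔ T) := by
    intro h4
    apply hi
    have h5 : T.relIndex (X ⊔ T) * (X ⊔ T).relIndex C = T.relIndex C := relIndex_mul_relIndex _ _ _ le_sup_right h2
    rw [← h5]
    exact dvd_mul_of_dvd_left h4 _
  obtain ⟨k, hk⟩ := IsPGroup.iff_card.1 h1
  have h4 : T.relIndex (X ⊔ T) ∣ 2 ^ k := by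
    rw [← hk]
    exact relIndex_dvd_card T (X ⊔ T)
  obtain ⟨l, -, hl⟩ := (Nat.dvd_prime_pow Nat.prime_two).1 h4
  have h5 : l = 0 := by
    by_contra h6
    apply h3
    rw [hl]
    exact dvd_pow_self 2 h6
  rw [h5, pow_zero, relIndex_eq_one] at hl
  exact le_sup_left.trans hl

namespace Ln

variable [Finite G] {S : Sylow 2 G} {P : Subgroup G} {m : ℕ} {A : Subgroup G}
  {ε : (Fin (2 ^ m + 1) → ZMod 2) → G} {i j : Fin (2 ^ m + 1)} (h : Ln S P m A ε i j)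
include h

theorem mov : Mov ε := by
  intro k l hkl
  obtain ⟨w, hw, hs⟩ := h.sit.mov h.wp hkl
  exact ⟨w, h.sit.fac.ww h.sit.c2 h.sit.three hkl hw, hs⟩

theorem five : 5 ≤ 2 ^ m + 1 := Sit.five h.sit

/-- `O₂(P) ≤ S ∩ C(r_ij)` -/
theorem o2_le_T : o2 P ≤ (S : Subgroup G) ⊓ NN ε i j := by
  refine le_inf h.sit.o2_le_S fun q hq => mem_NN.mpr ?_
  have h1 := h.sit.V_le_zc (h.sit.split.A_le (rr_mem h.sit.split.even i j))
  exact (mem_zc.mp h1).2.1 q hq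

/-- `S ∩ C(r_ij)` fixes only the label `0` outside `{i, j}`. -/
theorem only0 {l : Fin (2 ^ m + 1)} (hi : l ≠ i) (hj : l ≠ j)
    (hl : ∀ s ∈ (S : Subgroup G) ⊓ NN ε i j, ∀ σ : Equiv.Perm (Fin (2 ^ m + 1)), Acts ε s σ → σ l = l) : l = 0 := by
  by_contra hl0
  have hE := h.sit.split.even
  have hn := h.sit.three
  let T : Subgroup G := (S : Subgroup G) ⊓ NN ε i j
  let C : Subgroup G := P ⊓ NN ε i j
  let φ : ↥C →* Equiv.Perm (Fin (2 ^ m + 1)) := (hE.hom hn).comp (Subgroup.inclusion inf_le_left)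
  have hφ : ∀ c : C, Acts ε (c : G) (φ c) := fun c => hE.acts_hom hn (Subgroup.inclusion inf_le_left c)
  have hT : ∀ c ∈ T.subgroupOf C, φ c l = l ∧ φ c 0 = 0 := by
    intro c hc
    have hc' : (c : G) ∈ T := hc
    exact ⟨hl c hc' _ (hφ c), h.sit.split.fix0 c hc'.1 _ (hφ c)⟩
  let R := φ.range
  let ψ : ↥C →* ↥R := φ.rangeRestrict
  let T' : Subgroup ↥R := (T.subgroupOf C).map ψ
  have h1 : ¬ 2 ∣ T'.index := fun h2 => h.odd (h2.trans (index_map_dvd _ φ.rangeRestrict_surjective))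
  -- the transposition
  obtain ⟨g, hg, hσ⟩ := hE.full (Equiv.swap l 0)
  have hgN : g ∈ NN ε i j := by
    rw [mem_NN', rr_conj hσ, Equiv.swap_apply_of_ne_of_ne hi.symm h.i0, Equiv.swap_apply_of_ne_of_ne hj.symm h.j0]
  have hgφ : φ ⟨g, hg, hgN⟩ = Equiv.swap l 0 := hE.acts_unique hn (hφ ⟨g, hg, hgN⟩) hσ
  let τ : ↥R := ψ ⟨g, hg, hgN⟩
  have hτ : (τ : Equiv.Perm (Fin (2 ^ m + 1))) = Equiv.swap l 0 := hgφ
  have hτ2 : τ * τ = 1 := by
    apply Subtype.ext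
    change (τ : Equiv.Perm (Fin (2 ^ m + 1))) * (τ : Equiv.Perm (Fin (2 ^ m + 1))) = 1
    rw [hτ, Equiv.swap_mul_self]
  have hcomm : ∀ x ∈ T', τ * x * τ⁻¹ = x := by
    rintro _ ⟨c, hc, rfl⟩
    apply Subtype.ext
    change (τ : Equiv.Perm (Fin (2 ^ m + 1))) * φ c * (τ : Equiv.Perm (Fin (2 ^ m + 1)))⁻¹ = φ c
    rw [hτ, mul_inv_eq_iff_eq_mul]
    obtain ⟨h2, h3⟩ := hT c hc
    have h4 := Equiv.mul_swap_eq_swap_mul (φ c) l 0
    rw [h2, h3] at h4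
    exact h4.symm
  have h2 : zpowers τ ≤ T' := by
    refine absorb (C := ⊤) ?_ ?_ ?_ le_top le_top ?_
    · have h3 : IsPGroup 2 T := S.isPGroup'.to_le inf_le_left
      have h4 : IsPGroup 2 (T.subgroupOf C) := h3.comap_of_injective C.subtype Subtype.val_injective
      exact h4.map ψ
    · rw [IsPGroup.iff_card]
      have h3 : orderOf τ ∣ 2 ^ 1 := orderOf_dvd_of_pow_eq_one (by rw [pow_one, pow_two, hτ2])
      obtain ⟨k, -, hk⟩ := (Nat.dvd_prime_pow Nat.prime_two).1 h3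
      exact ⟨k, by rw [Nat.card_zpowers, hk]⟩
    · rwa [relIndex_top_right]
    · rw [zpowers_le, mem_normalizer_iff]
      intro x
      constructor
      · intro hx
        rw [hcomm x hx]
        exact hx
      · intro hx
        have h3 := hcomm _ hx
        have h4 : x = τ * x * τ⁻¹ := by
          have h5 : τ⁻¹ = τ := inv_eq_of_mul_eq_one_left hτ2
          rw [h5] at h3 ⊢
          calc x = τ * τ * x * (τ * τ) := by rw [hτ2, one_mul, mul_one]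
            _ = τ * (τ * x * τ) * τ := by group
            _ = _ := h3
        rw [h4]
        exact hx
  obtain ⟨c, hc, hcτ⟩ := h2 (mem_zpowers τ)
  have h3 : φ c = Equiv.swap l 0 := by
    have := congrArg Subtype.val hcτ
    exact this.trans hτ
  have h4 := (hT c hc).1
  rw [h3, Equiv.swap_apply_left] at h4
  exact hl0 h4.symm

end Ln

end Cfsg.Agent.Omega.F4Leaf.Syl
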