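import Cfsg.Agent.Omega.F4Leaf.Big.OneZ
import Cfsg.Agent.Omega.F4Leaf.NoWrFree
import Cfsg.Agent.Omega.HOne.NSMain

/-!
# LeafF4, `n = r_ij` 2-central: the natural member `R` over `S` (helper778, bb OMEGA #21087, #21183, #21366)

* `TOne S ε i j T₁` : `T₁` is a Sylow 2-subgroup of `N = C_G(r_ij)`, it contains `C_S(r_ij)` and permutes
  `{r_i0, r_j0}` (helper758: (I));
* `ExG S P n c R k` : `Cen.Ex` for any `n`, `c`;
* `exists_exG` : `Sit`, type `T`, `V₀ ≠ 1`, `TOne`, `|G : N|` odd imply `ExG S P r_ij r_i0 R k` for some `R`, `k`;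
* `ExG.nonFree_nat`, `ExG.nonFree_tt` : the mutual pairs; `known_nat`, `known_tt`, `known_self` : `G` is known.
-/

set_option autoImplicit false
set_option linter.dupNamespace false
set_option linter.unusedSectionVars false

namespace Cfsg.Agent.Omega.F4Leaf.Syl.EndC

open Subgroup Pointwise Cfsg Cfsg.Agent Cfsg.Agent.Omega.MinPar
open Cfsg.Agent.ZN (o2 zc zl)
open Cfsg.Agent.ZN.ChoiceBase (cj mem_cj)
open Cfsg.Agent.Omega.Frame Cfsg.Agent.Omega.FFThm
open Cfsg.Agent.Omega.FrameLE (AllIn)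
open Cfsg.Agent.Omega.FrameFF (cv Single Free)
open Cfsg.Agent.Omega.FrameMulti (IsSym IsNat Typed AllTyped)
open Cfsg.Agent.Omega.HOne.Main (NonFree)
open Cfsg.Agent.Omega.S5.Def Cfsg.Agent.Omega.S5.Syl Cfsg.Agent.Omega.F4Leaf.Def
open Cfsg.Agent.Omega.F4Leaf.Pos Cfsg.Agent.Omega.F4Leaf.Facts
open Cfsg.Agent.Omega.NSix.Base Cfsg.Agent.Omega.NSix.Basic
open Cfsg.Agent.Omega.NSix.Zero (WP mem_WP WP_norm WP_conj)
open Cfsg.Agent.Omega.F4Leaf.Cen (dbl mem_dbl le_dbl u_mem_dbl dbl_eq_of_lt card_dbl le_normalizer_of)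
open Cfsg.Agent.Omega.F4Leaf.Cen.Main (PosExit)
open Cfsg.Agent.Omega.NTwo (cm cc ci comm_iff mem_cent o2_cent_conj o2_cent_conj' mem_csmul csmul_mem)
open Cfsg.Agent.MinSimple.VModule (o2_isPGroup o2_le le_o2 le_normalizer_o2 o2_le_of_sylow mem_zc zc_le
  le_normalizer_zl zl_comm zl_sq zc_le_zl zl_le normalizer_le_normalizer_zc)

universe u

variable {G : Type u} [Group G]

/-- `T₁` is a Sylow 2-subgroup of `C_G(r_ij)` containing `C_S(r_ij)`, it permutes `{r_i0, r_j0}`. -/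
structure TOne [Finite G] (S : Subgroup G) {n : ℕ} [NeZero n] (ε : (Fin n → ZMod 2) → G) (i j : Fin n)
    (T : Subgroup G) : Prop where
  le : T ≤ NN ε i j
  pg : IsPGroup 2 T
  odd : ¬ 2 ∣ T.relIndex (NN ε i j)
  ge : S ⊓ NN ε i j ≤ T
  line : ∀ t ∈ T, t * rr ε i 0 * t⁻¹ = rr ε i 0 ∨ t * rr ε i 0 * t⁻¹ = rr ε j 0

/-- The natural member `R` found over `S`, in the position of `O₂(C(n))`. -/
structure ExG [Finite G] (S : Sylow 2 G) (P : Subgroup G) (n c : G) (R : Subgroup G) (k : G) : Prop where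
  star : IsParS (S : Subgroup G) R
  card : Nat.card (zl (S : Subgroup G) R) = 2 * Nat.card (zc (S : Subgroup G))
  ne : cv (S : Subgroup G) R ≠ ⊥
  VQ : ∀ x ∈ zl (S : Subgroup G) R, k * x * k⁻¹ ∈ o2 (centralizer {n})
  QS : ∀ q ∈ o2 (centralizer {n}), k⁻¹ * q * k ∈ (S : Subgroup G)
  c_mem : k⁻¹ * c * k ∈ zl (S : Subgroup G) R
  cen : ∀ x ∈ zl (S : Subgroup G) P, (∀ q ∈ o2 (centralizer {n}), q * x = x * q) ∨
    ∀ q ∈ o2 (centralizer {n}), q * (x * c) = x * c * q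
  V_Q : zl (S : Subgroup G) P ≤ o2 (centralizer {n})
  c_V : c ∈ zl (S : Subgroup G) P

/-! ### The elements of `V` -/

section coord

variable [Finite G] {S : Sylow 2 G} {P : Subgroup G} {m : ℕ} {A : Subgroup G}
  {ε : (Fin (2 ^ m + 1) → ZMod 2) → G} (h : Sit S P m A ε) {i j : Fin (2 ^ m + 1)}
include h

theorem comm_of_eq (hij : i ≠ j) {x : Fin (2 ^ m + 1) → ZMod 2} (hx : x i = x j) {q : G}
    (hq : q ∈ o2 (NN ε i j)) : q * ε x = ε x * q := by
  rw [← mul_inv_eq_iff_eq_mul]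
  rcases h.acts hij hq with h1 | h1
  · rw [h1 x]; rfl
  · rw [h1 x]
    congr 1
    funext k
    rw [Function.comp, Equiv.symm_swap]
    by_cases hi : k = i
    · rw [hi, Equiv.swap_apply_left, hx]
    by_cases hj : k = j
    · rw [hj, Equiv.swap_apply_right, hx]
    rw [Equiv.swap_apply_of_ne_of_ne hi hj]

theorem eq_of_comm {w : G} (hw : Acts ε w (Equiv.swap i j)) {x : Fin (2 ^ m + 1) → ZMod 2}
    (hx : w * ε x = ε x * w) : x i = x j := by
  rw [← mul_inv_eq_iff_eq_mul, hw x, h.split.even.eq_iff] at hx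
  rcases hx with h1 | h1
  · have h2 := congrFun h1 j
    rw [Function.comp, Equiv.symm_swap, Equiv.swap_apply_right] at h2
    exact h2
  · exfalso
    have hcard : ({i, j} : Finset (Fin (2 ^ m + 1))).card < (Finset.univ : Finset (Fin (2 ^ m + 1))).card := by
      rw [Finset.card_univ, Fintype.card_fin]
      have := h.three
      exact lt_of_le_of_lt Finset.card_le_two (by omega)
    obtain ⟨k, -, hk⟩ := Finset.exists_mem_notMem_of_card_lt_card hcard
    simp only [Finset.mem_insert, Finset.mem_singleton, not_or] at hk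
    have h2 := congrFun h1 k
    rw [Function.comp, Equiv.symm_swap, Equiv.swap_apply_of_ne_of_ne hk.1 hk.2, Pi.add_apply, Pi.one_apply] at h2
    have h3 : (0 : ZMod 2) = 1 := add_left_cancel (a := x k) (by rw [add_zero]; exact h2)
    exact zero_ne_one h3

theorem rr_V (a b : Fin (2 ^ m + 1)) : rr ε a b ∈ zl (S : Subgroup G) P := h.split.A_le (rr_mem h.split.even a b)

/-- `C_V(O₂(C(r_ij)))` has index 2 in `V` -/
theorem cen_or (hij : i ≠ j) (hi : i ≠ 0) (hj : j ≠ 0) {x : G} (hx : x ∈ zl (S : Subgroup G) P) :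
    (∀ q ∈ o2 (NN ε i j), q * x = x * q) ∨ ∀ q ∈ o2 (NN ε i j), q * (x * rr ε i 0) = x * rr ε i 0 * q := by
  obtain ⟨v, hv, a, ha, rfl⟩ := h.mul_eq hx
  obtain ⟨y, rfl⟩ := h.split.even.surj a ha
  have key : ∀ y' : Fin (2 ^ m + 1) → ZMod 2, y' i = y' j → ∀ q ∈ o2 (NN ε i j), q * (v * ε y') = v * ε y' * q := by
    intro y' hy q hq
    have h1 := h.comm_V0 hij hq hv
    have h2 := comm_of_eq h hij hy hq
    calc q * (v * ε y') = q * v * ε y' := by group
      _ = v * (q * ε y') := by rw [h1]; group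
      _ = v * ε y' * q := by rw [h2]; group
  by_cases hy : y i = y j
  · exact Or.inl (key y hy)
  · right
    have h1 : (y + (Pi.single i 1 + Pi.single 0 1) : Fin (2 ^ m + 1) → ZMod 2) i =
        (y + (Pi.single i 1 + Pi.single 0 1) : Fin (2 ^ m + 1) → ZMod 2) j := by
      rw [Pi.add_apply, Pi.add_apply, Pi.add_apply, Pi.add_apply, Pi.single_eq_same, Pi.single_eq_of_ne hi,
        Pi.single_eq_of_ne hij.symm, Pi.single_eq_of_ne hj, add_zero, add_zero, add_zero]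
      revert hy
      generalize y i = a
      generalize y j = b
      revert a b
      decide
    intro q hq
    have h2 := key _ h1 q hq
    have h3 : v * ε (y + (Pi.single i 1 + Pi.single 0 1)) = v * ε y * rr ε i 0 := by
      rw [h.split.even.add, h.split.even.add, rr, zz, zz, mul_assoc]
    rwa [h3] at h2

end coord

/-! ### The member -/

section main

variable [Finite G] {S : Sylow 2 G} {P : Subgroup G} {m : ℕ} {A : Subgroup G}
  {ε : (Fin (2 ^ m + 1) → ZMod 2) → G} (h : Sit S P m A ε)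
  (hN : ∃ i j, i ≠ j ∧ ∃ g ∈ WP ε i j, ¬ g ∈ centralizer (A : Set G)) {i j : Fin (2 ^ m + 1)} {T : Subgroup G}
include h

theorem o2_le_T (hT : TOne (S : Subgroup G) ε i j T) : o2 P ≤ T := by
  intro q hq
  refine hT.ge ⟨h.o2_le_S hq, mem_NN.2 ?_⟩
  exact ((mem_zc.1 (h.V_le_zc (rr_V h i j))).2.1 q hq)

theorem V_le_T (hT : TOne (S : Subgroup G) ε i j T) : zl (S : Subgroup G) P ≤ T :=
  h.V_le_zc.trans ((zc_le _).trans (o2_le_T h hT))

theorem Q_le_T (hT : TOne (S : Subgroup G) ε i j T) : o2 (NN ε i j) ≤ T := o2_le_of_sylow hT.pg hT.odd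

theorem rr_zc (hT : TOne (S : Subgroup G) ε i j T) : rr ε i j ∈ zc T :=
  mem_zc.2 ⟨V_le_T h hT (rr_V h i j), fun t ht => mem_NN.1 (hT.le ht), by
    rw [pow_two]; exact rr_sq h.split.even i j⟩

/-- the elements of `Ω₁Z(T)` centralised by `O₂(C(r_i0))` -/
def Z0 (T : Subgroup G) (ε : (Fin (2 ^ m + 1) → ZMod 2) → G) (i : Fin (2 ^ m + 1)) : Subgroup G :=
  zc T ⊓ centralizer (o2 (NN ε i 0) : Set G)

theorem rr_mul (i j k : Fin (2 ^ m + 1)) : rr ε i j * rr ε i k = rr ε j k := by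
  rw [rr, rr, rr, zz, zz, zz]
  calc ε (Pi.single i 1) * ε (Pi.single j 1) * (ε (Pi.single i 1) * ε (Pi.single k 1))
      = ε (Pi.single j 1) * (ε (Pi.single i 1) * ε (Pi.single i 1)) * ε (Pi.single k 1) := by
        rw [h.split.even.comm (Pi.single i 1) (Pi.single j 1)]; group
    _ = ε (Pi.single j 1) * ε (Pi.single k 1) := by rw [h.split.even.sq, mul_one]

/-- an element moving `i` to `0` does not fix `r_ij` -/
theorem rr_ne (hi : i ≠ 0) : rr ε i j ≠ rr ε 0 j := by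
  intro h0
  have h1 : zz ε i = zz ε 0 := mul_right_cancel h0
  exact hi (h.split.even.single_inj h.three h1)

include hN

theorem zc_mul (hij : i ≠ j) (hi : i ≠ 0) (hj : j ≠ 0) (hT : TOne (S : Subgroup G) ε i j T) {z : G}
    (hz : z ∈ zc T) : z ∈ Z0 T ε i ∨ z * rr ε i j ∈ Z0 T ε i := by
  have hV := h.zc_le_V hN (o2_le_T h hT) hz
  obtain ⟨w, hw, hws⟩ := h.mov hN hij
  have hwT : w ∈ T := Q_le_T h hT (h.fac.ww h.c2 h.three hij hw)
  have hzw := (mem_zc.1 hz).2.1 w hwT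
  obtain ⟨v, hv, a, ha, rfl⟩ := h.mul_eq hV
  obtain ⟨y, rfl⟩ := h.split.even.surj a ha
  have h1 := h.comm_V0 hij (h.fac.ww h.c2 h.three hij hw) hv
  have h2 : w * ε y = ε y * w := by
    have h3 : v * (w * ε y) = v * (ε y * w) := by
      calc v * (w * ε y) = v * w * ε y := by group
        _ = w * (v * ε y) := by rw [← h1]; group
        _ = v * (ε y * w) := by rw [hzw]; group
    exact mul_left_cancel h3
  have hyij := eq_of_comm h hws h2
  have key : ∀ y' : Fin (2 ^ m + 1) → ZMod 2, y' i = y' 0 → v * ε y' ∈ centralizer (o2 (NN ε i 0) : Set G) := by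
    intro y' hy
    refine mem_centralizer_iff.2 fun q hq => ?_
    have h1 := h.comm_V0 hi hq hv
    have h2 := comm_of_eq h hi hy hq
    calc q * (v * ε y') = q * v * ε y' := by group
      _ = v * (q * ε y') := by rw [h1]; group
      _ = v * ε y' * q := by rw [h2]; group
  by_cases hy : y i = y 0
  · exact Or.inl ⟨hz, key y hy⟩
  · right
    refine ⟨mul_mem hz (rr_zc h hT), ?_⟩
    have h1 : (y + (Pi.single i 1 + Pi.single j 1) : Fin (2 ^ m + 1) → ZMod 2) i =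
        (y + (Pi.single i 1 + Pi.single j 1) : Fin (2 ^ m + 1) → ZMod 2) 0 := by
      rw [Pi.add_apply, Pi.add_apply, Pi.add_apply, Pi.add_apply, Pi.single_eq_same, Pi.single_eq_of_ne hij,
        Pi.single_eq_of_ne hi.symm, Pi.single_eq_of_ne hj.symm, add_zero, add_zero, add_zero]
      revert hy
      generalize y i = a
      generalize y 0 = b
      revert a b
      decide
    have h2 := key _ h1
    have h3 : v * ε (y + (Pi.single i 1 + Pi.single j 1)) = v * ε y * rr ε i j := by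
      rw [h.split.even.add, h.split.even.add, rr, zz, zz, mul_assoc]
    rwa [h3] at h2

/-- **the member over `T`** -/
theorem exists_R (hcv : cv (S : Subgroup G) P ≠ ⊥) (hij : i ≠ j) (hi : i ≠ 0) (hj : j ≠ 0)
    (hT : TOne (S : Subgroup G) ε i j T) (S₁ : Sylow 2 G) (hS₁ : (S₁ : Subgroup G) = T) :
    ∃ R : Subgroup G, IsParS T R ∧ Nat.card (zl T R) = 2 * Nat.card (zc T) ∧ cv T R ≠ ⊥ ∧
      zl T R ≤ zl (S : Subgroup G) P ∧ rr ε i 0 ∈ zl T R := by
  classical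
  have hE := h.split.even
  have h3 := h.three
  have hV := h.zc_le_V hN (o2_le_T h hT)
  obtain ⟨w, hw, hws⟩ := h.mov hN hij
  have hwT : w ∈ T := Q_le_T h hT (h.fac.ww h.c2 h.three hij hw)
  obtain ⟨w0, hw0, hw0s⟩ := h.mov hN hi
  have hw0Q : w0 ∈ o2 (NN ε i 0) := h.fac.ww h.c2 h.three hi hw0
  have hrz := rr_zc h hT
  -- `r_i0`
  have hu : rr ε i 0 * rr ε i 0 = 1 := rr_sq hE i 0
  have hzT : ∀ z ∈ zc T, ∀ t ∈ T, t * z = z * t := fun z hz => (mem_zc.1 hz).2.1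
  have hc : ∀ z ∈ zc T, z * rr ε i 0 = rr ε i 0 * z := fun z hz =>
    (hzT z hz _ (V_le_T h hT (rr_V h i 0))).symm
  have hwr : w * rr ε i 0 * w⁻¹ = rr ε j 0 := by
    rw [rr_conj hws, Equiv.swap_apply_left, Equiv.swap_apply_of_ne_of_ne hi.symm hj.symm]
  have hr0 : rr ε i 0 ∉ zc T := fun h0 => by
    have h1 := comm_iff.2 (hzT _ h0 w hwT)
    rw [hwr] at h1
    exact hij (hE.single_inj h3 (mul_right_cancel h1)).symm
  have hri : rr ε i 0 * rr ε i j = rr ε j 0 := by rw [rr_mul h, rr_symm hE]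
  have hrj : rr ε i 0 * rr ε j 0 = rr ε i j := by
    rw [← hri, ← mul_assoc, hu, one_mul]
  -- `V_s`
  obtain ⟨Vs, hVs⟩ : ∃ Vs : Subgroup G, Vs = dbl (zc T) (rr ε i 0) hu hc := ⟨_, rfl⟩
  have hmem : ∀ {x : G}, x ∈ Vs ↔ x ∈ zc T ∨ x * rr ε i 0 ∈ zc T := fun {x} => by rw [hVs]; exact mem_dbl
  have hzVs : zc T ≤ Vs := fun z hz => hmem.2 (Or.inl hz)
  have huVs : rr ε i 0 ∈ Vs := hmem.2 (Or.inr (by rw [hu]; exact one_mem _))
  have hjVs : rr ε j 0 ∈ Vs := by rw [← hri]; exact mul_mem huVs (hzVs hrz)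
  -- the group `X`
  obtain ⟨X, hX⟩ : ∃ X : Subgroup G, X = T ⊔ o2 (NN ε i 0) := ⟨_, rfl⟩
  have hTX : T ≤ X := hX ▸ le_sup_left
  have key : ∀ {K : Subgroup G}, (∀ x ∈ K, ∀ z ∈ zc T, x * z * x⁻¹ ∈ Vs) → (∀ x ∈ K, x * rr ε i 0 * x⁻¹ ∈ Vs) →
      K ≤ normalizer (Vs : Set G) := by
    intro K h1 h2
    refine le_normalizer_of fun x hx y hy => ?_
    rcases hmem.1 hy with hy | hy
    · exact h1 x hx y hy
    · have e : y = y * rr ε i 0 * rr ε i 0 := by rw [mul_assoc, hu, mul_one]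
      rw [e, cm]
      exact mul_mem (h1 x hx _ hy) (h2 x hx)
  have hXn : X ≤ normalizer (Vs : Set G) := by
    rw [hX]
    refine sup_le (key (fun x hx z hz => ?_) fun x hx => ?_) (key (fun q hq z hz => ?_) fun q hq => ?_)
    · rw [comm_iff.2 (hzT z hz x hx)]
      exact hzVs hz
    · rcases hT.line x hx with h1 | h1
      · rw [h1]; exact huVs
      · rw [h1]; exact hjVs
    · have hqr : q * rr ε i 0 * q⁻¹ = rr ε i 0 := comm_iff.2 (mem_NN.1 (o2_le _ hq))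
      rcases zc_mul h hN hij hi hj hT hz with h1 | h1
      · have h2 : q * z = z * q := mem_centralizer_iff.1 h1.2 q hq
        rw [comm_iff.2 h2]
        exact hzVs hz
      · have h2 : q * (z * rr ε i j) = z * rr ε i j * q := mem_centralizer_iff.1 h1.2 q hq
        have h3 : q * rr ε i j * q⁻¹ = rr ε i j ∨ q * rr ε i j * q⁻¹ = rr ε i j * rr ε i 0 :=
          h.conj_V hi hq (rr_V h i j)
        have hrr : rr ε i j * rr ε i j = 1 := rr_sq hE i j
        have e : z = z * rr ε i j * rr ε i j := by rw [mul_assoc, hrr, mul_one]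
        rw [e, cm, comm_iff.2 h2]
        rcases h3 with h3 | h3
        · rw [h3, ← e]; exact hzVs hz
        · rw [h3, ← mul_assoc, ← e]; exact mul_mem (hzVs hz) huVs
    · rw [comm_iff.2 (mem_NN.1 (o2_le _ hq))]
      exact huVs
  -- `Z_0`
  have hrr0 : rr ε i j ∉ Z0 T ε i := fun h0 => by
    have h1 : w0 * rr ε i j = rr ε i j * w0 := mem_centralizer_iff.1 h0.2 w0 hw0Q
    have h2 := comm_iff.2 h1
    rw [rr_conj hw0s, Equiv.swap_apply_left, Equiv.swap_apply_of_ne_of_ne hij.symm hj] at h2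
    exact rr_ne h hi h2.symm
  have hcard : Nat.card (zc T) = Nat.card (zc (S : Subgroup G)) := by
    obtain ⟨g, hg⟩ := MulAction.exists_smul_eq G S S₁
    have h1 : T = cj g (S : Subgroup G) := by
      rw [← hS₁, ← hg]
      rfl
    rw [h1]
    have h2 : zc (cj g (S : Subgroup G)) = cj g (zc (S : Subgroup G)) := zc_map_equiv (MulAut.conj g) _
    rw [h2]
    exact (Nat.card_congr ((zc (S : Subgroup G)).equivMapOfInjective _ (MulAut.conj g).injective).toEquiv).symm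
  obtain ⟨e, he, he1⟩ : ∃ e ∈ Z0 T ε i, e ≠ 1 := by
    by_contra h0
    push Not at h0
    have h1 : ∀ z ∈ zc T, z = 1 ∨ z = rr ε i j := by
      intro z hz
      rcases zc_mul h hN hij hi hj hT hz with h1 | h1
      · exact Or.inl (h0 z h1)
      · right
        have h2 := h0 _ h1
        rw [mul_eq_one_iff_eq_inv] at h2
        rw [h2]
        exact inv_eq_of_mul_eq_one_left (rr_sq hE i j)
    have h2 : Nat.card (zc T) ≤ 2 := by
      have h3 : (zc T : Set G) ⊆ {1, rr ε i j} := fun z hz => h1 z hz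
      have h4 : Nat.card (zc T) = (zc T : Set G).ncard := rfl
      rw [h4]
      exact (Set.ncard_le_ncard h3 (Set.toFinite _)).trans (Set.ncard_insert_le _ _ |>.trans (by simp))
    have h3 := h.split.card_zc h.c2 h.par (by have := h.m2; omega)
    have h4 : 1 < Nat.card (cv (S : Subgroup G) P) := Subgroup.one_lt_card_iff_ne_bot _ |>.2 hcv
    omega
  have heX : X ≤ centralizer {e} := by
    rw [hX]
    refine sup_le (fun x hx => mem_cent.2 (comm_iff.2 (hzT e he.1 x hx))) fun q hq => mem_cent.2 (comm_iff.2 ?_)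
    exact mem_centralizer_iff.1 he.2 q hq
  have hZX : X ≤ centralizer (Z0 T ε i : Set G) := by
    rw [hX]
    refine sup_le (fun x hx => mem_centralizer_iff.2 fun z hz => (hzT z hz.1 x hx).symm)
      fun q hq => mem_centralizer_iff.2 fun z hz => (mem_centralizer_iff.1 hz.2 q hq).symm
  have hXz : ¬ X ≤ normalizer (zc T : Set G) := by
    intro h0
    have h1 : w0 ∈ X := hX ▸ (le_sup_right : o2 (NN ε i 0) ≤ T ⊔ o2 (NN ε i 0)) hw0Q
    have h2 := (mem_normalizer_iff.1 (h0 h1) _).1 hrz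
    rw [rr_conj hw0s, Equiv.swap_apply_left, Equiv.swap_apply_of_ne_of_ne hij.symm hj] at h2
    have h3 : w * rr ε 0 j * w⁻¹ = rr ε 0 i := by
      rw [rr_conj hws, Equiv.swap_apply_right, Equiv.swap_apply_of_ne_of_ne hi.symm hj.symm]
    have h4 := comm_iff.2 (hzT _ h2 w hwT)
    rw [h3] at h4
    exact hij (hE.single_inj h.three (mul_left_cancel h4))
  -- `R`
  have he2 : e ^ 2 = 1 := (mem_zc.1 he.1).2.2
  have hTe : T ≤ centralizer {e} := hTX.trans heX
  have hloc : IsLoc T X := by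
    have h1 := MinPar.isLoc_centralizer S₁ he2 he1 (by rw [hS₁]; exact hTe)
    rw [hS₁] at h1
    have h2 := h1
    rw [← hS₁] at h2
    have h3 := h2.of_le S₁ (by rw [hS₁]; exact hTX) heX
    rwa [hS₁] at h3
  obtain ⟨R, hR, hRX, hRn⟩ : ∃ R, IsPar T R ∧ R ≤ X ∧ ¬ R ≤ normalizer (zc T : Set G) := by
    have h1 := hloc
    rw [← hS₁] at h1 hXz ⊢
    exact h1.exists_not_le (M := normalizer (zc (S₁ : Subgroup G) : Set G)) S₁
      (inf_le_right.trans (normalizer_le_normalizer_zc _)) hXz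
  have hRS : IsParS T R := ⟨hR, hRn⟩
  have hzl : zl T R = Vs := by
    rw [hVs]
    refine dbl_eq_of_lt (zc_le_zl _ _) (by rw [← hVs]; exact zl_le hzVs (hRX.trans hXn)) fun h2 => hRn ?_
    rw [← h2]
    exact le_normalizer_zl _ _
  refine ⟨R, hRS, ?_, fun h2 => he1 ?_, ?_, ?_⟩
  · rw [hzl, hVs]
    exact card_dbl hr0
  · have h3 : e ∈ cv T R := by
      refine mem_inf.2 ⟨zc_le_zl _ _ he.1, ?_⟩
      have h4 : MinSimple.VModule.oddGen R ≤ centralizer {e} := (MinSimple.VModule.oddGen_le R).trans (hRX.trans heX)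
      exact mem_centralizer_iff.2 fun x hx => comm_iff.1 (mem_cent.1 (h4 hx))
    rw [h2] at h3
    exact mem_bot.1 h3
  · rw [hzl]
    intro x hx
    rcases hmem.1 hx with hx | hx
    · exact hV hx
    · have e1 : x = x * rr ε i 0 * rr ε i 0 := by rw [mul_assoc, hu, mul_one]
      rw [e1]
      exact mul_mem (hV hx) (rr_V h i 0)
  · rw [hzl]
    exact huVs

/-- **(END-C)** the member over `S` -/
theorem exists_exG (hcv : cv (S : Subgroup G) P ≠ ⊥) (hij : i ≠ j) (hi : i ≠ 0) (hj : j ≠ 0)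
    (hT : TOne (S : Subgroup G) ε i j T) (hc : ∃ T₀ : Sylow 2 G, (T₀ : Subgroup G) ≤ centralizer {rr ε i j}) :
    ∃ R k, ExG S P (rr ε i j) (rr ε i 0) R k := by
  have hTi : ¬ 2 ∣ T.index := by
    obtain ⟨T₀, hT₀⟩ := hc
    have h1 : T.relIndex (NN ε i j) * (NN ε i j).index = T.index := relIndex_mul_index hT.le
    rw [← h1]
    intro h2
    rcases (Nat.prime_two.dvd_mul).1 h2 with h3 | h3
    · exact hT.odd h3
    · have h4 : (NN ε i j).index ∣ (T₀ : Subgroup G).index := index_dvd_of_le hT₀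
      exact not_dvd T₀ (h3.trans h4)
  have hf : Fact (Nat.Prime 2) := ⟨Nat.prime_two⟩
  obtain ⟨S₁, hS₁⟩ : ∃ S₁ : Sylow 2 G, (S₁ : Subgroup G) = T := ⟨hT.pg.toSylow hTi, rfl⟩
  obtain ⟨R, hR, hcard, hne, hV, hmem⟩ := exists_R h hN hcv hij hi hj hT S₁ hS₁
  obtain ⟨g, hg⟩ := MulAction.exists_smul_eq G S S₁
  have hTg : T = cj g (S : Subgroup G) := by
    rw [← hS₁, ← hg]
    rfl
  have hS : (S : Subgroup G) = cj g⁻¹ T := by
    ext x
    rw [mem_cj, hTg, mem_cj]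
    have e : g⁻¹ * (g⁻¹⁻¹ * x * g⁻¹) * g = x := by group
    rw [e]
  have hzl : zl (S : Subgroup G) (cj g⁻¹ R) = cj g⁻¹ (zl T R) := by
    rw [hS]; exact HOne.NSMain.zl_cj _ _ _
  have hzc : zc (S : Subgroup G) = cj g⁻¹ (zc T) := by
    rw [hS]; exact zc_map_equiv (MulAut.conj g⁻¹) _
  have hcard' : ∀ K : Subgroup G, Nat.card (cj g⁻¹ K) = Nat.card K := fun K =>
    (Nat.card_congr (K.equivMapOfInjective _ (MulAut.conj g⁻¹).injective).toEquiv).symm
  refine ⟨cj g⁻¹ R, g, ?_, ?_, ?_, ?_, ?_, ?_, ?_, h.V_le hij, rr_V h i 0⟩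
  · rw [hS]; exact HOne.NSMain.isParS_cj hR _
  · rw [hzl, hzc, hcard', hcard', hcard]
  · have h1 : cv (S : Subgroup G) (cj g⁻¹ R) = cj g⁻¹ (cv T R) := by
      rw [hS]; exact HOne.NSMain.cv_cj _ _ _
    rw [h1]
    intro h2
    exact hne ((map_eq_bot_iff_of_injective _ (MulAut.conj g⁻¹).injective).1 h2)
  · intro x hx
    rw [hzl, mem_cj] at hx
    have e : g⁻¹⁻¹ * x * g⁻¹ = g * x * g⁻¹ := by group
    rw [e] at hx
    exact h.V_le hij (hV hx)
  · intro q hq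
    have h1 := Q_le_T h hT hq
    rw [hTg, mem_cj] at h1
    exact h1
  · rw [hzl, mem_cj]
    have e : g⁻¹⁻¹ * (g⁻¹ * rr ε i 0 * g) * g⁻¹ = rr ε i 0 := by group
    rw [e]
    exact hmem
  · exact fun x hx => cen_or h hij hi hj hx

end main

/-! ### Mutual pairs -/

/-- `Cen.Ex` is `ExG` -/
theorem ExG.of_ex [Finite G] {S : Sylow 2 G} {P R : Subgroup G} {p : Fin 5 → G} {k : G} (E : Cen.Ex S P p R k) :
    ExG S P (NTwo.nn p) (p 0 * p 4) R k :=
  ⟨E.star, E.card, E.ne, E.VQ, E.QS, E.c_mem, E.cen, E.V_Q, E.c_V⟩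

namespace ExG

variable [Finite G] {S : Sylow 2 G} {P R : Subgroup G} {n c k : G} (E : ExG S P n c R k)
include E

/-- `V_R^k` and a subgroup `W ≤ O₂(C(n))` normalised by `O₂(C(n))` -/
theorem conj_norm {W : Subgroup G} {x : G}
    (hW : MulAut.conj x • W ≤ o2 (centralizer {n})) (hn : ∀ q ∈ o2 (centralizer {n}), x⁻¹ * q * x ∈ normalizer (W : Set G)) :
    zl (S : Subgroup G) R ≤ normalizer ((MulAut.conj (k⁻¹ * x) • W : Subgroup G) : Set G) ∧
      MulAut.conj (k⁻¹ * x) • W ≤ normalizer (zl (S : Subgroup G) R : Set G) := by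
  have hkR : ∀ q ∈ o2 (centralizer {n}), k⁻¹ * q * k ∈ normalizer (zl (S : Subgroup G) R : Set G) := fun q hq =>
    le_normalizer_zl _ _ (E.star.le (E.QS q hq))
  refine ⟨le_normalizer_of fun y hy z hz => ?_, fun z hz => ?_⟩
  · rw [mem_csmul] at hz ⊢
    have h1 := hn _ (E.VQ y hy)
    have h2 := (mem_normalizer_iff.1 h1 _).1 hz
    have h3 : (k⁻¹ * x)⁻¹ * (y * z * y⁻¹) * (k⁻¹ * x) =
        x⁻¹ * (k * y * k⁻¹) * x * ((k⁻¹ * x)⁻¹ * z * (k⁻¹ * x)) * (x⁻¹ * (k * y * k⁻¹) * x)⁻¹ := by group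
    rwa [h3]
  · rw [mem_csmul] at hz
    have h1 : k * z * k⁻¹ ∈ o2 (centralizer {n}) := by
      apply hW
      rw [mem_csmul]
      have h2 : x⁻¹ * (k * z * k⁻¹) * x = (k⁻¹ * x)⁻¹ * z * (k⁻¹ * x) := by group
      rwa [h2]
    have h2 := hkR _ h1
    have h3 : k⁻¹ * (k * z * k⁻¹) * k = z := by group
    rwa [h3] at h2

/-- natural partner -/
theorem nat {P₂ : Subgroup G} {y : G} (hP₂ : IsParS (S : Subgroup G) P₂)
    (hV : MulAut.conj y • zl (S : Subgroup G) P₂ ≤ o2 (centralizer {n}))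
    (hn : y⁻¹ * n * y ∈ zc (S : Subgroup G))
    (hne : ⁅zl (S : Subgroup G) P, MulAut.conj y • zl (S : Subgroup G) P₂⁆ ≠ ⊥) :
    Mutual (S : Subgroup G) R P₂ (k⁻¹ * y) := by
  obtain ⟨-, hn2, -⟩ := mem_zc.1 hn
  have hSn : (S : Subgroup G) ≤ centralizer {y⁻¹ * n * y} := fun x hx => mem_cent.2 (comm_iff.2 (hn2 x hx))
  have hyn : y * (y⁻¹ * n * y) * y⁻¹ = n := by group
  have h1 : ∀ q ∈ o2 (centralizer {n}), y⁻¹ * q * y ∈ (S : Subgroup G) := fun q hq =>
    o2_le_of_sylow S.isPGroup' (MinSimple.Basic.not_dvd_relIndex S hSn) (o2_cent_conj' hyn hq)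
  obtain ⟨h2, h3⟩ := E.conj_norm hV fun q hq => le_normalizer_zl _ _ (hP₂.le (h1 q hq))
  refine ⟨E.star, hP₂, h2, h3, fun h4 => hne ?_⟩
  rw [commutator_eq_bot_iff_le_centralizer] at h4 ⊢
  -- `c` commutes with `V'`
  have hc : ∀ z ∈ MulAut.conj y • zl (S : Subgroup G) P₂, z * c = c * z := by
    intro z hz
    have h5 : k⁻¹ * z * k ∈ MulAut.conj (k⁻¹ * y) • zl (S : Subgroup G) P₂ := by
      rw [mem_csmul] at hz ⊢
      have h6 : (k⁻¹ * y)⁻¹ * (k⁻¹ * z * k) * (k⁻¹ * y) = y⁻¹ * z * y := by group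
      rwa [h6]
    have h6 := mem_centralizer_iff.1 (h4 E.c_mem) _ h5
    calc z * c = k * (k⁻¹ * z * k * (k⁻¹ * c * k)) * k⁻¹ := by group
      _ = k * (k⁻¹ * c * k * (k⁻¹ * z * k)) * k⁻¹ := by rw [h6]
      _ = c * z := by group
  intro x hx
  refine mem_centralizer_iff.2 fun z hz => ?_
  rcases E.cen x hx with h5 | h5
  · exact h5 z (hV hz)
  · have h6 := h5 z (hV hz)
    have h7 := hc z hz
    have h8 : z * x * c = x * z * c := by
      calc z * x * c = z * (x * c) := by group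
        _ = x * (c * z) := by rw [h6]; group
        _ = x * z * c := by rw [← h7]; group
    exact mul_right_cancel h8

theorem nonFree_nat {P₂ : Subgroup G} {y : G} (hP₂ : IsParS (S : Subgroup G) P₂)
    (hV : MulAut.conj y • zl (S : Subgroup G) P₂ ≤ o2 (centralizer {n}))
    (hn : y⁻¹ * n * y ∈ zc (S : Subgroup G))
    (hne : ⁅zl (S : Subgroup G) P, MulAut.conj y • zl (S : Subgroup G) P₂⁆ ≠ ⊥)
    (hcv : cv (S : Subgroup G) P₂ ≠ ⊥) :
    NonFree (S : Subgroup G) R P₂ (k⁻¹ * y) := ⟨E.nat hP₂ hV hn hne, E.ne, hcv⟩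

/-- T-partner -/
theorem tt {P₂ R₂ : Subgroup G} {n₂ c₂ k₂ y : G} (E₂ : ExG S P₂ n₂ c₂ R₂ k₂)
    (hy : y * n₂ * y⁻¹ = n)
    (hne : ⁅zl (S : Subgroup G) P, MulAut.conj y • zl (S : Subgroup G) P₂⁆ ≠ ⊥) :
    Mutual (S : Subgroup G) R R₂ (k⁻¹ * y * k₂) := by
  have hQ : ∀ q ∈ o2 (centralizer {n₂}), y * q * y⁻¹ ∈ o2 (centralizer {n}) := fun q hq => o2_cent_conj hy hq
  have hQ' : ∀ q ∈ o2 (centralizer {n}), y⁻¹ * q * y ∈ o2 (centralizer {n₂}) := fun q hq => o2_cent_conj' hy hq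
  have h0 : MulAut.conj (y * k₂) • zl (S : Subgroup G) R₂ ≤ o2 (centralizer {n}) := by
    intro z hz
    rw [mem_csmul] at hz
    have h1 := hQ _ (E₂.VQ _ hz)
    have h2 : y * (k₂ * ((y * k₂)⁻¹ * z * (y * k₂)) * k₂⁻¹) * y⁻¹ = z := by group
    rwa [h2] at h1
  obtain ⟨h2, h3⟩ := E.conj_norm (x := y * k₂) h0 fun q hq => by
    have h4 := le_normalizer_zl (S : Subgroup G) R₂ (E₂.star.le (E₂.QS _ (hQ' q hq)))
    have h5 : k₂⁻¹ * (y⁻¹ * q * y) * k₂ = (y * k₂)⁻¹ * q * (y * k₂) := by group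
    rwa [h5] at h4
  rw [← mul_assoc] at h2 h3
  refine ⟨E.star, E₂.star, h2, h3, fun h4 => hne ?_⟩
  rw [commutator_eq_bot_iff_le_centralizer] at h4 ⊢
  -- `c` and `c'` commute
  have hcc : y * c₂ * y⁻¹ * c = c * (y * c₂ * y⁻¹) := by
    have h5 : k⁻¹ * (y * c₂ * y⁻¹) * k ∈ MulAut.conj (k⁻¹ * y * k₂) • zl (S : Subgroup G) R₂ := by
      rw [mem_csmul]
      have h6 : (k⁻¹ * y * k₂)⁻¹ * (k⁻¹ * (y * c₂ * y⁻¹) * k) * (k⁻¹ * y * k₂) =
        k₂⁻¹ * c₂ * k₂ := by group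
      rw [h6]
      exact E₂.c_mem
    have h6 := mem_centralizer_iff.1 (h4 E.c_mem) _ h5
    generalize y * c₂ * y⁻¹ = c' at h6 ⊢
    calc c' * c = k * (k⁻¹ * c' * k * (k⁻¹ * c * k)) * k⁻¹ := by group
      _ = k * (k⁻¹ * c * k * (k⁻¹ * c' * k)) * k⁻¹ := by rw [h6]
      _ = c * c' := by group
  intro x hx
  refine mem_centralizer_iff.2 fun z hz => ?_
  replace hz : z ∈ MulAut.conj y • zl (S : Subgroup G) P₂ := hz
  rw [mem_csmul] at hz
  obtain ⟨x', hx', hzx⟩ : ∃ x' ∈ zl (S : Subgroup G) P₂, z = y * x' * y⁻¹ := ⟨_, hz, by group⟩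
  have hzQ : z ∈ o2 (centralizer {n}) := by rw [hzx]; exact hQ _ (E₂.V_Q hx')
  have hxQ : x ∈ o2 (centralizer {n}) := E.V_Q hx
  have hcQ : c ∈ o2 (centralizer {n}) := E.V_Q E.c_V
  have hcQ' : y * c₂ * y⁻¹ ∈ o2 (centralizer {n}) := hQ _ (E₂.V_Q E₂.c_V)
  -- the centraliser statement for `V'`
  have hcen : (∀ q ∈ o2 (centralizer {n}), q * z = z * q) ∨
      ∀ q ∈ o2 (centralizer {n}), q * (z * (y * c₂ * y⁻¹)) = z * (y * c₂ * y⁻¹) * q := by
    have key : ∀ x' q : G, (y⁻¹ * q * y) * x' = x' * (y⁻¹ * q * y) → q * (y * x' * y⁻¹) = y * x' * y⁻¹ * q := by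
      intro x' q h5
      calc q * (y * x' * y⁻¹) = y * ((y⁻¹ * q * y) * x') * y⁻¹ := by group
        _ = y * (x' * (y⁻¹ * q * y)) * y⁻¹ := by rw [h5]
        _ = y * x' * y⁻¹ * q := by group
    rcases E₂.cen x' hx' with h5 | h5
    · left
      intro q hq
      rw [hzx]
      exact key _ _ (h5 _ (hQ' q hq))
    · right
      intro q hq
      rw [hzx, ← cm]
      exact key _ _ (h5 _ (hQ' q hq))
  revert hcc hcQ' hcen
  generalize y * c₂ * y⁻¹ = c'
  have hcx := E.cen x hx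
  revert hcQ hcx
  intro hcQ hcx hcc hcQ' hcen
  rcases hcx with h5 | h5
  · exact h5 z hzQ
  rcases hcen with h6 | h6
  · exact (h6 x hxQ).symm
  -- `z` commutes with `c`
  have h7 : c * z = z * c := by
    have h8 := h6 c hcQ
    have h9 : c * z * c' = z * c * c' := by
      calc c * z * c' = c * (z * c') := by group
        _ = z * (c' * c) := by rw [h8]; group
        _ = z * c * c' := by rw [hcc]; group
    exact mul_right_cancel h9
  have h8 := h5 z hzQ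
  have h9 : z * x * c = x * z * c := by
    calc z * x * c = z * (x * c) := by group
      _ = x * (c * z) := by rw [h8]; group
      _ = x * z * c := by rw [h7]; group
  exact mul_right_cancel h9

theorem nonFree_tt {P₂ R₂ : Subgroup G} {n₂ c₂ k₂ y : G} (E₂ : ExG S P₂ n₂ c₂ R₂ k₂)
    (hy : y * n₂ * y⁻¹ = n)
    (hne : ⁅zl (S : Subgroup G) P, MulAut.conj y • zl (S : Subgroup G) P₂⁆ ≠ ⊥) :
    NonFree (S : Subgroup G) R R₂ (k⁻¹ * y * k₂) := ⟨E.tt E₂ hy hne, E.ne, E₂.ne⟩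

end ExG

end Cfsg.Agent.Omega.F4Leaf.Syl.EndC
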