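import Cfsg.Agent.Omega.IId.Cv.MixS
import Cfsg.Agent.Omega.F4Leaf.Two
import Cfsg.Agent.Omega.NSix.CaseJ.LemQ

/-!
# LeafF4: mixed pairs (piece F of #21478), from 994's `MixS.mix_sym` (helper300)

* `NonAb ε i j o` : two `C_G(r_ij)`-conjugates of `x₀ = r_io` do not commute; `nonAb_of` : it is enough that two
  `C_G(r_ij)`-conjugates of elements of `A` do not commute;
* `nonab` : for two members of types `S_{2^m+1}`, `S_{2^m'+1}` of a mutual pair, `r_ij = r'_kl` (`V₀ ≠ 1` or `m = 2`), one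
  of `⟨V^{C_G(n)}⟩`, `⟨V'^{C_G(n)}⟩` is nonabelian.
-/

set_option autoImplicit false

namespace Cfsg.Agent.Omega.F4Leaf.Syl.Mix

open Subgroup Pointwise Cfsg Cfsg.Agent Cfsg.Agent.Omega.MinPar
open Cfsg.Agent.ZN (o2 zc zl)
open Cfsg.Agent.ZN.ChoiceBase
open Cfsg.Agent.Omega.FrameFF (cv Single Free)
open Cfsg.Agent.Omega.S5.Def Cfsg.Agent.Omega.S5.Pair
open Cfsg.Agent.Omega.NSix.Base Cfsg.Agent.Omega.NSix.Basic
open Cfsg.Agent.Omega.F4Leaf.Def Cfsg.Agent.Omega.F4Leaf.Main Cfsg.Agent.Omega.F4Leaf.Facts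
open Cfsg.Agent.Omega.IId.Cv (E3 mem_E3 card_E3 norm_E3)
open Cfsg.Agent.MinSimple.VModule (o2_isPGroup o2_le le_normalizer_o2)

universe u

variable {G : Type u} [Group G]

/-- two `C_G(r_ij)`-conjugates of `r_io` do not commute -/
def NonAb {n : ℕ} (ε : (Fin n → ZMod 2) → G) (i j o : Fin n) : Prop :=
  ∃ h ∈ NN ε i j, rr ε i o * (h * rr ε i o * h⁻¹) ≠ h * rr ε i o * h⁻¹ * rr ε i o

/-- the pairs `{i, p}` generate `A` -/
theorem le_of_rr_i {m : ℕ} {A P : Subgroup G} {ε : (Fin (2 ^ m + 1) → ZMod 2) → G}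
    (h : EvenSet (2 ^ m + 1) A P ε) (hm : 1 ≤ m) (i : Fin (2 ^ m + 1)) {W : Subgroup G}
    (hW : ∀ p, p ≠ i → rr ε i p ∈ W) : A ≤ W := by
  have key : ∀ p, rr ε i p ∈ W := by
    intro p
    by_cases hp : p = i
    · subst hp
      have h1 : rr ε p p = 1 := h.sq _
      rw [h1]
      exact one_mem _
    · exact hW p hp
  refine NSix.CaseJ.LemQ.V_le_of_rr h hm fun p => ?_
  rw [← rr_add h p i 0, rr_symm h p i]
  exact mul_mem (key p) (key 0)

/-- it is enough to look at `A` -/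
theorem nonAb_of {m : ℕ} {A P : Subgroup G} {ε : (Fin (2 ^ m + 1) → ZMod 2) → G}
    (h : EvenSet (2 ^ m + 1) A P ε) (hm : 1 ≤ m) {i j o : Fin (2 ^ m + 1)} (hij : i ≠ j) (oi : o ≠ i) (oj : o ≠ j)
    (hx : ∃ g ∈ NN ε i j, ∃ a ∈ A, ∃ b ∈ A, a * (g * b * g⁻¹) ≠ g * b * g⁻¹ * a) : NonAb ε i j o := by
  by_contra hcon
  have hc : ∀ g ∈ NN ε i j, rr ε i o * (g * rr ε i o * g⁻¹) = g * rr ε i o * g⁻¹ * rr ε i o := by
    intro g hg
    by_contra h1
    exact hcon ⟨g, hg, h1⟩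
  -- representatives
  have rep : ∀ p, p ≠ i → p ≠ j → ∃ c ∈ NN ε i j, c * rr ε i o * c⁻¹ = rr ε i p := by
    intro p pi pj
    obtain ⟨c, hcP, hcσ⟩ := h.full (Equiv.swap o p)
    refine ⟨c, ?_, ?_⟩
    · rw [mem_NN']
      rw [rr_conj hcσ, Equiv.swap_apply_of_ne_of_ne oi.symm pi.symm, Equiv.swap_apply_of_ne_of_ne oj.symm pj.symm]
    · rw [rr_conj hcσ, Equiv.swap_apply_of_ne_of_ne oi.symm pi.symm, Equiv.swap_apply_left]
  have key : ∀ g ∈ NN ε i j, ∀ p, p ≠ i → ∀ q, q ≠ i →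
      rr ε i p * (g * rr ε i q * g⁻¹) = g * rr ε i q * g⁻¹ * rr ε i p := by
    intro g hg p pi q qi
    have hgn := mem_NN.mp hg
    by_cases pj : p = j
    · subst pj
      -- `r_ij` is central in `C_G(r_ij)`
      by_cases qj : q = p
      · subst qj
        rw [hgn, mul_inv_cancel_right]
      · obtain ⟨c, hc1, hc2⟩ := rep q qi qj
        have h1 : rr ε i p * rr ε i q = rr ε i q * rr ε i p := h.comm_mem (rr_mem h i p) (rr_mem h i q)
        calc rr ε i p * (g * rr ε i q * g⁻¹) = (rr ε i p * g) * rr ε i q * g⁻¹ := by group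
          _ = (g * rr ε i p) * rr ε i q * g⁻¹ := by rw [hgn]
          _ = g * (rr ε i p * rr ε i q) * g⁻¹ := by group
          _ = g * (rr ε i q * rr ε i p) * g⁻¹ := by rw [h1]
          _ = g * rr ε i q * g⁻¹ * (g * rr ε i p * g⁻¹) := by group
          _ = _ := by rw [hgn, mul_inv_cancel_right]
    · by_cases qj : q = j
      · subst qj
        rw [hgn, mul_inv_cancel_right]
        exact h.comm_mem (rr_mem h i p) (rr_mem h i q)
      · obtain ⟨c, hc1, hc2⟩ := rep p pi pj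
        obtain ⟨d, hd1, hd2⟩ := rep q qi qj
        have h1 := hc (c⁻¹ * g * d) (mul_mem (mul_mem (inv_mem hc1) hg) hd1)
        rw [← hc2, ← hd2]
        calc c * rr ε i o * c⁻¹ * (g * (d * rr ε i o * d⁻¹) * g⁻¹)
            = c * (rr ε i o * (c⁻¹ * g * d * rr ε i o * (c⁻¹ * g * d)⁻¹)) * c⁻¹ := by group
          _ = _ := by rw [h1]; group
  obtain ⟨g, hg, a, ha, b, hb, hne⟩ := hx
  refine hne ?_
  -- `A ≤ C(g r_iq g⁻¹)`
  have h1 : ∀ q, q ≠ i → ∀ a ∈ A, a * (g * rr ε i q * g⁻¹) = g * rr ε i q * g⁻¹ * a := by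
    intro q qi a ha
    have h2 : A ≤ centralizer ({g * rr ε i q * g⁻¹} : Set G) :=
      le_of_rr_i h hm i fun p pi => mem_centralizer_singleton_iff.mpr (key g hg p pi q qi)
    exact mem_centralizer_singleton_iff.mp (h2 ha)
  have h2 : A ≤ centralizer ({g⁻¹ * a * g} : Set G) := by
    refine le_of_rr_i h hm i fun q qi => mem_centralizer_singleton_iff.mpr ?_
    have h3 := h1 q qi a ha
    calc rr ε i q * (g⁻¹ * a * g) = g⁻¹ * (g * rr ε i q * g⁻¹ * a) * g := by group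
      _ = _ := by rw [← h3]; group
  have h3 := mem_centralizer_singleton_iff.mp (h2 hb)
  calc a * (g * b * g⁻¹) = g * (g⁻¹ * a * g * b) * g⁻¹ := by group
    _ = _ := by rw [← h3]; group

section pair

variable [Finite G] {S : Sylow 2 G} {P₁ P₂ : Subgroup G} {y : G} {m m' : ℕ} {A : Subgroup G}
  {ε : (Fin (2 ^ m + 1) → ZMod 2) → G} {A₂ : Subgroup G} {ε₂ : (Fin (2 ^ m' + 1) → ZMod 2) → G}

/-- **MIXED pairs.** -/
theorem nonab (hG : IsCharacteristicTwoType G) (hl : LabTwoZ S P₁ P₂ y m m' A ε A₂ ε₂) (hm : 2 ≤ m) (hm' : 2 ≤ m')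
    (hc : cv (S : Subgroup G) P₁ ≠ ⊥ ∨ m = 2) {i j : Fin (2 ^ m + 1)} {k l : Fin (2 ^ m' + 1)} (hij : i ≠ j)
    (hkl : k ≠ l) (hr : rr ε i j = rr (fun x => y * ε₂ x * y⁻¹) k l)
    (hb : ∃ b ∈ cj y A₂, Acts ε b (Equiv.swap i j)) :
    (∀ o, o ≠ i → o ≠ j → NonAb ε i j o) ∨
      ∀ o, o ≠ k → o ≠ l → NonAb (fun x => y * ε₂ x * y⁻¹) k l o := by
  by_contra hcon
  push Not at hcon
  obtain ⟨⟨o, oi, oj, hn1⟩, o', ok, ol, hn2⟩ := hcon
  have s₁ : Pos.Sit S P₁ m A ε := ⟨hG, hl.pair.star₁, hm, hl.split⟩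
  have s₂ : Pos.Sit S P₂ m' A₂ ε₂ := ⟨hG, hl.pair.star₂, hm', hl.split₂⟩
  have f₂ := s₂.fac.conj y
  set ε' : (Fin (2 ^ m' + 1) → ZMod 2) → G := fun x => y * ε₂ x * y⁻¹ with hε'
  have ev := hl.split.even
  have ev' : EvenSet (2 ^ m' + 1) (cj y A₂) (cj y P₂) ε' := f₂.ev
  have hn5 : 5 ≤ 2 ^ m + 1 := S5.Syl.five_le hm
  have hn5' : 5 ≤ 2 ^ m' + 1 := S5.Syl.five_le hm'
  have hNN : NN ε i j = NN ε' k l := by
    unfold NN
    rw [hr]
  -- everything commutes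
  have c1 : ∀ g ∈ NN ε i j, ∀ a ∈ A, ∀ b ∈ A, a * (g * b * g⁻¹) = g * b * g⁻¹ * a := by
    intro g hg a ha b hb
    by_contra h1
    exact hn1 (nonAb_of ev (by omega) hij oi oj ⟨g, hg, a, ha, b, hb, h1⟩)
  have c2 : ∀ g ∈ NN ε i j, ∀ a ∈ cj y A₂, ∀ b ∈ cj y A₂, a * (g * b * g⁻¹) = g * b * g⁻¹ * a := by
    intro g hg a ha b hb
    by_contra h1
    exact hn2 (nonAb_of ev' (by omega) hkl ok ol ⟨g, hNN ▸ hg, a, ha, b, hb, h1⟩)
  -- `V' ` acts as `⟨(i j)⟩`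
  obtain ⟨b, hb, hbs⟩ := hb
  have hact : ∀ c ∈ cj y A₂, Acts ε c 1 ∨ Acts ε c (Equiv.swap i j) := by
    obtain ⟨i0, j0, -, -, hij0, -, -, -, h2, -⟩ := Two.exists_common hG hl hm hm'
    rcases h2 b hb with h3 | h3
    · exfalso
      exact hij (Equiv.swap_eq_one_iff.mp (ev.acts_unique (by omega) hbs h3))
    · have h4 := ev.acts_unique (by omega) hbs h3
      intro c hc
      rw [h4]
      exact h2 c hc
  obtain ⟨p, pk, pl, hp⟩ : ∃ p, p ≠ k ∧ p ≠ l ∧ Acts ε (rr ε' k p) (Equiv.swap i j) := by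
    by_contra hcon
    push Not at hcon
    have h1 : cj y A₂ ≤ centralizer (A : Set G) := by
      refine le_of_rr_i ev' (by omega) k fun p pk => ?_
      by_cases pl : p = l
      · subst pl
        rw [← hr]
        exact mem_centralizer_iff.mpr fun a ha => ev.comm_mem ha (rr_mem ev i j)
      · rcases hact _ (rr_mem ev' k p) with h2 | h2
        · exact ev.acts_one_iff.mp h2
        · exact absurd h2 (hcon p pk pl)
    exact hij (Equiv.swap_eq_one_iff.mp (ev.acts_unique (by omega) hbs (ev.acts_one_iff.mpr (h1 hb))))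
  have hr0 : rr ε' k l ∈ E3 ev' k l p := mem_E3.2 (Or.inr (Or.inl rfl))
  have m2 : rr ε' k p ∈ E3 ev' k l p := mem_E3.2 (Or.inr (Or.inr (Or.inl rfl)))
  have m3 : rr ε' l p ∈ E3 ev' k l p := mem_E3.2 (Or.inr (Or.inr (Or.inr rfl)))
  have hEA : E3 ev' k l p ≤ cj y A₂ := by
    intro x hx
    rcases mem_E3.1 hx with rfl | rfl | rfl | rfl
    · exact one_mem _
    · exact rr_mem ev' _ _
    · exact rr_mem ev' _ _
    · exact rr_mem ev' _ _
  refine IId.MixS.mix_sym s₁ hij ⟨b, hl.le ?_, hbs⟩ hc (V₁ := E3 ev' k l p)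
    (card_E3 ev' hn5' hkl pk.symm pl.symm) (fun v hv => ev'.sq_mem (hEA hv)) (hr ▸ hr0) ?_ ?_
    ⟨_, m2, hp⟩ (fun g hg v hv w hw => c2 g hg v (hEA hv) w (hEA hw)) ?_
  · have h1 := hl.split₂.A_le
    rw [mem_cj] at hb ⊢
    exact h1 hb
  · intro v hv hv1
    rw [hr]
    rcases mem_E3.1 hv with rfl | rfl | rfl | rfl
    · exact absurd rfl hv1
    · exact ⟨1, one_mem _, by group⟩
    · obtain ⟨g, hg, hσ⟩ := ev'.full (Equiv.swap l p)
      have e1 : Equiv.swap l p k = k := Equiv.swap_apply_of_ne_of_ne hkl pk.symm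
      have e2 : Equiv.swap l p l = p := Equiv.swap_apply_left _ _
      have e3 : Equiv.swap l p p = l := Equiv.swap_apply_right _ _
      refine ⟨g, norm_E3 ev' hσ ?_ ?_ ?_, ?_⟩
      · rw [e1, e2]; exact m2
      · rw [e1, e3]; exact hr0
      · rw [e2, e3, rr_symm ev']; exact m3
      · rw [rr_conj hσ, e1, e2]
    · obtain ⟨g, hg, hσ⟩ := ev'.full (Equiv.swap k p)
      have e1 : Equiv.swap k p l = l := Equiv.swap_apply_of_ne_of_ne hkl.symm pl.symm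
      have e2 : Equiv.swap k p k = p := Equiv.swap_apply_left _ _
      have e3 : Equiv.swap k p p = k := Equiv.swap_apply_right _ _
      refine ⟨g, norm_E3 ev' hσ ?_ ?_ ?_, ?_⟩
      · rw [e1, e2, rr_symm ev']; exact m3
      · rw [e2, e3, rr_symm ev']; exact m2
      · rw [e1, e3, rr_symm ev']; exact hr0
      · rw [rr_conj hσ, e1, e2, rr_symm ev']
  · rw [hNN]
    exact hEA.trans (f₂.le k l hkl)
  · intro g hg v hv w hw
    obtain ⟨v0, hv0, a, ha, rfl⟩ := s₁.mul_eq hv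
    obtain ⟨w0, hw0, b, hb, rfl⟩ := s₁.mul_eq hw
    have hgQ := le_normalizer_o2 _ hg
    have hwQ : g * (w0 * b) * g⁻¹ ∈ o2 (NN ε i j) :=
      (mem_normalizer_iff.mp hgQ _).mp (s₁.V_le hij hw)
    have haQ : g⁻¹ * a * g ∈ o2 (NN ε i j) := by
      have h1 := (mem_normalizer_iff.mp (inv_mem hgQ) _).mp (s₁.fac.le i j hij ha)
      rwa [inv_inv] at h1
    have e1 : v0 * (g * (w0 * b) * g⁻¹) = g * (w0 * b) * g⁻¹ * v0 := (s₁.comm_V0 hij hwQ hv0).symm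
    have e2 : g⁻¹ * a * g * w0 = w0 * (g⁻¹ * a * g) := s₁.comm_V0 hij haQ hw0
    have e3 := c1 g hg a ha b hb
    calc v0 * a * (g * (w0 * b) * g⁻¹) = v0 * (g * (g⁻¹ * a * g * w0) * g⁻¹ * (g * b * g⁻¹)) := by group
      _ = v0 * (g * w0 * g⁻¹ * (a * (g * b * g⁻¹))) := by rw [e2]; group
      _ = v0 * (g * (w0 * b) * g⁻¹) * a := by rw [e3]; group
      _ = _ := by rw [e1]; group

end pair

end Cfsg.Agent.Omega.F4Leaf.Syl.Mix
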