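import Cfsg.Agent.Omega.F4Leaf.TSyl.Pure
import Cfsg.Agent.Omega.HTwo.Entry
import Cfsg.Agent.Omega.IId.M4.HypCj

/-!
# LeafF4, `m ≥ 3`, pure case, `n = r_ij` 2-central: the position `HTwo.Entry.Pos` (helper816)

Over `Fr S P m A ε i j T`, `n` 2-central: `T` is a Sylow 2-subgroup of `G` and `Fr.otln.htt` gives the position.

* `BT.reindex`; `allIn_conj`;
* `exists_pos` : `HTwo.Entry.Pos T (T ⊔ X) V_l R 0 n z`.
-/

set_option autoImplicit false
set_option linter.dupNamespace false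

namespace Cfsg.Agent.Omega.F4Leaf.Syl.PureC

open Subgroup Pointwise Cfsg Cfsg.Agent Cfsg.Agent.Omega.MinPar
open Cfsg.Agent.ZN (o2 zc zl)
open Cfsg.Agent.Omega.FrameFF (cv)
open Cfsg.Agent.Omega.Frame (Full)
open Cfsg.Agent.Omega.FrameLE (AllIn)
open Cfsg.Agent.Omega.S5.Def Cfsg.Agent.Omega.F4Leaf.Def
open Cfsg.Agent.Omega.NSix.Base Cfsg.Agent.Omega.NSix.Basic
open Cfsg.Agent.Omega.HT.LineOf (Ln ln pts dd)
open Cfsg.Agent.Omega.BTwo (BT BTS XX CenX QQ)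
open Cfsg.Agent.Omega.F4Leaf.TSyl
open Cfsg.Agent.Omega.HT.OtCore (OtD)
open Cfsg.Agent.MinSimple.VModule (mem_zc zc_le)

universe u

variable {G : Type u} [Group G]

theorem bt_reindex {ι κ : Type*} {V : Subgroup G} {R : ι → Subgroup G} (b : BT V R) (e : κ ≃ ι) :
    BT V (fun i => R (e i)) where
  V_comm := b.V_comm
  V_sq := b.V_sq
  R_le i := b.R_le _
  R_inf i j hij := b.R_inf _ _ (e.injective.ne hij)
  R_sup i j hij := b.R_sup _ _ (e.injective.ne hij)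
  R_cov v hv := by
    obtain ⟨i, hi⟩ := b.R_cov v hv
    exact ⟨e.symm i, by rwa [Equiv.apply_symm_apply]⟩
  R_ne i := b.R_ne _
  third i j := by
    obtain ⟨k, h1, h2⟩ := b.third (e i) (e j)
    refine ⟨e.symm k, fun h => h1 ?_, fun h => h2 ?_⟩
    · rw [← h, Equiv.apply_symm_apply]
    · rw [← h, Equiv.apply_symm_apply]
  perm g hg i := by
    obtain ⟨j, hj⟩ := b.perm g hg (e i)
    exact ⟨e.symm j, by rw [Equiv.apply_symm_apply]; exact hj⟩
  V_Q i := b.V_Q _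
  QV i := b.QV _
  QR i := b.QR _
  mt i := by
    obtain ⟨h, hh, h1⟩ := b.mt (e i)
    exact ⟨h, hh, fun j k hj hk => h1 _ _ (e.injective.ne hj) (e.injective.ne hk)⟩

variable [Finite G]

theorem allIn_conj {S T : Sylow 2 G} (h : AllIn (S : Subgroup G)) : AllIn (T : Subgroup G) := by
  obtain ⟨y, hy⟩ := MulAction.exists_smul_eq G S T
  have hS : ZN.ChoiceBase.cj y (S : Subgroup G) = (T : Subgroup G) := by
    rw [← hy]; rfl
  have e1 : ZN.ChoiceBase.cj y⁻¹ (T : Subgroup G) = (S : Subgroup G) := by rw [← hS, ZN.ChoiceBase.cj_inv_cj]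
  intro P hP
  have h1 := IId.isParS_cj hP y⁻¹
  rw [e1] at h1
  have h2 := ZN.ChoiceBase.cj_mono y (h _ h1)
  have e2 : zc (ZN.ChoiceBase.cj y (S : Subgroup G)) = ZN.ChoiceBase.cj y (zc (S : Subgroup G)) :=
    ZN.zc_map _ (MulAut.conj y).injective _
  rw [← IId.zl_cj, ZN.ChoiceBase.cj_cj_inv, hS, ← ZN.ChoiceSit.o2_cj] at h2
  refine h2.trans_eq ?_
  congr 1
  change ZN.ChoiceBase.cj y (centralizer (zc (S : Subgroup G) : Set G)) = centralizer (zc (T : Subgroup G) : Set G)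
  rw [ZN.ChoiceBase.cj_centralizer, ← e2, hS]

/-- the position over a Sylow 2-subgroup of `G` -/
theorem pos_of_htt {S₁ : Sylow 2 G} {T P' V : Subgroup G} {R : Fin 3 → Subgroup G} {r z : G}
    (hTS : T = (S₁ : Subgroup G)) (htt : HT.HTT T P' V R 0) (hr1 : r ≠ 1) (hrr : r * r = 1)
    (hr : ∀ x, x ∈ R 0 ↔ x = 1 ∨ x = r) (hz : z ∈ zc T ⊓ centralizer (P' : Set G)) (hz1 : z ≠ 1) :
    ∃ (ι : Type u) (R : ι → Subgroup G) (o : ι), HTwo.Entry.Pos S₁ P' V R o r z := by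
  subst hTS
  exact ⟨ULift (Fin 3), fun k => R (Equiv.ulift k), ⟨0⟩,
    { toBT := bt_reindex htt.toBT Equiv.ulift
      card_R := fun k => htt.card_R _
      char2 := htt.char2
      S_V := htt.S_V
      S_R := htt.S_R
      S_P := htt.S_P
      P_V := htt.P_V
      P_trans := fun k => htt.P_trans _
      P_Z := htt.P_Z
      r_ne := hr1
      r_sq := hrr
      r_iff := hr
      z_mem := hz
      z_ne := hz1 }⟩

variable {S : Sylow 2 G} {P : Subgroup G} {m : ℕ} {A : Subgroup G}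
  {ε : (Fin (2 ^ m + 1) → ZMod 2) → G} {i j : Fin (2 ^ m + 1)} {T : Subgroup G}

/-- **the position**, pure case, `n` 2-central -/
theorem exists_pos (b : Fr S P m A ε i j T) (hcv : cv (S : Subgroup G) P ≠ ⊥)
    (hn : ∃ T₀ : Sylow 2 G, (T₀ : Subgroup G) ≤ centralizer {rr ε i j}) :
    ∃ (S' : Sylow 2 G) (P' V : Subgroup G) (ι : Type u) (R : ι → Subgroup G) (o : ι) (r z : G),
      HTwo.Entry.Pos S' P' V R o r z := by
  have hE := b.sit.split.even
  have hL := line b.sit b.ij b.i0 b.j0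
  have hr1 : rr ε i j ≠ 1 := b.otln.r_ne
  obtain ⟨S₁, hS₁⟩ := b.p.exists_le_sylow
  -- `T` is Sylow in `G`
  have hTS : T = (S₁ : Subgroup G) := by
    obtain ⟨T₀, hT₀⟩ := hn
    have h1 := HT.card_dvd_card b.leN b.odd T₀.isPGroup' hT₀
    have h2 := Nat.le_of_dvd Nat.card_pos h1
    have h3 : Nat.card (T₀ : Subgroup G) = Nat.card (S₁ : Subgroup G) := by
      rw [T₀.card_eq_multiplicity, S₁.card_eq_multiplicity]
    exact Subgroup.eq_of_le_of_card_ge hS₁ (by rw [← h3]; exact h2)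
  -- `z`
  have hr : rr ε i j ∈ zc T := by
    refine mem_zc.2 ⟨b.otln.V_le_T (hL.dd_mem 0), fun t ht => b.otln.T_r ht, ?_⟩
    rw [pow_two]; exact rr_sq hE i j
  have hcard : 4 ≤ Nat.card (zc T) := by
    have h1 := b.sit.split.card_zc b.sit.c2 b.sit.par (by have := b.m3; omega)
    have h2 : 2 ≤ Nat.card (cv (S : Subgroup G) P) := by
      have h3 : Nat.card (cv (S : Subgroup G) P) ≠ 1 := fun h4 => hcv (Subgroup.card_eq_one.1 h4)
      have h4 : 0 < Nat.card (cv (S : Subgroup G) P) := Nat.card_pos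
      omega
    obtain ⟨g, hg⟩ : ∃ g : G, g • S = S₁ := MulAction.exists_smul_eq G S S₁
    have h5 : Nat.card (zc T) = Nat.card (zc (S : Subgroup G)) := by
      rw [hTS, ← hg, NSix.NoTk.coe_smul]
      have h6 : zc (ZN.ChoiceBase.cj g (S : Subgroup G)) = ZN.ChoiceBase.cj g (zc (S : Subgroup G)) :=
        ZN.zc_map (MulAut.conj g).toMonoidHom (MulAut.conj g).injective _
      rw [h6]
      exact ZN.ChoiceBase.card_cj g _
    omega
  obtain ⟨x, hx, hxr⟩ : ∃ x ∈ zc T, x ∉ zpowers (rr ε i j) := by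
    by_contra h1
    push Not at h1
    have h2 : zc T ≤ zpowers (rr ε i j) := h1
    have h4 := Nat.le_of_dvd Nat.card_pos (card_dvd_of_le h2)
    rw [HT.LineOf.card_zp (rr_sq hE i j) hr1] at h4
    omega
  obtain ⟨w, hwQ, hw⟩ := b.otln.exists_w
  obtain ⟨z, hz, hzX, hz1⟩ : ∃ z ∈ zc T, z ∈ CenX (ln hL) (pts (rr ε i j) (rr ε i 0)) ∧ z ≠ 1 := by
    rcases dec b.sit b.ij b.i0 b.j0 b.part (b.otln.zc_le_zl hx) (b.sit.o2_le_P b.ij hwQ) hw
      ((mem_zc.1 hx).2.1 w (b.otln.Qn_T hwQ)) with h2 | h2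
    · exact ⟨x, hx, h2, fun h3 => hxr (by rw [h3]; exact one_mem _)⟩
    · refine ⟨x * rr ε i j, mul_mem hx hr, h2, fun h3 => hxr ?_⟩
      rw [eq_inv_of_mul_eq_one_left h3]
      exact inv_mem (mem_zpowers _)
  obtain ⟨ι, R, o, hp⟩ := pos_of_htt hTS b.otln.htt hr1 (rr_sq hE i j) (fun _ => hL.mem_pts)
    (OtD.mem_Z0 hz hzX) hz1
  exact ⟨S₁, _, _, ι, R, o, _, z, hp⟩

end Cfsg.Agent.Omega.F4Leaf.Syl.PureC
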