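import Cfsg.Agent.Omega.F4Leaf.NoWrFree
import Cfsg.Agent.Omega.F4Leaf.Syl.Mix
import Cfsg.Agent.Omega.F4Leaf.Syl.PureC

/-!
# LeafF4 and the T-T pairs, `V₀ ≠ 1`, from the pieces of #21478 (assembler: helper816)

`n = r_ij`, `H = C_G(n)`, `x₀ = r_i0`; `(i j)` is induced by `S`; `Mix.NonAb ε i j 0` : `[x₀, x₀^h] ≠ 1` for some `h ∈ H`
("pure").

* inputs: `HasFr` (pieces A: there is a frame `TSyl.Fr` over a pure member, `m ≥ 3`), `NonAbNat` (natural partner: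
  pure, or `(P₂, P₂^g)` is a mutual pair) or `EndNat` (`leaf_of_end`);
* `pure_known` : a pure member, `m ≥ 2`, `V₀ ≠ 1`: `G` is known, or `m ≥ 3`, (H2);
* `tt_big` : a T-T pair, `m ≥ 3` or `m' ≥ 3`, `V₀ ≠ 1`: `G` is known (without `NoWr`); `nat_big` : natural partner;
* `leaf : LeafF4 K`; `tt_known` : the statement of `IId.Cv.TTPair` (without `NoWr`).
-/

set_option autoImplicit false

namespace Cfsg.Agent.Omega.F4Leaf.Syl.Main

open Subgroup Pointwise Cfsg Cfsg.Agent.ZN Cfsg.Agent.ZN.ChoiceBase Cfsg.Agent.Omega.MinPar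
open Cfsg.Agent.Omega.Frame Cfsg.Agent.Omega.FFThm
open Cfsg.Agent.Omega.FrameLE (AllIn)
open Cfsg.Agent.Omega.FrameFF (cv Single Free)
open Cfsg.Agent.Omega.FrameMulti (IsSym IsNat Typed AllTyped NoWr LeafF4)
open Cfsg.Agent.Omega.S5.Def Cfsg.Agent.Omega.S5.Syl Cfsg.Agent.Omega.S5.Pair Cfsg.Agent.Omega.S5.Main
open Cfsg.Agent.Omega.S5.SymBig (H2 pos_symm rr_cj NN_cj)
open Cfsg.Agent.Omega.F4Leaf.Def Cfsg.Agent.Omega.F4Leaf.Main Cfsg.Agent.Omega.F4Leaf.Two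
open Cfsg.Agent.Omega.NSix.Base Cfsg.Agent.Omega.NSix.Basic
open Cfsg.Agent.Omega.NSix.Zero (WP mem_WP)
open Cfsg.Agent.Omega.F4Leaf.Cen.Main (PosExit)
open Cfsg.Agent.Omega.F4Leaf.Syl.Mix (NonAb nonab)

universe u

section defs

variable {G : Type u} [Group G]

/-- `n` is 2-central -/
def TwoCen [Finite G] (n : G) : Prop := ∃ T₀ : Sylow 2 G, (T₀ : Subgroup G) ≤ centralizer {n}

theorem TwoCen.conj [Finite G] {n : G} (h : TwoCen n) (g : G) : TwoCen (g * n * g⁻¹) := by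
  obtain ⟨T, hT⟩ := h
  refine ⟨g • T, fun x hx => ?_⟩
  rw [NSix.NoTk.coe_smul, mem_cj] at hx
  have h1 := mem_centralizer_singleton_iff.mp (hT hx)
  rw [mem_centralizer_singleton_iff]
  calc x * (g * n * g⁻¹) = g * (g⁻¹ * x * g * n) * g⁻¹ := by group
    _ = g * (n * (g⁻¹ * x * g)) * g⁻¹ := by rw [h1]
    _ = _ := by group

end defs

/-! ### The inputs -/

/-- **Piece A** (helper758, helper628): a pure member, `m ≥ 3`, `V₀ ≠ 1`, has a frame `TSyl.Fr`. -/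
def HasFr : Prop :=
  ∀ (G : Type u) [Group G] [Finite G] (S : Sylow 2 G) (P : Subgroup G) (m : ℕ) (A : Subgroup G)
    (ε : (Fin (2 ^ m + 1) → ZMod 2) → G), Pos.Sit S P m A ε → 3 ≤ m → cv (S : Subgroup G) P ≠ ⊥ →
    ∀ i j : Fin (2 ^ m + 1), i ≠ j → i ≠ 0 → j ≠ 0 → (∃ s ∈ (S : Subgroup G), Acts ε s (Equiv.swap i j)) →
      (∃ w ∈ WP ε i j, Acts ε w (Equiv.swap i j)) → NonAb ε i j 0 → ∃ T, TSyl.Fr S P m A ε i j T

/-- **Natural partner** (helper300, from `MixS.mix_sym`): `P₁` is pure (and `n` is 2-central), or `(P₂, P₂^g)` is a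
mutual pair. -/
def NonAbNat : Prop :=
  ∀ (G : Type u) [Group G] [Finite G], IsCharacteristicTwoType G → ∀ (S : Sylow 2 G)
    (P₁ P₂ : Subgroup G) (y : G) (m : ℕ) (A : Subgroup G) (ε : (Fin (2 ^ m + 1) → ZMod 2) → G), 2 ≤ m →
      LabZ S P₁ P₂ y m A ε → IsNat (S : Subgroup G) P₂ 1 → cv (S : Subgroup G) P₁ ≠ ⊥ →
        (∃ i j, i ≠ j ∧ i ≠ 0 ∧ j ≠ 0 ∧ (∃ s ∈ (S : Subgroup G), Acts ε s (Equiv.swap i j)) ∧
          (∃ w ∈ WP ε i j, Acts ε w (Equiv.swap i j)) ∧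
          (∃ T₀ : Sylow 2 G, (T₀ : Subgroup G) ≤ centralizer {rr ε i j}) ∧ NonAb ε i j 0) ∨
        ∃ g, Mutual (S : Subgroup G) P₂ P₂ g

/-- The exit for a T-T pair, `n` 2-central (helper778). -/
def EndTT : Prop :=
  ∀ (G : Type u) [Group G] [Finite G], Ctx G → ∀ (S : Sylow 2 G), AllTyped (S : Subgroup G) →
    ∀ (P₁ P₂ : Subgroup G) (y : G) (m m' : ℕ) (A : Subgroup G) (ε : (Fin (2 ^ m + 1) → ZMod 2) → G)
      (A₂ : Subgroup G) (ε₂ : (Fin (2 ^ m' + 1) → ZMod 2) → G), 2 ≤ m → 2 ≤ m' → 3 ≤ m ∨ 3 ≤ m' →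
      LabTwoZ S P₁ P₂ y m m' A ε A₂ ε₂ → cv (S : Subgroup G) P₁ ≠ ⊥ → cv (S : Subgroup G) P₂ ≠ ⊥ →
      (∀ i j, TwoCen (rr ε i j)) →
      ∃ (P V : Subgroup G) (ι : Type u) (R : ι → Subgroup G) (o : ι) (r z : G), HTwo.Entry.Pos S P V R o r z

/-- The exit for a natural partner (helper778). -/
def EndNat : Prop :=
  ∀ (G : Type u) [Group G] [Finite G], Ctx G → ∀ (S : Sylow 2 G), AllTyped (S : Subgroup G) →
    ∀ (P₁ P₂ : Subgroup G) (y : G) (m : ℕ) (A : Subgroup G) (ε : (Fin (2 ^ m + 1) → ZMod 2) → G), 3 ≤ m →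
      LabZ S P₁ P₂ y m A ε → IsNat (S : Subgroup G) P₂ 1 → cv (S : Subgroup G) P₁ ≠ ⊥ →
      cv (S : Subgroup G) P₂ ≠ ⊥ →
      ∃ (P V : Subgroup G) (ι : Type u) (R : ι → Subgroup G) (o : ι) (r z : G), HTwo.Entry.Pos S P V R o r z

/-! ### Conjugation of labels -/

section conj

variable {G : Type u} [Group G]

theorem nonAb_cj {n : ℕ} {ε : (Fin n → ZMod 2) → G} {i j o : Fin n} {y : G}
    (h : NonAb (fun x => y * ε x * y⁻¹) i j o) : NonAb ε i j o := by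
  obtain ⟨g, hg, h1⟩ := h
  rw [NN_cj, mem_cj] at hg
  refine ⟨_, hg, fun h3 => h1 ?_⟩
  rw [rr_cj]
  calc y * rr ε i o * y⁻¹ * (g * (y * rr ε i o * y⁻¹) * g⁻¹)
      = y * (rr ε i o * (y⁻¹ * g * y * rr ε i o * (y⁻¹ * g * y)⁻¹)) * y⁻¹ := by group
    _ = y * ((y⁻¹ * g * y * rr ε i o * (y⁻¹ * g * y)⁻¹) * rr ε i o) * y⁻¹ := by rw [h3]
    _ = _ := by group

theorem wp_cj [Finite G] {n : ℕ} {ε : (Fin n → ZMod 2) → G} {i j : Fin n} {y w : G}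
    (h : w ∈ WP (fun x => y * ε x * y⁻¹) i j) : y⁻¹ * w * y ∈ WP ε i j := by
  rw [mem_WP] at h ⊢
  obtain ⟨h1, h2⟩ := h
  rw [NN_cj, mem_cj] at h1
  refine ⟨h1, fun q hq => ?_⟩
  have h3 : y * q * y⁻¹ ∈ o2 (NN (fun x => y * ε x * y⁻¹) i j) := by
    rw [Facts.o2_NN_cj, mem_cj]
    have e : y⁻¹ * (y * q * y⁻¹) * y = q := by group
    rwa [e]
  have h4 := h2 _ h3
  rw [rr_cj, mem_zpowers_iff] at h4
  obtain ⟨k, hk⟩ := h4
  rw [mem_zpowers_iff]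
  refine ⟨k, ?_⟩
  rw [conj_zpow] at hk
  calc rr ε i j ^ k = y⁻¹ * (y * rr ε i j ^ k * y⁻¹) * y := by group
    _ = y⁻¹ * (w * (y * q * y⁻¹) * w⁻¹ * (y * q * y⁻¹)⁻¹) * y := by rw [hk]
    _ = _ := by group

theorem exists_third (i j : Fin (2 ^ 2 + 1)) : ∃ o, o ≠ i ∧ o ≠ j := by
  revert i j
  decide

theorem ne_zero {n : ℕ} {i j : Fin (n + 1)} (hij : i ≠ j) (h : Equiv.swap i j 0 = 0) : i ≠ 0 ∧ j ≠ 0 := by
  constructor
  · rintro rfl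
    rw [Equiv.swap_apply_left] at h
    exact hij h.symm
  · rintro rfl
    rw [Equiv.swap_apply_right] at h
    exact hij h

end conj

/-! ### Pure members -/

section roles

variable {G : Type u} [Group G] [Finite G] {S : Sylow 2 G}

/-- `NonAb` gives a mutual pair `(P, P^h)` -/
theorem mutual_of_nonAb {P : Subgroup G} {m : ℕ} {A : Subgroup G} {ε : (Fin (2 ^ m + 1) → ZMod 2) → G}
    (hs : Pos.Sit S P m A ε) {i j o : Fin (2 ^ m + 1)} (hij : i ≠ j) (hM : NonAb ε i j o) :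
    ∃ g, Mutual (S : Subgroup G) P P g := by
  obtain ⟨g, hg, hne⟩ := hM
  have hV := hs.V_le hij
  have hQP := hs.o2_le_P hij
  have hQn : ∀ x : G, x ∈ o2 (NN ε i j) → g⁻¹ * x * g ∈ o2 (NN ε i j) := fun x hx => by
    have := (mem_normalizer_iff.mp (MinSimple.VModule.le_normalizer_o2 _ (inv_mem hg)) x).mp hx
    rwa [inv_inv] at this
  have hPV : P ≤ normalizer (zl (S : Subgroup G) P : Set G) := MinSimple.VModule.le_normalizer_zl _ _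
  have hcj : cj g (zl (S : Subgroup G) P) ≤ o2 (NN ε i j) := by
    intro x hx
    rw [mem_cj] at hx
    have h1 := (mem_normalizer_iff.mp (MinSimple.VModule.le_normalizer_o2 _ hg) _).mp (hV hx)
    have e : g * (g⁻¹ * x * g) * g⁻¹ = x := by group
    rwa [e] at h1
  refine ⟨g, hs.par, hs.par, ?_, ?_, ?_⟩
  · intro x hx
    have h1 : g⁻¹ * x * g ∈ P := hQP (hQn x (hV hx))
    change x ∈ normalizer ((cj g (zl (S : Subgroup G) P) : Subgroup G) : Set G)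
    have h2 := hPV h1
    rw [mem_normalizer_iff] at h2 ⊢
    intro w
    rw [mem_cj, mem_cj, h2 (g⁻¹ * w * g)]
    have e : g⁻¹ * x * g * (g⁻¹ * w * g) * (g⁻¹ * x * g)⁻¹ = g⁻¹ * (x * w * x⁻¹) * g := by group
    rw [e]
  · exact (hcj.trans hQP).trans hPV
  · intro h0
    apply hne
    rw [commutator_eq_bot_iff_le_centralizer] at h0
    have h1 : rr ε i o ∈ zl (S : Subgroup G) P := hs.split.A_le (rr_mem hs.split.even _ _)
    have h2 : g * rr ε i o * g⁻¹ ∈ cj g (zl (S : Subgroup G) P) := by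
      rw [mem_cj]
      have e : g⁻¹ * (g * rr ε i o * g⁻¹) * g = rr ε i o := by group
      rwa [e]
    exact ((mem_centralizer_iff.mp (h0 h1)) _ h2).symm

/-- **`m = 2`, `NonAb`** -/
theorem pure_two (hX : PosExit.{u}) (hG : Ctx G) (hF : Full (S : Subgroup G)) (hI : AllIn (S : Subgroup G))
    (hT : AllTyped (S : Subgroup G)) {P A : Subgroup G} {ε : (Fin (2 ^ 2 + 1) → ZMod 2) → G}
    (hs : Pos.Sit S P 2 A ε) (hcv : cv (S : Subgroup G) P ≠ ⊥) {i j o : Fin (2 ^ 2 + 1)} (hij : i ≠ j)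
    (hM : NonAb ε i j o) : IsKnownSimple' G := by
  obtain ⟨g, hg⟩ := mutual_of_nonAb hs hij hM
  obtain ⟨y, hp⟩ := S5.Main.exists_pos hG.char2 S hT hg
  have hl := labTwoZ hp hs.split hs.split
  by_cases hC : Cen (zl (S : Subgroup G) P) (cj y (zl (S : Subgroup G) P))
  · exact NoWrFree.cen_known hX G hG S hF hI hT P P y A ε A ε hl hC
  · exact (NoWrFree.nc_false G hG S P P y A ε A ε hl hcv hC).elim

/-- the exit for another Sylow 2-subgroup -/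
theorem known_of_pos (hX : PosExit.{u}) (hG : Ctx G) (hF : Full (S : Subgroup G)) (hI : AllIn (S : Subgroup G))
    (h : ∃ (S' : Sylow 2 G) (P V : Subgroup G) (ι : Type u) (R : ι → Subgroup G) (o : ι) (r z : G),
      HTwo.Entry.Pos S' P V R o r z) : IsKnownSimple' G := by
  obtain ⟨S', P, V, ι, R, o, r, z, hp⟩ := h
  exact hX G hG S' (IId.Two.full_conj hF) (PureC.allIn_conj hI) P V ι R o r z hp

/-- **A pure member, `V₀ ≠ 1`** -/
theorem pure_known (hX : PosExit.{u}) (h1 : HasFr.{u}) (hG : Ctx G) (hF : Full (S : Subgroup G))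
    (hI : AllIn (S : Subgroup G)) (hT : AllTyped (S : Subgroup G)) {P : Subgroup G} {m : ℕ} {A : Subgroup G}
    {ε : (Fin (2 ^ m + 1) → ZMod 2) → G} (hs : Pos.Sit S P m A ε) (hcv : cv (S : Subgroup G) P ≠ ⊥)
    {i j : Fin (2 ^ m + 1)} (hij : i ≠ j) (hi : i ≠ 0) (hj : j ≠ 0)
    (hd : ∃ s ∈ (S : Subgroup G), Acts ε s (Equiv.swap i j)) (hw : ∃ w ∈ WP ε i j, Acts ε w (Equiv.swap i j))
    (hM : NonAb ε i j 0) : IsKnownSimple' G ∨ 3 ≤ m ∧ ¬ TwoCen (rr ε i j) ∧ H2 ε := by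
  by_cases hm : 3 ≤ m
  · obtain ⟨T, b⟩ := h1 G S P m A ε hs hm hcv i j hij hi hj hd hw hM
    by_cases hn : TwoCen (rr ε i j)
    · exact Or.inl (known_of_pos hX hG hF hI (PureC.exists_pos b hcv hn))
    · exact Or.inr ⟨hm, hn, b.h2 hcv hn⟩
  · obtain rfl : m = 2 := by have := hs.m2; omega
    exact Or.inl (pure_two hX hG hF hI hT hs hcv hij hM)

end roles

/-! ### The assembly -/

/-- **A T-T pair, `m ≥ 3` or `m' ≥ 3`, `V₀ ≠ 1`.** -/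
theorem tt_big (hX : PosExit.{u}) (h1 : HasFr.{u}) (G : Type u) [Group G] [Finite G] (hG : Ctx G) (S : Sylow 2 G)
    (hF : Full (S : Subgroup G)) (hI : AllIn (S : Subgroup G)) (hT : AllTyped (S : Subgroup G))
    (P₁ P₂ : Subgroup G) (y : G) (m m' : ℕ) (A : Subgroup G) (ε : (Fin (2 ^ m + 1) → ZMod 2) → G)
    (A₂ : Subgroup G) (ε₂ : (Fin (2 ^ m' + 1) → ZMod 2) → G) (hm : 2 ≤ m) (hm' : 2 ≤ m')
    (hl : LabTwoZ S P₁ P₂ y m m' A ε A₂ ε₂) (hc₁ : cv (S : Subgroup G) P₁ ≠ ⊥)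
    (hc₂ : cv (S : Subgroup G) P₂ ≠ ⊥) : IsKnownSimple' G := by
  have hc := hG.char2
  obtain ⟨i, j, k, l, hij, hkl, hr, hb, -, ha, -⟩ := exists_common hc hl hm hm'
  have s₁ : Pos.Sit S P₁ m A ε := ⟨hc, hl.pair.star₁, hm, hl.split⟩
  have s₂ : Pos.Sit S P₂ m' A₂ ε₂ := ⟨hc, hl.pair.star₂, hm', hl.split₂⟩
  have hw := wp_eq hr
  rcases nonab hc hl hm hm' (Or.inl hc₁) hij hkl hr hb with hM | hM
  · obtain ⟨b, hb, hb1⟩ := hb
    have hbS : b ∈ (S : Subgroup G) := hl.le (cj_mono y hl.split₂.A_le hb)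
    obtain ⟨i0, j0⟩ := ne_zero hij (hl.split.fix0 b hbS _ hb1)
    have hbW : b ∈ WP ε i j := by
      rw [hw]
      exact (s₂.fac.conj y).mem_wp hkl hb
    rcases pure_known hX h1 hG hF hI hT s₁ hc₁ hij i0 j0 ⟨b, hbS, hb1⟩ ⟨b, hbW, hb1⟩ (hM 0 i0.symm j0.symm)
      with h | ⟨h3, -, h⟩
    · exact h
    · exact (false_two hc hl h3 hm' h).elim
  · obtain ⟨a, ha, ha1⟩ := ha
    have haS : y⁻¹ * a * y ∈ (S : Subgroup G) := mem_cj.mp (hl.ge (hl.split.A_le ha))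
    have haW : y⁻¹ * a * y ∈ WP ε₂ k l := by
      refine wp_cj ?_
      rw [← hw]
      exact s₁.fac.mem_wp hij ha
    have ha2 : Acts ε₂ (y⁻¹ * a * y) (Equiv.swap k l) := by
      rw [← acts_conj_label_iff y]
      have e : y * (y⁻¹ * a * y) * y⁻¹ = a := by group
      rwa [e]
    obtain ⟨k0, l0⟩ := ne_zero hkl (hl.split₂.fix0 _ haS _ ha2)
    rcases pure_known hX h1 hG hF hI hT s₂ hc₂ hkl k0 l0 ⟨_, haS, ha2⟩ ⟨_, haW, ha2⟩
      (nonAb_cj (hM 0 k0.symm l0.symm)) with h | ⟨h3, -, h⟩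
    · exact h
    · exact (false_two hc (labTwoZ_symm hl) h3 hm h).elim

/-- **A natural partner, `V₀ ≠ 1`.** -/
theorem nat_big (hX : PosExit.{u}) (h1 : HasFr.{u}) (h2 : NonAbNat.{u}) (G : Type u) [Group G] [Finite G]
    (hG : Ctx G) (S : Sylow 2 G) (hF : Full (S : Subgroup G)) (hI : AllIn (S : Subgroup G))
    (hT : AllTyped (S : Subgroup G)) (P₁ P₂ : Subgroup G) (y : G) (m : ℕ) (A : Subgroup G)
    (ε : (Fin (2 ^ m + 1) → ZMod 2) → G) (hm : 2 ≤ m) (hl : LabZ S P₁ P₂ y m A ε)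
    (hN : IsNat (S : Subgroup G) P₂ 1) (hc₁ : cv (S : Subgroup G) P₁ ≠ ⊥) (hc₂ : cv (S : Subgroup G) P₂ ≠ ⊥) :
    IsKnownSimple' G := by
  have hc := hG.char2
  rcases h2 G hc S P₁ P₂ y m A ε hm hl hN hc₁ with ⟨i, j, hij, hi, hj, hd, hw, hn, hM⟩ | ⟨g, hg⟩
  · rcases pure_known hX h1 hG hF hI hT ⟨hc, hl.pair.star₁, hm, hl.split⟩ hc₁ hij hi hj hd hw hM with h | ⟨-, h, -⟩
    · exact h
    · exact absurd hn h
  · obtain ⟨c1, c2⟩ := NatStep.natStep G hc S P₁ P₂ y m A ε hm hl hN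
    obtain ⟨P, V, ι, R', o, r, z, hp⟩ := NoWrFree.exists_pos hG S hT ⟨hg, hc₂, hc₂⟩ (by omega) (by omega)
    exact hX G hG S hF hI P V ι R' o r z hp

/-- **The leaf from the inputs.** -/
theorem leaf {K : Cls.{u}} (hX : PosExit.{u}) (h1 : HasFr.{u}) (h2 : NonAbNat.{u}) : LeafF4 K := by
  refine Cen.Main.leafF4_of hX OT.Done.f4nc ?_ ?_
  · intro G _ _ hG _ S hF hI hT _ P₁ P₂ y m A ε hm hl hN _ hc₁ hc₂
    exact nat_big hX h1 h2 G hG S hF hI hT P₁ P₂ y m A ε (by omega) hl hN hc₁ hc₂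
  · intro G _ _ hG _ S hF hI hT _ P₁ P₂ y m m' A ε A₂ ε₂ hm hm' _ hl hc₁ hc₂
    exact tt_big hX h1 G hG S hF hI hT P₁ P₂ y m m' A ε A₂ ε₂ hm hm' hl hc₁ hc₂

/-- **The leaf**, natural partner by `EndNat`. -/
theorem leaf_of_end {K : Cls.{u}} (hX : PosExit.{u}) (h1 : HasFr.{u}) (h2 : EndNat.{u}) : LeafF4 K := by
  refine Cen.Main.leafF4_of hX OT.Done.f4nc ?_ ?_
  · intro G _ _ hG _ S hF hI hT _ P₁ P₂ y m A ε hm hl hN _ hc₁ hc₂
    obtain ⟨P, V, ι, R, o, r, z, hp⟩ := h2 G hG S hT P₁ P₂ y m A ε hm hl hN hc₁ hc₂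
    exact hX G hG S hF hI P V ι R o r z hp
  · intro G _ _ hG _ S hF hI hT _ P₁ P₂ y m m' A ε A₂ ε₂ hm hm' _ hl hc₁ hc₂
    exact tt_big hX h1 G hG S hF hI hT P₁ P₂ y m m' A ε A₂ ε₂ hm hm' hl hc₁ hc₂

/-- **Two members of type `S_{2^m+1}`, `S_{2^m'+1}` of a mutual pair, not free**, without `NoWr`. -/
theorem tt_known (hX : PosExit.{u}) (h1 : HasFr.{u}) (G : Type u) [Group G] [Finite G] (hG : Ctx G) (S : Sylow 2 G)
    (hF : Full (S : Subgroup G)) (hI : AllIn (S : Subgroup G))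
    (hT : AllTyped (S : Subgroup G)) (P₁ P₂ : Subgroup G) (x : G) (hm : Mutual (S : Subgroup G) P₁ P₂ x)
    (hnf : ¬ (Free (S : Subgroup G) P₁ ∧ Free (S : Subgroup G) P₂)) (m m' : ℕ) (hm2 : 2 ≤ m) (hm2' : 2 ≤ m')
    (hS : IsSym (S : Subgroup G) P₁ 1 m) (hS' : IsSym (S : Subgroup G) P₂ 1 m') : IsKnownSimple' G := by
  obtain ⟨y, hp⟩ := S5.Main.exists_pos hG.char2 S hT hm
  obtain ⟨A, ε, hs⟩ := Split.splitStep G hG.char2 S P₁ m hm2 hp.pair.star₁ hS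
  have c1 := hs.card_zc hG.char2 hp.pair.star₁ (by omega)
  obtain ⟨A₂, ε₂, hs₂⟩ := Split.splitStep G hG.char2 S P₂ m' hm2' hp.pair.star₂ hS'
  have c2 := hs₂.card_zc hG.char2 hp.pair.star₂ (by omega)
  have hne : cv (S : Subgroup G) P₁ ≠ ⊥ ∧ cv (S : Subgroup G) P₂ ≠ ⊥ := by
    rw [ne_bot_iff, ne_bot_iff]
    have e : Nat.card (cv (S : Subgroup G) P₁) = Nat.card (cv (S : Subgroup G) P₂) := by omega
    rw [e, and_self]
    intro h0
    apply hnf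
    exact ⟨Subgroup.card_eq_one.mp (e.trans h0), Subgroup.card_eq_one.mp h0⟩
  exact tt_big hX h1 G hG S hF hI hT P₁ P₂ y m m' A ε A₂ ε₂ hm2 hm2' (labTwoZ hp hs hs₂) hne.1 hne.2

end Cfsg.Agent.Omega.F4Leaf.Syl.Main
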