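import Cfsg.Agent.Omega.F4Leaf.Syl.EndC
import Cfsg.Agent.Omega.F4Leaf.Syl.Main

/-!
# LeafF4, piece E: `n = r_ij` is 2-central (helper778)

* `HasT` : piece A (helper758, helper628): a Sylow 2-subgroup `T₁ ≥ C_S(r_ij)` of `C_G(r_ij)` normalising the line;
* `exists_two` : `ExG` for `m = 2` (from `Cen.Out`), `exists_big` : `ExG` for `m ≥ 3` from `HasT`;
* `endTT : HasT → Main.EndTT`, `endNat : HasT → Main.EndNat`.
-/

set_option autoImplicit false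
set_option linter.dupNamespace false
set_option linter.unusedSectionVars false

namespace Cfsg.Agent.Omega.F4Leaf.Syl.EndCMain

open Subgroup Pointwise Cfsg Cfsg.Agent Cfsg.Agent.Omega.MinPar
open Cfsg.Agent.ZN (o2 zc zl)
open Cfsg.Agent.ZN.ChoiceBase (cj mem_cj)
open Cfsg.Agent.Omega.Frame Cfsg.Agent.Omega.FFThm
open Cfsg.Agent.Omega.FrameLE (AllIn)
open Cfsg.Agent.Omega.FrameFF (cv Single Free)
open Cfsg.Agent.Omega.FrameMulti (IsSym IsNat Typed AllTyped)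
open Cfsg.Agent.Omega.HOne.Main (NonFree)
open Cfsg.Agent.Omega.S5.Def Cfsg.Agent.Omega.S5.Syl Cfsg.Agent.Omega.S5.Pair Cfsg.Agent.Omega.S5.Main
open Cfsg.Agent.Omega.S5.SymBig (H2 pos_symm rr_cj NN_cj)
open Cfsg.Agent.Omega.F4Leaf.Def Cfsg.Agent.Omega.F4Leaf.Main Cfsg.Agent.Omega.F4Leaf.Two
open Cfsg.Agent.Omega.F4Leaf.Pos Cfsg.Agent.Omega.F4Leaf.Facts
open Cfsg.Agent.Omega.NSix.Base Cfsg.Agent.Omega.NSix.Basic
open Cfsg.Agent.Omega.NSix.Zero (WP mem_WP WP_norm WP_conj zpow_cases)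
open Cfsg.Agent.Omega.F4Leaf.Cen.Main (PosExit)
open Cfsg.Agent.Omega.NTwo (nn cm cc ci comm_iff mem_cent mem_smul o2_cent_conj o2_cent_conj' mem_csmul csmul_mem)
open Cfsg.Agent.Omega.F4Leaf.Syl.Main (TwoCen EndTT EndNat)
open Cfsg.Agent.Omega.F4Leaf.Syl.EndC
open Cfsg.Agent.MinSimple.VModule (o2_isPGroup o2_le le_o2 le_normalizer_o2 o2_le_of_sylow mem_zc zc_le
  le_normalizer_zl zl_comm zl_sq zc_le_zl zl_le normalizer_le_normalizer_zc)

universe u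

/-- **Piece A** (`m ≥ 3`). -/
def HasT : Prop :=
  ∀ (G : Type u) [Group G] [Finite G] (S : Sylow 2 G) (P : Subgroup G) (m : ℕ) (A : Subgroup G)
    (ε : (Fin (2 ^ m + 1) → ZMod 2) → G), Pos.Sit S P m A ε → 3 ≤ m → cv (S : Subgroup G) P ≠ ⊥ →
    ∀ i j : Fin (2 ^ m + 1), i ≠ j → (∃ s ∈ (S : Subgroup G), Acts ε s (Equiv.swap i j)) →
      (∃ w ∈ WP ε i j, Acts ε w (Equiv.swap i j)) → ∃ T, TOne (S : Subgroup G) ε i j T

section one

variable {G : Type u} [Group G] [Finite G] {S : Sylow 2 G} {P : Subgroup G}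

/-- `m = 2` -/
theorem exists_two {A : Subgroup G} {ε : (Fin (2 ^ 2 + 1) → ZMod 2) → G} (h : Sit S P 2 A ε)
    {i j : Fin (2 ^ 2 + 1)} (hij : i ≠ j) (hs : ∃ s ∈ (S : Subgroup G), Acts ε s (Equiv.swap i j))
    (hw : ∃ w ∈ WP ε i j, Acts ε w (Equiv.swap i j)) (hc : TwoCen (rr ε i j)) :
    ∃ c R k, ExG S P (rr ε i j) c R k := by
  obtain ⟨b, hb, hbs⟩ := hs
  obtain ⟨w, hw, hws⟩ := hw
  obtain ⟨ρ, hρ0, hρ1, sv⟩ := Cen.Std.exists_sv h.c2 S h.split h.par hij hb hbs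
  obtain ⟨p, hp⟩ : ∃ p : Fin 5 → G, p = fun k => ε (Pi.single (M := fun _ : Fin (2 ^ 2 + 1) => ZMod 2) (ρ k) 1) :=
    ⟨_, rfl⟩
  rw [← hp] at sv
  have hp0 : p 0 = ε (Pi.single i 1) := by rw [hp, ← hρ0]
  have hp1 : p 1 = ε (Pi.single j 1) := by rw [hp, ← hρ1]
  have hn : nn p = rr ε i j := by rw [nn, hp0, hp1]; rfl
  have e0 := hws.single i
  have e1 := hws.single j
  rw [Equiv.swap_apply_left, ← hp0, ← hp1] at e0
  rw [Equiv.swap_apply_right, ← hp0, ← hp1] at e1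
  have hN : Cen.NCen p := by
    rw [← hn] at hc
    exact hc
  have hrr : rr ε i j * rr ε i j = 1 := rr_sq h.split.even i j
  have E : Cen.V.El p w := by
    refine Cen.Entry.el_of h.c2 sv e0 e1 fun q hq => ?_
    rw [hn] at hq ⊢
    have h1 := (mem_WP.1 hw).2 q hq
    have h3 : q * rr ε i j = rr ε i j * q := mem_NN.1 (o2_le _ hq)
    rcases zpow_cases hrr h1 with h2 | h2
    · left
      have h4 : w * q = q * w := by
        calc w * q = w * q * w⁻¹ * q⁻¹ * (q * w) := by group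
          _ = q * w := by rw [h2, one_mul]
      rw [← h4, mul_inv_cancel_right]
    · right
      have h4 : w * q = rr ε i j * (q * w) := by
        calc w * q = w * q * w⁻¹ * q⁻¹ * (q * w) := by group
          _ = rr ε i j * (q * w) := by rw [h2]
      have h5 : q * w = rr ε i j * (w * q) := by rw [h4, ← mul_assoc, hrr, one_mul]
      rw [h5, ← mul_assoc, mul_inv_cancel_right]
  obtain ⟨r, v, w', o⟩ := Cen.V.exists_out h.c2 S sv hN E
  obtain ⟨R, k, E'⟩ := o.exists_ex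
  have := ExG.of_ex E'
  rw [hn] at this
  exact ⟨_, R, k, this⟩

/-- any `m ≥ 2` -/
theorem exists_ex (hA : HasT.{u}) {m : ℕ} {A : Subgroup G} {ε : (Fin (2 ^ m + 1) → ZMod 2) → G}
    (h : Sit S P m A ε) (hcv : cv (S : Subgroup G) P ≠ ⊥)
    {i j : Fin (2 ^ m + 1)} (hij : i ≠ j) (hs : ∃ s ∈ (S : Subgroup G), Acts ε s (Equiv.swap i j))
    (hw : ∃ w ∈ WP ε i j, Acts ε w (Equiv.swap i j)) (hc : TwoCen (rr ε i j)) :
    ∃ c R k, ExG S P (rr ε i j) c R k := by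
  by_cases h3 : 3 ≤ m
  · obtain ⟨T, hT⟩ := hA G S P m A ε h h3 hcv i j hij hs hw
    have h0 : ∀ k, Equiv.swap i j k ≠ k → k ≠ 0 := by
      rintro k hk rfl
      obtain ⟨s, hs1, hs2⟩ := hs
      exact hk (h.split.fix0 s hs1 _ hs2)
    have hi : i ≠ 0 := h0 i (by rw [Equiv.swap_apply_left]; exact hij.symm)
    have hj : j ≠ 0 := h0 j (by rw [Equiv.swap_apply_right]; exact hij)
    have hN : ∃ i j, i ≠ j ∧ ∃ g ∈ WP ε i j, ¬ g ∈ centralizer (A : Set G) := by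
      obtain ⟨w, hw1, hw2⟩ := hw
      refine ⟨i, j, hij, w, hw1, fun h1 => hij ?_⟩
      have h2 := h.split.even.acts_one_iff.2 h1
      have h3 := hw2.single i
      have h4 := h2.single i
      rw [Equiv.swap_apply_left] at h3
      rw [h3] at h4
      exact (h.split.even.single_inj h.three h4).symm
    obtain ⟨R, k, E⟩ := exists_exG h hN hcv hij hi hj hT hc
    exact ⟨_, R, k, E⟩
  · obtain rfl : m = 2 := by have := h.m2; omega
    exact exists_two h hij hs hw hc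

end one

/-- **Piece E, T-T** -/
theorem endTT (hA : HasT.{u}) : EndTT.{u} := by
  intro G _ _ hG S hT P₁ P₂ y m m' A ε A₂ ε₂ hm hm' hbig hl hc₁ hc₂ hall
  have hc := hG.char2
  obtain ⟨i, j, k, l, hij, hkl, hr, ⟨b, hb, hb1⟩, -, ⟨a, ha, ha1⟩, -⟩ := exists_common hc hl hm hm'
  have s₁ : Pos.Sit S P₁ m A ε := ⟨hc, hl.pair.star₁, hm, hl.split⟩
  have s₂ : Pos.Sit S P₂ m' A₂ ε₂ := ⟨hc, hl.pair.star₂, hm', hl.split₂⟩
  have hw := wp_eq hr
  have hbS : b ∈ (S : Subgroup G) := hl.le (map_mono hl.split₂.A_le hb)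
  have hbW : b ∈ WP ε i j := by
    rw [hw]
    exact (s₂.fac.conj y).mem_wp hkl hb
  have haS : y⁻¹ * a * y ∈ (S : Subgroup G) := mem_cj.mp (hl.ge (hl.split.A_le ha))
  have haW : y⁻¹ * a * y ∈ WP ε₂ k l := by
    refine Main.wp_cj ?_
    rw [← hw]
    exact s₁.fac.mem_wp hij ha
  have ha2 : Acts ε₂ (y⁻¹ * a * y) (Equiv.swap k l) := by
    rw [← acts_conj_label_iff y]
    have e : y * (y⁻¹ * a * y) * y⁻¹ = a := by group
    rwa [e]
  have hn₂ : y * rr ε₂ k l * y⁻¹ = rr ε i j := by rw [hr, rr_cj]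
  have hc2 : TwoCen (rr ε₂ k l) := by
    have h1 := (hall i j).conj y⁻¹
    have e : y⁻¹ * rr ε i j * y⁻¹⁻¹ = rr ε₂ k l := by rw [← hn₂]; group
    rwa [e] at h1
  obtain ⟨c, R, g, E⟩ := exists_ex hA s₁ hc₁ hij ⟨b, hbS, hb1⟩ ⟨b, hbW, hb1⟩ (hall i j)
  obtain ⟨c₂, R₂, g₂, E₂⟩ := exists_ex hA s₂ hc₂ hkl ⟨_, haS, ha2⟩ ⟨_, haW, ha2⟩ hc2
  have hne : ⁅zl (S : Subgroup G) P₁, MulAut.conj y • zl (S : Subgroup G) P₂⁆ ≠ ⊥ := by
    have h1 := hl.pair.ne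
    exact h1
  exact NoWrFree.exists_pos hG S hT (E.nonFree_tt E₂ hn₂ hne) E.card E₂.card

/-- **Piece E, natural partner** -/
theorem endNat (hA : HasT.{u}) : EndNat.{u} := by
  intro G _ _ hG S hT P₁ P₂ y m A ε hm hl hN hc₁ hc₂
  have hc := hG.char2
  have hm2 : 2 ≤ m := by omega
  obtain ⟨cz1, cz2⟩ := NatStep.natStep G hc S P₁ P₂ y m A ε hm2 hl hN
  obtain ⟨F, i1, i2, i3, ⟨M⟩⟩ := hN
  have hF := F4Leaf.NatStep.card_F hc hm2 hl M
  have hev := hl.split.even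
  have hP₁ := hl.pair.star₁
  have hP₂ := hl.pair.star₂
  have s₁ : Pos.Sit S P₁ m A ε := ⟨hc, hP₁, hm2, hl.split⟩
  obtain ⟨r, hr, hrw⟩ := Cen.Entry.nat_two hc hP₂ M hF
  obtain ⟨b, hb, i, j, hij, hbs⟩ := S5.Nat.exists_swap hev hl.side (Cen.Entry.not_le_cent hc hl)
  have e0 := hbs.single i
  rw [Equiv.swap_apply_left] at e0
  have hne1 : rr ε i j ≠ 1 := rr_ne_one hev s₁.three hij
  have hrr : rr ε i j * rr ε i j = 1 := rr_sq hev i j
  -- `S^y` acts on `V'`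
  have hact : ∀ q ∈ cj y (S : Subgroup G), ∀ w ∈ cj y (zl (S : Subgroup G) P₂),
      q * w * q⁻¹ = w ∨ q * w * q⁻¹ = (y * r * y⁻¹) * w := by
    intro q hq w hw
    rcases hrw _ (mem_cj.1 hq) _ (mem_cj.1 hw) with h1 | h1
    · left
      calc q * w * q⁻¹ = y * (y⁻¹ * q * y * (y⁻¹ * w * y) * (y⁻¹ * q * y)⁻¹) * y⁻¹ := by group
        _ = w := by rw [h1]; group
    · right
      calc q * w * q⁻¹ = y * (y⁻¹ * q * y * (y⁻¹ * w * y) * (y⁻¹ * q * y)⁻¹) * y⁻¹ := by group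
        _ = (y * r * y⁻¹) * w := by rw [h1]; group
  -- `n = r^y`
  have hnr : rr ε i j = y * r * y⁻¹ := by
    have h0 : zz ε i ∈ zl (S : Subgroup G) P₁ := hl.split.A_le (zz_mem hev i)
    have h2 : zz ε i * b * (zz ε i)⁻¹ * b⁻¹ = rr ε i j := by
      rw [show (zz ε i)⁻¹ = zz ε i from hev.inv _, rr]
      calc zz ε i * b * zz ε i * b⁻¹ = zz ε i * (b * zz ε i * b⁻¹) := by group
        _ = zz ε i * zz ε j := by rw [show b * zz ε i * b⁻¹ = zz ε j from e0]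
    rcases hact _ (hl.ge h0) b hb with h1 | h1
    · rw [h1, mul_inv_cancel] at h2
      exact absurd h2.symm hne1
    · rw [h1, mul_inv_cancel_right] at h2
      exact h2.symm
  have hSn : ∀ q ∈ cj y (S : Subgroup G), q * rr ε i j * q⁻¹ = rr ε i j := by
    intro q hq
    have h1 : (y⁻¹ * q * y) * r * (y⁻¹ * q * y)⁻¹ = r := comm_iff.2 ((mem_zc.1 hr).2.1 _ (mem_cj.1 hq))
    rw [hnr]
    calc q * (y * r * y⁻¹) * q⁻¹ = y * ((y⁻¹ * q * y) * r * (y⁻¹ * q * y)⁻¹) * y⁻¹ := by group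
      _ = y * r * y⁻¹ := by rw [h1]
  have hSn' : ((y • S : Sylow 2 G) : Subgroup G) ≤ centralizer {rr ε i j} := by
    intro x hx
    rw [mem_smul] at hx
    exact mem_cent.2 (hSn x (mem_cj.2 hx))
  have hcen : TwoCen (rr ε i j) := ⟨y • S, hSn'⟩
  have hQS : ∀ q ∈ o2 (centralizer ({rr ε i j} : Set G)), q ∈ cj y (S : Subgroup G) := by
    intro q hq
    have h2 := o2_le_of_sylow (y • S : Sylow 2 G).isPGroup'
      (MinSimple.Basic.not_dvd_relIndex (y • S : Sylow 2 G) hSn') hq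
    rw [mem_cj]
    exact mem_smul.1 h2
  have hQW : ∀ q ∈ o2 (centralizer ({rr ε i j} : Set G)), ∀ w ∈ cj y (zl (S : Subgroup G) P₂),
      q * w * q⁻¹ = w ∨ q * w * q⁻¹ = rr ε i j * w := by
    intro q hq w hw
    rw [hnr]
    exact hact q (hQS q hq) w hw
  have hWQ : cj y (zl (S : Subgroup G) P₂) ≤ o2 (centralizer ({rr ε i j} : Set G)) := by
    intro w hw
    have hwS : w ∈ cj y (S : Subgroup G) := by
      rw [mem_cj] at hw ⊢
      exact ((hP₂.isLoc.zl_le S hc).trans (zc_le _)).trans (hP₂.isLoc.o2_le S) hw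
    refine S5.Mod.le_o2_of_comm hc (by rw [sq]; exact hrr) hne1 (comm_iff.1 (hSn w hwS)) fun q hq => ?_
    rcases hQW q hq w hw with h1 | h1
    · left
      rw [comm_iff] at h1
      calc w * q * w⁻¹ * q⁻¹ = (q * w) * w⁻¹ * q⁻¹ := by rw [h1]
        _ = 1 := by group
    · right
      have h2 : q * w = rr ε i j * w * q := by rw [← h1]; group
      calc w * q * w⁻¹ * q⁻¹ = rr ε i j * rr ε i j * w * q * w⁻¹ * q⁻¹ := by rw [hrr, one_mul]
        _ = rr ε i j * (rr ε i j * w * q) * w⁻¹ * q⁻¹ := by group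
        _ = rr ε i j * (q * w) * w⁻¹ * q⁻¹ := by rw [h2]
        _ = rr ε i j := by group
  have hbQ := hWQ hb
  have hbW : b ∈ WP ε i j := by
    refine mem_WP.2 ⟨o2_le _ hbQ, fun q hq => ?_⟩
    rcases hQW q hq b hb with h1 | h1
    · have h2 : b * q * b⁻¹ * q⁻¹ = 1 := by
        rw [comm_iff] at h1
        calc b * q * b⁻¹ * q⁻¹ = (q * b) * b⁻¹ * q⁻¹ := by rw [h1]
          _ = 1 := by group
      rw [h2]
      exact one_mem _
    · have h2 : q * b = rr ε i j * b * q := by rw [← h1]; group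
      have h3 : b * q * b⁻¹ * q⁻¹ = rr ε i j := by
        calc b * q * b⁻¹ * q⁻¹ = rr ε i j * rr ε i j * b * q * b⁻¹ * q⁻¹ := by rw [hrr, one_mul]
          _ = rr ε i j * (rr ε i j * b * q) * b⁻¹ * q⁻¹ := by group
          _ = rr ε i j * (q * b) * b⁻¹ * q⁻¹ := by rw [h2]
          _ = rr ε i j := by group
      rw [h3]
      exact mem_zpowers _
  obtain ⟨c, R, k, E⟩ := exists_ex hA s₁ hc₁ hij ⟨b, hl.le hb, hbs⟩ ⟨b, hbW, hbs⟩ hcen
  have hne : ⁅zl (S : Subgroup G) P₁, MulAut.conj y • zl (S : Subgroup G) P₂⁆ ≠ ⊥ := hl.pair.ne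
  have hnz : y⁻¹ * rr ε i j * y ∈ zc (S : Subgroup G) := by
    have e : y⁻¹ * rr ε i j * y = r := by rw [hnr]; group
    rw [e]
    exact hr
  exact NoWrFree.exists_pos hG S hT (E.nonFree_nat hP₂ hWQ hnz hne hc₂) E.card (by omega)

end Cfsg.Agent.Omega.F4Leaf.Syl.EndCMain
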