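import Cfsg.Agent.Omega.F4Leaf.Syl.LocP

/-!
# MemH2 (#21183), (I): `T₁` is Sylow in `N(R o)`

`LI` : `LD` with (G) (the transvections of `N_G(V)` with centre `R o`), `Q` Sylow in `C_G(V)`, `QQ (R i) ≤ N(Q)`,
`C_V(T) = R o × C_{C_V(T)}(X)`.

`LI.odd` : `¬ 2 ∣ |N(R o) : T₁|` if `|Ω₁Z(S)| ≥ 4`.
-/

set_option autoImplicit false
set_option linter.unusedSectionVars false

namespace Cfsg.Agent.Omega.F4Leaf.Syl.LocP

open Subgroup Cfsg
open Cfsg.Agent.ZN (o2 zc)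
open Cfsg.Agent.Omega.BTwo
open Cfsg.Agent.Omega.HT
open Cfsg.Agent.Omega.HOneTwo (eq_of_card_two normalizer_le_cen_of_card)
open Cfsg.Agent.MinSimple.VModule (o2_isPGroup le_o2 o2_le le_normalizer_o2 o2_le_of_sylow mem_zc zc_le zc_comm zc_sq)

universe u

variable {G : Type u} [Group G] {ι : Type*}

/-- The data of (I). -/
structure LI (V L Q T T₁ : Subgroup G) (R : ι → Subgroup G) (o : ι) : Prop extends LD V L Q T T₁ R o where
  char2 : IsCharacteristicTwoType G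
  Q_p : IsPGroup 2 Q
  QN : ∀ i, QQ (R i) ≤ normalizer (Q : Set G)
  VQ : ∀ i, V ≤ QQ (R i)
  Q_syl : ¬ 2 ∣ Q.relIndex (centralizer (V : Set G))
  G' : ∀ x ∈ normalizer (V : Set G), (∀ v ∈ V, x * v * x⁻¹ * v⁻¹ ∈ R o) → ∀ i, i ≠ o → x ∈ normalizer (R i : Set G) →
    x ∈ centralizer (V : Set G)
  spl : ∀ z ∈ V, (∀ s ∈ T, s * z = z * s) → ∃ r ∈ R o, ∃ c ∈ centralizer (XX L R : Set G), z = r * c

namespace LI

variable [Finite G] {V L Q T T₁ : Subgroup G} {R : ι → Subgroup G} {o : ι} (b : LI V L Q T T₁ R o)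
include b

theorem V_le_Q : V ≤ Q := by rw [← b.zcQ]; exact zc_le _

theorem V_comm' {x y : G} (hx : x ∈ V) (hy : y ∈ V) : x * y = y * x := by
  have h1 := hx
  rw [← b.zcQ] at h1
  exact ((mem_zc.1 h1).2.1 y (b.V_le_Q hy)).symm

theorem V_sq' {x : G} (hx : x ∈ V) : x * x = 1 := by
  rw [← b.zcQ] at hx
  rw [← pow_two]
  exact (mem_zc.1 hx).2.2

theorem Q_cenV : Q ≤ centralizer (V : Set G) := by
  intro q hq
  refine mem_centralizer_iff.2 fun v hv => ?_
  rw [← b.zcQ] at hv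
  exact ((mem_zc.1 hv).2.1 q hq).symm

theorem Q_T1 : Q ≤ T₁ := b.Q_T.trans b.T_le

/-- a 2-subgroup of `C_G(V)` normalised by `Q` lies in `Q` -/
theorem le_Q {H : Subgroup G} (hH : IsPGroup 2 H) (hHV : H ≤ centralizer (V : Set G))
    (hn : Q ≤ normalizer (H : Set G)) : H ≤ Q :=
  le_of_odd b.Q_p b.Q_cenV b.Q_syl hH hHV hn

/-- an element of `C_G(V) ∩ N(Q)` of order 2 lies in `Q` -/
theorem mem_Q {x : G} (hx : x * x = 1) (hxV : x ∈ centralizer (V : Set G)) (hn : x ∈ normalizer (Q : Set G)) :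
    x ∈ Q := by
  have h1 : IsPGroup 2 (zpowers x) := MinSimple.Basic.isPGroup_zpowers (by rw [pow_two]; exact hx)
  have h2 : IsPGroup 2 (Q ⊔ zpowers x : Subgroup G) :=
    IsPGroup.to_sup_of_normal_left' b.Q_p h1 (zpowers_le.2 hn)
  have h3 := Nat.le_of_dvd Nat.card_pos (card_dvd_card b.Q_cenV b.Q_syl h2 (sup_le b.Q_cenV (zpowers_le.2 hxV)))
  have h4 : Q = Q ⊔ zpowers x := eq_of_le_of_card_ge le_sup_left h3
  rw [h4]
  exact mem_sup_right (mem_zpowers x)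

/-- an element commuting with `X` and centralised by `T₁` centralises all `QQ (R i)` -/
theorem comm_QQ {e : G} (hT : ∀ s ∈ T₁, s * e = e * s) (hX : ∀ x ∈ XX L R, x * e = e * x) (i : ι) {g : G}
    (hg : g ∈ QQ (R i)) : g * e = e * g := by
  obtain ⟨x, hx, h1⟩ := b.trans_X_one o i
  have h2 : g ∈ cj x (QQ (R o)) := by rw [b.cj_QQ h1]; exact hg
  rw [mem_cj] at h2
  have h3 := hT _ (b.QQ_le h2)
  have h4 := hX x hx
  have h5 : x⁻¹ * e = e * x⁻¹ := by
    calc x⁻¹ * e = x⁻¹ * (e * x) * x⁻¹ := by group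
      _ = x⁻¹ * (x * e) * x⁻¹ := by rw [h4]
      _ = e * x⁻¹ := by group
  calc g * e = x * (x⁻¹ * g * x) * (x⁻¹ * e) := by group
    _ = x * (x⁻¹ * g * x) * (e * x⁻¹) := by rw [h5]
    _ = x * ((x⁻¹ * g * x) * e) * x⁻¹ := by group
    _ = x * (e * (x⁻¹ * g * x)) * x⁻¹ := by rw [h3]
    _ = (x * e) * (x⁻¹ * g * x) * x⁻¹ := by group
    _ = (e * x) * (x⁻¹ * g * x) * x⁻¹ := by rw [h4]
    _ = e * g := by group

/-- **(I), the main step** -/
theorem step {Th : Subgroup G} (hTh : IsPGroup 2 Th) (hle : T₁ ≤ Th) (hR : Th ≤ normalizer (R o : Set G)) {e : G}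
    (he : e ∈ V) (he1 : e ≠ 1) (heT : ∀ s ∈ Th, s * e = e * s) (heX : ∀ x ∈ XX L R, x * e = e * x) : Th ≤ T₁ := by
  by_contra hlt
  obtain ⟨t, ht, htN, htT⟩ := exists_step b.T_p hTh (hle.trans le_normalizer) hlt
  have htR := hR ht
  -- `Y = Z(O₂(C_G(e)))`
  have hee : e * e = 1 := b.V_sq' he
  obtain ⟨C, hC⟩ : ∃ C, C = centralizer ({e} : Set G) := ⟨_, rfl⟩
  have hTC : Th ≤ C := by rw [hC]; exact fun s hs => mem_centralizer_singleton_iff.2 (heT s hs)
  have hXC : XX L R ≤ C := by rw [hC]; exact fun s hs => mem_centralizer_singleton_iff.2 (heX s hs)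
  obtain ⟨-, hloc⟩ := b.loc (hle.trans hTC) hXC
  have hch : C ⊓ centralizer (o2 C : Set G) ≤ o2 C := by
    rw [hC]
    exact MinSimple.Basic.char2_centralizer b.char2 (by rw [pow_two]; exact hee) he1
  obtain ⟨Y, hY⟩ : ∃ Y, Y = o2 C ⊓ centralizer (o2 C : Set G) := ⟨_, rfl⟩
  have hLY : L ≤ Y := by
    intro v hv
    have h1 : v ∈ centralizer (o2 C : Set G) := by
      refine mem_centralizer_iff.2 fun y hy => ?_
      exact (mem_centralizer_iff.1 (hloc hy) v hv).symm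
    rw [hY]
    refine ⟨hch ⟨?_, h1⟩, h1⟩
    rw [hC]
    exact mem_centralizer_singleton_iff.2 (b.V_comm' (b.L_le hv) he)
  have hYn : C ≤ normalizer (Y : Set G) := by
    intro c hc
    refine mem_normalizer_of_conj fun y hy => ?_
    rw [hY] at hy ⊢
    exact ⟨conj_mem_of_normalizer (le_normalizer_o2 C hc) hy.1,
      conj_mem_of_normalizer (normalizer_le_normalizer_centralizer _ (le_normalizer_o2 C hc)) hy.2⟩
  have hYp : IsPGroup 2 Y := by rw [hY]; exact (o2_isPGroup C).to_le inf_le_left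
  have hYc : ∀ x ∈ Y, ∀ y ∈ Y, x * y = y * x := by
    intro x hx y hy
    rw [hY] at hx hy
    exact mem_centralizer_iff.1 hy.2 x hx.1
  -- the point
  obtain ⟨i, hio, -⟩ := b.third o o
  -- every element `x` of `t (R i) t⁻¹` lies in `V`
  have hxL' : ∀ z ∈ R i, t * z * t⁻¹ ∈ Y := fun z hz =>
    conj_mem_of_normalizer (hYn (hTC ht)) (hLY (b.R_le i hz))
  have htN' := inv_mem htN
  have hLT : L ≤ T₁ := (b.L_le.trans b.V_le_Q).trans b.Q_T1
  have hRoV : R o ≤ V := (b.R_le o).trans b.L_le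
  have key : ∀ z ∈ R i, t * z * t⁻¹ ∈ V := by
    intro z hz
    obtain ⟨x, hx⟩ : ∃ x, x = t * z * t⁻¹ := ⟨_, rfl⟩
    rw [← hx]
    have hxY : x ∈ Y := by rw [hx]; exact hxL' z hz
    have hxx : x * x = 1 := by
      have h1 := b.V_sq z (b.R_le i hz)
      calc x * x = t * (z * z) * t⁻¹ := by rw [hx]; group
        _ = 1 := by rw [h1]; group
    have hxT : x ∈ T₁ := by rw [hx]; exact conj_mem_of_normalizer htN (hLT (b.R_le i hz))
    -- `[x, T₁] ≤ R o`
    have hxT1 : ∀ s ∈ T₁, x * s * x⁻¹ * s⁻¹ ∈ R o := by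
      intro s hs
      have hs' : t⁻¹ * s * t ∈ T₁ := conj_inv_mem_of_normalizer htN hs
      have h1 := b.comm_T1 hs' (b.R_le i hz)
      have h2 : x * s * x⁻¹ * s⁻¹ = t * (t⁻¹ * s * t * z * (t⁻¹ * s * t)⁻¹ * z⁻¹)⁻¹ * t⁻¹ := by
        rw [hx]; group
      rw [h2]
      exact conj_mem_of_normalizer htR (inv_mem h1)
    -- (a) `x` centralises `V`
    have hxQ : x ∈ normalizer (Q : Set G) := by
      refine mem_normalizer_of_conj fun q hq => ?_
      have h1 : x * q * x⁻¹ = x * q * x⁻¹ * q⁻¹ * q := by group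
      rw [h1]
      exact mul_mem (b.V_le_Q (hRoV (hxT1 q (b.Q_T1 hq)))) hq
    have hxV : x ∈ normalizer (V : Set G) := by
      refine mem_normalizer_of_conj fun v hv => ?_
      have h1 : x * v * x⁻¹ = x * v * x⁻¹ * v⁻¹ * v := by group
      rw [h1]
      exact mul_mem (hRoV (hxT1 v (b.Q_T1 (b.V_le_Q hv)))) hv
    have hxL : ∀ y ∈ L, x * y = y * x := fun y hy => hYc x hxY y (hLY hy)
    have hxi : x ∈ normalizer (R i : Set G) := by
      refine mem_normalizer_of_conj fun y hy => ?_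
      rw [hxL y (b.R_le i hy), mul_inv_cancel_right]
      exact hy
    have hxcV : x ∈ centralizer (V : Set G) :=
      b.G' x hxV (fun v hv => hxT1 v (b.Q_T1 (b.V_le_Q hv))) i hio hxi
    have hxQ' : x ∈ Q := b.mem_Q hxx hxcV hxQ
    -- (b)
    obtain ⟨Zp, hZp⟩ : ∃ Zp, Zp = zc (QQ (R i)) := ⟨_, rfl⟩
    have heQ : ∀ g ∈ QQ (R i), g * e = e * g := fun g hg =>
      b.comm_QQ (fun s hs => heT s (hle hs)) heX i hg
    have heZ : e ∈ Zp := by
      rw [hZp]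
      exact mem_zc.2 ⟨b.VQ i he, heQ, by rw [pow_two]; exact hee⟩
    have hZV : Zp ≤ centralizer (V : Set G) := by
      intro y hy
      rw [hZp] at hy
      exact mem_centralizer_iff.2 fun v hv => (mem_zc.1 hy).2.1 v (b.VQ i hv)
    have hZn : normalizer (R i : Set G) ≤ normalizer (Zp : Set G) := by
      rw [hZp]
      exact (le_normalizer_O2 _).trans (MinSimple.VModule.normalizer_le_normalizer_zc _)
    have hcVN : centralizer (V : Set G) ≤ normalizer (R i : Set G) := by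
      intro y hy
      refine mem_normalizer_of_conj fun v hv => ?_
      have h1 := mem_centralizer_iff.1 hy v (b.L_le (b.R_le i hv))
      rw [← h1, mul_inv_cancel_right]
      exact hv
    have hZpp : IsPGroup 2 Zp := by rw [hZp]; exact (O2_isPGroup _).to_le (zc_le _)
    have hZQ : Zp ≤ Q := b.le_Q hZpp hZV (b.Q_cenV.trans (hcVN.trans hZn))
    -- a mover of `R o` in `WW L (R i)`
    obtain ⟨w, hw, hwo⟩ : ∃ w ∈ WW L (R i), w ∉ normalizer (R o : Set G) := by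
      obtain ⟨k, hki, hko⟩ := b.third i o
      obtain ⟨h, hh, hm⟩ := b.mt i
      obtain ⟨⟨v, hv, h1⟩, -⟩ := hm o k (Ne.symm hio) hki
      refine ⟨h * v * h⁻¹, cj_le_WW hh (conj_mem_cj hv), fun h2 => hko ?_⟩
      rw [cj_eq_self_iff.2 h2] at h1
      exact (b.R_index h1).symm
    have hwQQ : w ∈ QQ (R i) := b.W_le_Q i hw
    have hRZ : ∀ r ∈ R o, r ∈ Zp → r = 1 := by
      intro r hr hrZ
      by_contra hr1
      apply hwo
      refine mem_normalizer_of_conj fun y hy => ?_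
      by_cases hy1 : y = 1
      · rw [hy1, mul_one, mul_inv_cancel]; exact one_mem _
      · rw [eq_of_card_two (b.card_R o) hr hr1 hy hy1]
        rw [hZp] at hrZ
        rw [(mem_zc.1 hrZ).2.1 w hwQQ, mul_inv_cancel_right]
        exact hr
    have hxZ : ∀ y ∈ Zp, x * y = y * x := by
      intro y hy
      have h1 := hxT1 y (b.Q_T1 (hZQ hy))
      have h2 : x * y * x⁻¹ * y⁻¹ ∈ Zp :=
        mul_mem (conj_mem_of_normalizer (hZn (hcVN hxcV)) hy) (inv_mem hy)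
      have h3 := hRZ _ h1 h2
      calc x * y = x * y * x⁻¹ * y⁻¹ * y * x := by group
        _ = y * x := by rw [h3, one_mul]
    -- `x ∈ O₂(C_G(Z_p)) ≤ Q_p`
    have hxp : x ∈ QQ (R i) := by
      obtain ⟨D, hD⟩ : ∃ D, D = centralizer (Zp : Set G) := ⟨_, rfl⟩
      have hRiZ : R i ≤ Zp := by
        intro y hy
        rw [hZp]
        exact mem_zc.2 ⟨b.V_Q i (b.R_le i hy), fun g hg => b.QR i g hg y hy,
          by rw [pow_two]; exact b.V_sq y (b.R_le i hy)⟩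
      have hDC : D ≤ C := by
        rw [hD, hC]
        exact fun y hy => mem_centralizer_singleton_iff.2 ((mem_centralizer_iff.1 hy e heZ).symm)
      have hDN : D ≤ normalizer (R i : Set G) := by
        rw [hD]
        intro y hy
        refine mem_normalizer_of_conj fun v hv => ?_
        have h1 := mem_centralizer_iff.1 hy v (hRiZ hv)
        rw [← h1, mul_inv_cancel_right]
        exact hv
      have hNRD : normalizer (R i : Set G) ≤ normalizer (D : Set G) := by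
        rw [hD]
        exact hZn.trans (normalizer_le_normalizer_centralizer _)
      have h1 : Y ⊓ D ≤ o2 D := by
        refine le_o2 inf_le_right (hYp.to_le inf_le_left) fun c hc => ?_
        refine mem_normalizer_of_conj fun y hy => ?_
        exact ⟨conj_mem_of_normalizer (hYn (hDC hc)) hy.1, D.mul_mem (D.mul_mem hc hy.2) (D.inv_mem hc)⟩
      have h2 : o2 D ≤ QQ (R i) := by
        refine le_O2_of_normal ((o2_le D).trans hDN) (o2_isPGroup D) ?_
        intro g hg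
        have h3 : BTwo.cj g (O2 D) = O2 D := by
          rw [BTwo.cj_O2, cj_eq_self_iff.2 (hNRD hg)]
        exact fun a ha => conj_mem_of_normalizer (cj_eq_self_iff.1 h3) ha
      refine h2 (h1 ⟨hxY, ?_⟩)
      rw [hD]
      exact mem_centralizer_iff.2 fun y hy => (hxZ y hy).symm
    -- `[x, Q] = 1`
    have hxcQ : ∀ q ∈ Q, q * x = x * q := by
      intro q hq
      have h1 := hxT1 q (b.Q_T1 hq)
      by_contra hne
      have hne' : x * q * x⁻¹ * q⁻¹ ≠ 1 := by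
        intro h2
        apply hne
        calc q * x = (x * q * x⁻¹ * q⁻¹)⁻¹ * (x * q) := by group
          _ = x * q := by rw [h2, inv_one, one_mul]
      apply hwo
      have hwQ := b.QN i hwQQ
      have h2 : w * q * w⁻¹ ∈ Q := conj_mem_of_normalizer hwQ hq
      obtain ⟨q', hq'⟩ : ∃ q', q' = w * q * w⁻¹ := ⟨_, rfl⟩
      rw [← hq'] at h2
      obtain ⟨s, hs⟩ : ∃ s, s = x * w * x⁻¹ * w⁻¹ := ⟨_, rfl⟩
      have h3 : s ∈ R i := by rw [hs]; exact b.WQ i hxp hw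
      have h4 : x * q' * x⁻¹ ∈ Q := conj_mem_of_normalizer hxQ h2
      have h5 : s * (x * q' * x⁻¹) = x * q' * x⁻¹ * s :=
        mem_centralizer_iff.1 (b.Q_cenV h4) s (b.L_le (b.R_le i h3))
      have h6 : w * x * w⁻¹ = s⁻¹ * x := by rw [hs]; group
      have h7 : w * (x * q * x⁻¹ * q⁻¹) * w⁻¹ = x * q' * x⁻¹ * q'⁻¹ := by
        calc w * (x * q * x⁻¹ * q⁻¹) * w⁻¹ = (w * x * w⁻¹) * (w * q * w⁻¹) * (w * x * w⁻¹)⁻¹ * (w * q * w⁻¹)⁻¹ := by
              group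
          _ = s⁻¹ * ((x * q' * x⁻¹) * s) * q'⁻¹ := by rw [h6, ← hq']; group
          _ = x * q' * x⁻¹ * q'⁻¹ := by rw [← h5]; group
      refine mem_normalizer_of_conj fun y hy => ?_
      by_cases hy1 : y = 1
      · rw [hy1, mul_one, mul_inv_cancel]; exact one_mem _
      · rw [eq_of_card_two (b.card_R o) h1 hne' hy hy1, h7]
        exact hxT1 q' (b.Q_T1 h2)
    rw [← b.zcQ]
    exact mem_zc.2 ⟨hxQ', hxcQ, by rw [pow_two]; exact hxx⟩
  have htL : t ∈ normalizer (L : Set G) := by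
    refine b.F t htR i hio ?_ ?_
    · rw [cj_le_iff]
      exact key
    · intro s hs z hz
      rw [mem_cj] at hz
      have hs' : t⁻¹ * s * t ∈ T₁ := conj_inv_mem_of_normalizer htN (b.T_le hs)
      have h1 := b.comm_T1 hs' (b.R_le i hz)
      have h2 : s * z * s⁻¹ * z⁻¹ =
          t * (t⁻¹ * s * t * (t⁻¹ * z * t) * (t⁻¹ * s * t)⁻¹ * (t⁻¹ * z * t)⁻¹) * t⁻¹ := by group
      rw [h2]
      exact conj_mem_of_normalizer htR h1
  refine htT ?_
  have h1 : IsPGroup 2 (zpowers t) := hTh.to_le (zpowers_le.2 ht)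
  have h2 : IsPGroup 2 (T₁ ⊔ zpowers t : Subgroup G) :=
    IsPGroup.to_sup_of_normal_left' b.T_p h1 (zpowers_le.2 htN)
  have hTK := le_inf b.T_R b.T_L
  have h3 := Nat.le_of_dvd Nat.card_pos (card_dvd_card hTK b.T_odd h2 (sup_le hTK (zpowers_le.2 ⟨htR, htL⟩)))
  have h4 : T₁ = T₁ ⊔ zpowers t := eq_of_le_of_card_ge le_sup_left h3
  rw [h4]
  exact mem_sup_right (mem_zpowers t)

/-- an element `e ≠ 1` of a subgroup `Z ≤ V` of order `≥ 4` centralised by `T`, commuting with `X` -/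
theorem exists_e {Z : Subgroup G} (hZV : Z ≤ V) (hZT : ∀ z ∈ Z, ∀ s ∈ T, s * z = z * s) (h4 : 4 ≤ Nat.card Z) :
    ∃ e ∈ Z, e ≠ 1 ∧ ∀ x ∈ XX L R, x * e = e * x := by
  have hcen : ∀ c ∈ centralizer (XX L R : Set G), ∀ x ∈ XX L R, x * c = c * x := fun c hc x hx =>
    mem_centralizer_iff.1 hc x hx
  obtain ⟨z₁, hz₁, h1⟩ : ∃ z ∈ Z, z ≠ 1 := by
    by_contra hc
    push Not at hc
    have : Z = ⊥ := (eq_bot_iff_forall _).2 hc
    rw [this, card_bot] at h4
    omega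
  obtain ⟨z₂, hz₂, h2, h3⟩ : ∃ z ∈ Z, z ≠ 1 ∧ z ≠ z₁ := by
    by_contra hc
    push Not at hc
    have h5 : (Z : Set G) ⊆ {1, z₁} := fun z hz => by
      by_cases h6 : z = 1
      · exact Or.inl h6
      · exact Or.inr (hc z hz h6)
    have h6 := Set.ncard_le_ncard h5 (Set.toFinite _)
    have h7 : ({1, z₁} : Set G).ncard ≤ 2 := (Set.ncard_insert_le _ _).trans (by rw [Set.ncard_singleton])
    have h8 : Nat.card Z = (Z : Set G).ncard := rfl
    omega
  obtain ⟨r₁, hr₁, c₁, hc₁, e₁⟩ := b.spl z₁ (hZV hz₁) (hZT z₁ hz₁)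
  obtain ⟨r₂, hr₂, c₂, hc₂, e₂⟩ := b.spl z₂ (hZV hz₂) (hZT z₂ hz₂)
  by_cases h5 : r₁ = 1
  · refine ⟨z₁, hz₁, h1, hcen _ ?_⟩
    rw [e₁, h5, one_mul]; exact hc₁
  by_cases h6 : r₂ = 1
  · refine ⟨z₂, hz₂, h2, hcen _ ?_⟩
    rw [e₂, h6, one_mul]; exact hc₂
  have h7 : r₂ = r₁ := eq_of_card_two (b.card_R o) hr₁ h5 hr₂ h6
  refine ⟨z₁ * z₂, mul_mem hz₁ hz₂, ?_, hcen _ ?_⟩
  · intro h8
    apply h3
    have h9 := b.V_sq' (hZV hz₁)
    calc z₂ = z₁ * (z₁ * z₂) := by rw [← mul_assoc, h9, one_mul]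
      _ = z₁ := by rw [h8, mul_one]
  · have hr₁V : r₁ ∈ V := b.L_le (b.R_le o hr₁)
    have h8 : z₁ * z₂ = c₁ * c₂ := by
      have h9 := b.V_comm' (hZV hz₁) hr₁V
      calc z₁ * z₂ = (z₁ * r₁) * c₂ := by rw [e₂, h7, mul_assoc]
        _ = (r₁ * z₁) * c₂ := by rw [h9]
        _ = (r₁ * r₁) * c₁ * c₂ := by rw [e₁]; group
        _ = c₁ * c₂ := by rw [b.V_sq' hr₁V, one_mul]
    rw [h8]
    exact mul_mem hc₁ hc₂

/-- **(I)** `T₁` is Sylow in `N(R o)` -/
theorem odd (S : Sylow 2 G) (h4 : 4 ≤ Nat.card (zc (S : Subgroup G))) : ¬ 2 ∣ T₁.relIndex (normalizer (R o : Set G)) := by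
  have hf : Fact (Nat.Prime 2) := ⟨Nat.prime_two⟩
  obtain ⟨Th, h1, h2, h3, h5⟩ := exists_syl b.T_p b.T_R
  obtain ⟨g, hg⟩ : ∃ g : G, Th ≤ cj g (S : Subgroup G) := by
    obtain ⟨P, hP⟩ := h3.exists_le_sylow
    obtain ⟨g, hg⟩ := MulAction.exists_smul_eq G S P
    refine ⟨g, hP.trans (le_of_eq ?_)⟩
    rw [← hg]
    rfl
  have hcom : ∀ z ∈ cj g (zc (S : Subgroup G)), ∀ s ∈ Th, s * z = z * s := by
    intro z hz s hs
    rw [mem_cj] at hz
    have h6 := mem_cj.1 (hg hs)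
    have h7 := (mem_zc.1 hz).2.1 _ h6
    calc s * z = g * ((g⁻¹ * s * g) * (g⁻¹ * z * g)) * g⁻¹ := by group
      _ = g * ((g⁻¹ * z * g) * (g⁻¹ * s * g)) * g⁻¹ := by rw [h7]
      _ = z * s := by group
  have hV : cj g (zc (S : Subgroup G)) ≤ V := by
    intro z hz
    have h6 : ∀ q ∈ Q, q * z = z * q := fun q hq => hcom z hz q (h1 (b.Q_T1 hq))
    rw [← b.zcQ]
    refine mem_zc.2 ⟨b.Q_cen (mem_centralizer_iff.2 h6), h6, ?_⟩
    rw [mem_cj] at hz
    have h7 := (mem_zc.1 hz).2.2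
    have h8 : z ^ 2 = g * (g⁻¹ * z * g) ^ 2 * g⁻¹ := by rw [pow_two, pow_two]; group
    rw [h8, h7, mul_one, mul_inv_cancel]
  obtain ⟨e, he, he1, heX⟩ := b.exists_e hV (fun z hz s hs => hcom z hz s (h1 (b.T_le hs)))
    (by rw [card_cj]; exact h4)
  have h6 : Th = T₁ := le_antisymm (b.step h3 h1 h2 (hV he) he1 (hcom e he) heX) h1
  rw [← h6]
  exact h5

end LI

end Cfsg.Agent.Omega.F4Leaf.Syl.LocP
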