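import Cfsg.Agent.Omega.F4Leaf.Exit.Dua

/-!
# LeafF4: centres of transvections on a subgroup `A ≤ V₁ ≤ V` (helper758, #21183; generalises helper450's `Exit.Dua`)

* `tr` : the pairs are centres on `V₁`;  `of_S` : a transvection of `S` on `V₁` is a transposition;
* `count`, **`pair_of_tr`** : `Tr V₁ c` implies that `c` is a pair.
-/

set_option autoImplicit false
set_option linter.dupNamespace false

namespace Cfsg.Agent.Omega.F4Leaf.Syl.TrV

open Subgroup Pointwise Cfsg Cfsg.Agent Cfsg.Agent.Omega.MinPar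
open Cfsg.Agent.ZN (o2 zc zl)
open Cfsg.Agent.Omega.FrameFF (cv Single Free)
open Cfsg.Agent.Omega.S5.Def Cfsg.Agent.Omega.S5.Syl Cfsg.Agent.Omega.F4Leaf.Def
open Cfsg.Agent.Omega.NSix.Base Cfsg.Agent.Omega.NSix.Basic Cfsg.Agent.Omega.F4Leaf.Pos
open Cfsg.Agent.Omega.F4Leaf.Exit.Tr
open Cfsg.Agent.Omega.F4Leaf.Exit.Dua
open Cfsg.Agent.MinSimple.VModule (o2_isPGroup o2_le le_o2 le_normalizer_o2 le_normalizer_zl)

universe u

variable {G : Type u} [Group G] [Finite G] {S : Sylow 2 G} {P : Subgroup G} {m : ℕ} {A : Subgroup G}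
  {ε : (Fin (2 ^ m + 1) → ZMod 2) → G}

/-- `P` normalises `V₁`. -/
theorem P_le (h : Sit S P m A ε) {V₁ : Subgroup G} (hA : A ≤ V₁) (hV : V₁ ≤ zl (S : Subgroup G) P) :
    P ≤ normalizer (V₁ : Set G) := by
  have key : ∀ g ∈ P, ∀ x ∈ V₁, g * x * g⁻¹ ∈ V₁ := by
    intro g hg x hx
    obtain ⟨v, hv, a, ha, rfl⟩ := h.mul_eq (hV hx)
    have hv1 : v ∈ V₁ := by
      have h1 := mul_mem hx (inv_mem (hA ha))
      rwa [mul_inv_cancel_right] at h1
    have h2 : g * a * g⁻¹ ∈ A := norm_conj (h.split.even.le_normalizer hg) ha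
    have e : g * (v * a) * g⁻¹ = v * (g * a * g⁻¹) := by
      calc g * (v * a) * g⁻¹ = g * v * a * g⁻¹ := by group
        _ = v * g * a * g⁻¹ := by rw [h.V0_comm hv hg]
        _ = _ := by group
    rw [e]
    exact mul_mem hv1 (hA h2)
  intro g hg
  rw [mem_normalizer_iff]
  refine fun x => ⟨key g hg x, fun hx => ?_⟩
  have h1 := key g⁻¹ (inv_mem hg) _ hx
  have e : g⁻¹ * (g * x * g⁻¹) * g⁻¹⁻¹ = x := by group
  rwa [e] at h1

theorem S_le (h : Sit S P m A ε) {V₁ : Subgroup G} (hA : A ≤ V₁) (hV : V₁ ≤ zl (S : Subgroup G) P) :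
    (S : Subgroup G) ≤ normalizer (V₁ : Set G) := h.par.le.trans (P_le h hA hV)

/-- The pairs are centres. -/
theorem tr (h : Sit S P m A ε) {V₁ : Subgroup G} (hA : A ≤ V₁) (hV : V₁ ≤ zl (S : Subgroup G) P) (hw : Mov ε)
    {i j : Fin (2 ^ m + 1)} (hij : i ≠ j) : Tr V₁ (rr ε i j) where
  mem := hA (rr_mem h.split.even i j)
  norm := (h.o2_le_P hij).trans (P_le h hA hV)
  act _ hx _ hv := h.conj_V hij hx (hV hv)
  mov := by
    obtain ⟨w, hw1, hw2⟩ := hw i j hij
    refine ⟨w, hw1, zz ε i, hA (zz_mem h.split.even i), fun h1 => hij ?_⟩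
    rw [zz_conj hw2, Equiv.swap_apply_left] at h1
    exact (h.split.even.single_inj h.three h1).symm
  uni x hx y hy h1 h2 v hv := by
    obtain ⟨a, ha, ha'⟩ := h1
    obtain ⟨b, hb, hb'⟩ := h2
    exact (Exit.Dua.Sit.tr h hw hij).uni x hx y hy ⟨a, hV ha, ha'⟩ ⟨b, hV hb, hb'⟩ v (hV hv)

/-- A transvection of `S` on `V₁` is a transposition. -/
theorem of_S (h : Sit S P m A ε) {V₁ : Subgroup G} (hA : A ≤ V₁) (hV : V₁ ≤ zl (S : Subgroup G) P) {x c : G}
    (hx : x ∈ (S : Subgroup G)) (hc : ∀ v ∈ V₁, x * v * x⁻¹ = v ∨ x * v * x⁻¹ = v * c)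
    (hm : ∃ v ∈ V₁, x * v * x⁻¹ ≠ v) : ∃ i j, i ≠ j ∧ c = rr ε i j ∧ Acts ε x (Equiv.swap i j) := by
  refine Exit.Dua.Sit.of_S h hx (fun v hv => ?_) ?_
  · obtain ⟨w, hw, a, ha, rfl⟩ := h.mul_eq hv
    have e : x * (w * a) * x⁻¹ = w * (x * a * x⁻¹) := by
      calc x * (w * a) * x⁻¹ = x * w * a * x⁻¹ := by group
        _ = w * x * a * x⁻¹ := by rw [h.V0_comm hw (h.par.le hx)]
        _ = _ := by group
    rw [e]
    rcases hc a (hA ha) with h1 | h1
    · left; rw [h1]
    · right; rw [h1, mul_assoc]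
  · obtain ⟨v, hv, h1⟩ := hm
    exact ⟨v, hV hv, h1⟩

/-- **Commuting centres.** -/
theorem count (h : Sit S P m A ε) {V₁ : Subgroup G} (hA : A ≤ V₁) (hV : V₁ ≤ zl (S : Subgroup G) P) {ι : Type*} [Fintype ι] (F : ι → G) (hF : Function.Injective F)
    (hT : ∀ a, Tr V₁ (F a))
    (hc : ∀ a b, ∀ x ∈ o2 (centralizer ({F a} : Set G)), x * F b * x⁻¹ = F b) :
    2 * Fintype.card ι ≤ 2 ^ m + 1 := by
  classical
  have hE := h.split.even
  have hcen : ∀ a b, o2 (centralizer ({F a} : Set G)) ≤ centralizer ({F b} : Set G) := by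
    intro a b x hx
    rw [mem_centralizer_singleton_iff, ← mul_inv_eq_iff_eq_mul]
    exact hc a b x hx
  have hD : IsPGroup 2 ((⨆ a ∈ (Finset.univ : Finset ι), o2 (centralizer ({F a} : Set G)) : Subgroup G)) :=
    HOne.isPGroup_iSup _ _ (fun _ _ => o2_isPGroup _) fun a _ b _ => (hcen a b).trans (le_normalizer_o2 _)
  have hDn : (⨆ a ∈ (Finset.univ : Finset ι), o2 (centralizer ({F a} : Set G)) : Subgroup G) ≤
      normalizer (V₁ : Set G) := iSup₂_le fun a _ => (hT a).norm
  obtain ⟨g, hg, hgD⟩ := exists_conj hDn S.isPGroup' hD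
    (MinSimple.Basic.not_dvd_relIndex S (S_le h hA hV))
  have hmem : ∀ a, ∀ x ∈ o2 (centralizer ({F a} : Set G)), g * x * g⁻¹ ∈ (S : Subgroup G) := fun a x hx =>
    hgD x ((le_iSup₂ (f := fun a (_ : a ∈ (Finset.univ : Finset ι)) => o2 (centralizer ({F a} : Set G))) a
      (Finset.mem_univ a)) hx)
  have key : ∀ a, ∃ i j, i ≠ j ∧ g * F a * g⁻¹ = rr ε i j ∧
      ∃ x ∈ o2 (centralizer ({F a} : Set G)), Acts ε (g * x * g⁻¹) (Equiv.swap i j) := by
    intro a
    obtain ⟨x, hx, v, hv, hne⟩ := (hT a).mov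
    have hT' := (hT a).conj hg
    obtain ⟨i, j, h1, h2, h3⟩ := of_S h hA hV (hmem a x hx) (hT'.act _ (push hx))
      ⟨g * v * g⁻¹, norm_conj hg hv, fun h2 => hne (by
        have e : g * x * g⁻¹ * (g * v * g⁻¹) * (g * x * g⁻¹)⁻¹ = g * (x * v * x⁻¹) * g⁻¹ := by group
        rw [e] at h2
        exact mul_left_cancel (mul_right_cancel h2))⟩
    exact ⟨i, j, h1, h2, x, hx, h3⟩
  choose p q hpq hr x hx hs using key
  -- the pairs are disjoint
  have hdis : ∀ a b, (p a = p b ∨ p a = q b ∨ q a = p b ∨ q a = q b) → a = b := by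
    intro a b hab
    have h1 : g * x a * g⁻¹ * rr ε (p b) (q b) * (g * x a * g⁻¹)⁻¹ = rr ε (p b) (q b) := by
      rw [← hr b]
      have e : g * x a * g⁻¹ * (g * F b * g⁻¹) * (g * x a * g⁻¹)⁻¹ = g * (x a * F b * (x a)⁻¹) * g⁻¹ := by group
      rw [e, hc a b _ (hx a)]
    rw [rr_conj (hs a)] at h1
    have h2 := pair_eq hE (Sit.five h) (i := p b) (j := q b) (hpq b) h1.symm
    have h3 : (p a = p b ∧ q a = q b) ∨ (p a = q b ∧ q a = p b) := by
      rcases hab with h4 | h4 | h4 | h4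
      · left
        refine ⟨h4, ?_⟩
        rw [← h4, Equiv.swap_apply_left] at h2
        rcases h2 with h5 | h5
        · exact absurd h5.1.symm (hpq a)
        · exact h5.1
      · right
        refine ⟨h4, ?_⟩
        rw [← h4, Equiv.swap_apply_left] at h2
        rcases h2 with h5 | h5
        · exact absurd h5.2.symm (hpq a)
        · exact h5.2
      · right
        refine ⟨?_, h4⟩
        rw [← h4, Equiv.swap_apply_right] at h2
        rcases h2 with h5 | h5
        · exact absurd h5.1 (hpq a)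
        · exact h5.1
      · left
        refine ⟨?_, h4⟩
        rw [← h4, Equiv.swap_apply_right] at h2
        rcases h2 with h5 | h5
        · exact absurd h5.2 (hpq a)
        · exact h5.2
    apply hF
    have h4 : g * F a * g⁻¹ = g * F b * g⁻¹ := by
      rw [hr a, hr b]
      rcases h3 with h5 | h5
      · rw [h5.1, h5.2]
      · rw [h5.1, h5.2, rr_symm hE]
    exact mul_left_cancel (mul_right_cancel h4)
  have hinj : Function.Injective (Sum.elim p q : ι ⊕ ι → Fin (2 ^ m + 1)) := by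
    rintro (a | a) (b | b) hab
    · exact congrArg Sum.inl (hdis a b (Or.inl hab))
    · exfalso
      have h1 := hdis a b (Or.inr (Or.inl hab))
      subst h1
      exact hpq a hab
    · exfalso
      have h1 := hdis a b (Or.inr (Or.inr (Or.inl hab)))
      subst h1
      exact hpq a hab.symm
    · exact congrArg Sum.inr (hdis a b (Or.inr (Or.inr (Or.inr hab))))
  have h1 := Fintype.card_le_of_injective _ hinj
  rw [Fintype.card_sum, Fintype.card_fin] at h1
  omega

/-- **A centre is a pair.** -/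
theorem pair_of_tr (h : Sit S P m A ε) {V₁ : Subgroup G} (hA : A ≤ V₁) (hV : V₁ ≤ zl (S : Subgroup G) P) (hw : Mov ε) {c : G}
    (hc : Tr V₁ c) :
    ∃ k l, k ≠ l ∧ c = rr ε k l := by
  classical
  have hE := h.split.even
  have hm := h.m2
  by_contra hne
  push Not at hne
  -- even representative
  obtain ⟨v, hv, a, ha, hva⟩ := h.mul_eq (hV hc.mem)
  obtain ⟨x₀, hx₀⟩ := hE.surj a ha
  have hcard : ∀ x : Fin (2 ^ m + 1) → ZMod 2, (Finset.univ.filter fun i => x i = 1).card +
      (Finset.univ.filter fun i => ¬ x i = 1).card = 2 ^ m + 1 := by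
    intro x
    rw [Finset.card_filter_add_card_filter_not, Finset.card_univ, Fintype.card_fin]
  have h2m : 2 ^ m = 2 * 2 ^ (m - 1) := by
    rw [← pow_succ']
    congr 1
    omega
  obtain ⟨x, hx, t, ht⟩ : ∃ x, ε x = a ∧ ∃ t, (Finset.univ.filter fun i => x i = 1).card = 2 * t := by
    rcases Nat.even_or_odd (Finset.univ.filter fun i => x₀ i = 1).card with h1 | h1
    · obtain ⟨t, ht⟩ := h1
      exact ⟨x₀, hx₀, t, by omega⟩
    · refine ⟨x₀ + 1, ?_, ?_⟩
      · rw [hE.add, hE.one, mul_one, hx₀]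
      · have e : (Finset.univ.filter fun i => (x₀ + 1) i = 1) = Finset.univ.filter fun i => ¬ x₀ i = 1 := by
          apply Finset.filter_congr
          intro i _
          rw [Pi.add_apply, Pi.one_apply]
          rcases (show ∀ y : ZMod 2, y = 0 ∨ y = 1 by decide) (x₀ i) with h2 | h2
          · rw [h2]
            decide
          · rw [h2]
            decide
        rw [e]
        obtain ⟨t, ht⟩ := h1
        have h3 := hcard x₀
        exact ⟨2 ^ (m - 1) - t, by omega⟩
  obtain ⟨t', ht'⟩ : ∃ t', (Finset.univ.filter fun i => ¬ x i = 1).card = 2 * t' + 1 := by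
    have h3 := hcard x
    exact ⟨2 ^ (m - 1) - t, by omega⟩
  obtain ⟨T', hT', hT'c⟩ := Finset.exists_subset_card_eq (s := Finset.univ.filter fun i => ¬ x i = 1)
    (n := 2 * t') (by omega)
  obtain ⟨p, hp, hpT⟩ := pairing _ t ht
  obtain ⟨q, hq, hqT⟩ := pairing _ t' hT'c
  have hp1 : ∀ b, x (p b) = 1 := fun b => (Finset.mem_filter.mp (hpT b)).2
  have hq1 : ∀ b, x (q b) = 0 := fun b => by
    have h1 := (Finset.mem_filter.mp (hT' (hqT b))).2
    rcases (show ∀ y : ZMod 2, y = 0 ∨ y = 1 by decide) (x (q b)) with h2 | h2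
    · exact h2
    · exact absurd h2 h1
  -- the pairs
  let f : Fin t ⊕ Fin t' → Fin (2 ^ m + 1) := fun b => b.elim (fun b => p (Sum.inl b)) (fun b => q (Sum.inl b))
  let f' : Fin t ⊕ Fin t' → Fin (2 ^ m + 1) := fun b => b.elim (fun b => p (Sum.inr b)) (fun b => q (Sum.inr b))
  have hne01 : (0 : ZMod 2) ≠ 1 := by decide
  have hff : ∀ b, f b ≠ f' b := by
    rintro (b | b) h1
    · exact Sum.inl_ne_inr (hp h1)
    · exact Sum.inl_ne_inr (hq h1)
  have hxf : ∀ b, x (f b) = x (f' b) := by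
    rintro (b | b)
    · exact (hp1 _).trans (hp1 _).symm
    · exact (hq1 _).trans (hq1 _).symm
  have hf : ∀ b b', (f b = f b' ∨ f b = f' b' ∨ f' b = f b' ∨ f' b = f' b') → b = b' := by
    rintro (b | b) (b' | b') h1
    · have h2 : b = b' := by
        rcases h1 with h1 | h1 | h1 | h1
        · exact Sum.inl_injective (hp h1)
        · exact absurd (hp h1) Sum.inl_ne_inr
        · exact absurd (hp h1).symm Sum.inl_ne_inr
        · exact Sum.inr_injective (hp h1)
      rw [h2]
    · exfalso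
      rcases h1 with h1 | h1 | h1 | h1 <;>
      · have h2 := congrArg x h1
        apply hne01
        first
          | exact ((hq1 _).symm.trans h2.symm).trans (hp1 _)
    · exfalso
      rcases h1 with h1 | h1 | h1 | h1 <;>
      · have h2 := congrArg x h1
        apply hne01
        first
          | exact ((hq1 _).symm.trans h2).trans (hp1 _)
    · have h2 : b = b' := by
        rcases h1 with h1 | h1 | h1 | h1
        · exact Sum.inl_injective (hq h1)
        · exact absurd (hq h1) Sum.inl_ne_inr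
        · exact absurd (hq h1).symm Sum.inl_ne_inr
        · exact Sum.inr_injective (hq h1)
      rw [h2]
  -- the centres
  have hcx : c = v * ε x := by rw [hva, hx]
  have h1 : ∀ b, ∀ y ∈ o2 (NN ε (f b) (f' b)), y * c * y⁻¹ = c := by
    intro b
    rw [hcx]
    exact (Sit.move_iff h hw (hff b) hv x).mpr (hxf b)
  have hco : ∀ a ∈ V₁, ∀ b ∈ V₁, a * b = b * a := fun a ha b hb => h.V_comm (hV ha) (hV hb)
  have hsq : ∀ a ∈ V₁, a * a = 1 := fun a ha => by rw [← pow_two]; exact h.V_sq (hV ha)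
  have h2 : ∀ b, ∀ y ∈ o2 (centralizer ({c} : Set G)), y * rr ε (f b) (f' b) * y⁻¹ = rr ε (f b) (f' b) :=
    fun b => hc.symm (tr h hA hV hw (hff b)) hco hsq (h1 b)
  have h3 : ∀ b b', ∀ y ∈ o2 (NN ε (f b) (f' b)), y * rr ε (f b') (f' b') * y⁻¹ = rr ε (f b') (f' b') := by
    intro b b' y hy
    by_cases hbb : b = b'
    · subst hbb
      have h4 : y * rr ε (f b) (f' b) = rr ε (f b) (f' b) * y := mem_centralizer_singleton_iff.mp (o2_le _ hy)
      rw [h4, mul_inv_cancel_right]
    · rcases h.acts (hff b) hy with h4 | h4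
      · rw [rr_conj h4]
        rfl
      · rw [rr_conj h4, Equiv.swap_apply_of_ne_of_ne, Equiv.swap_apply_of_ne_of_ne]
        · exact fun h5 => hbb (hf _ _ (Or.inr (Or.inl h5.symm)))
        · exact fun h5 => hbb (hf _ _ (Or.inr (Or.inr (Or.inr h5.symm))))
        · exact fun h5 => hbb (hf _ _ (Or.inl h5.symm))
        · exact fun h5 => hbb (hf _ _ (Or.inr (Or.inr (Or.inl h5.symm))))
  let F : Option (Fin t ⊕ Fin t') → G := fun b => b.elim c fun b => rr ε (f b) (f' b)
  have h4 := count h hA hV F (by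
    rintro (_ | b) (_ | b') hbb
    · rfl
    · exact absurd hbb (hne _ _ (hff b'))
    · exact absurd hbb.symm (hne _ _ (hff b))
    · have h5 : rr ε (f b) (f' b) = rr ε (f b') (f' b') := hbb
      rcases pair_eq hE (Sit.five h) (hff b) h5 with h6 | h6
      · exact congrArg some (hf b b' (Or.inl h6.1.symm))
      · exact congrArg some (hf b b' (Or.inr (Or.inr (Or.inl h6.1.symm)))))
    (by
      rintro (_ | b)
      · exact hc
      · exact tr h hA hV hw (hff b))
    (by
      rintro (_ | b) (_ | b') y hy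
      · have h5 : y * c = c * y := mem_centralizer_singleton_iff.mp (o2_le _ hy)
        change y * c * y⁻¹ = c
        rw [h5, mul_inv_cancel_right]
      · exact h2 b' y hy
      · exact h1 b y hy
      · exact h3 b b' y hy)
  rw [Fintype.card_option, Fintype.card_sum, Fintype.card_fin, Fintype.card_fin] at h4
  have h5 := hcard x
  omega

end Cfsg.Agent.Omega.F4Leaf.Syl.TrV
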