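import Cfsg.Agent.Omega.F4Leaf.Syl.Def
import Cfsg.Agent.Omega.F4Leaf.Syl.TrV

/-!
# LeafF4, `m ≥ 2`: LEMMA F of #21183 (helper758)

`lemF` : `t ∈ C(r_ij)`, `f = t r_i0 t⁻¹ ∈ V` and `[f, S ∩ C(r_ij)] ≤ ⟨r_ij⟩` imply `f ∈ {r_i0, r_j0}`.
-/

set_option autoImplicit false
set_option linter.dupNamespace false

namespace Cfsg.Agent.Omega.F4Leaf.Syl.LemF

open Subgroup Pointwise Cfsg Cfsg.Agent Cfsg.Agent.Omega.MinPar
open Cfsg.Agent.ZN (o2 zc zl)
open Cfsg.Agent.Omega.FrameFF (cv Single Free)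
open Cfsg.Agent.Omega.S5.Def Cfsg.Agent.Omega.S5.Syl Cfsg.Agent.Omega.F4Leaf.Def
open Cfsg.Agent.Omega.NSix.Base Cfsg.Agent.Omega.NSix.Basic Cfsg.Agent.Omega.F4Leaf.Pos
open Cfsg.Agent.Omega.NSix.Zero (WP mem_WP WP_norm WP_conj zpow_cases)
open Cfsg.Agent.Omega.F4Leaf.Exit.Tr Cfsg.Agent.Omega.F4Leaf.Exit.Dua
open Cfsg.Agent.MinSimple.VModule (o2_isPGroup o2_le le_o2 le_normalizer_o2 le_normalizer_zl o2_le_of_sylow mem_zc)

universe u

variable {G : Type u} [Group G] [Finite G] {S : Sylow 2 G} {P : Subgroup G} {m : ℕ} {A : Subgroup G}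
  {ε : (Fin (2 ^ m + 1) → ZMod 2) → G} {i j : Fin (2 ^ m + 1)}

/-- the elements of `V` moved by `y` at most by `f` -/
def D (h : Sit S P m A ε) {f : G} (hf : f ∈ zl (S : Subgroup G) P) (y : G) (_hy : y * f = f * y) : Subgroup G where
  carrier := {v | v ∈ zl (S : Subgroup G) P ∧ (y * v * y⁻¹ = v ∨ y * v * y⁻¹ = v * f)}
  one_mem' := ⟨one_mem _, Or.inl (by group)⟩
  mul_mem' := by
    rintro a b ⟨ha, ha'⟩ ⟨hb, hb'⟩
    have hff : f * f = 1 := by rw [← pow_two]; exact h.V_sq hf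
    have e : y * (a * b) * y⁻¹ = (y * a * y⁻¹) * (y * b * y⁻¹) := by group
    refine ⟨mul_mem ha hb, ?_⟩
    rw [e]
    rcases ha' with h1 | h1 <;> rcases hb' with h2 | h2 <;> rw [h1, h2]
    · exact Or.inl rfl
    · exact Or.inr (mul_assoc _ _ _).symm
    · right
      rw [mul_assoc, ← h.V_comm hb hf, ← mul_assoc]
    · left
      calc a * f * (b * f) = a * (f * b) * f := by group
        _ = a * (b * f) * f := by rw [h.V_comm hf hb]
        _ = a * b * (f * f) := by group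
        _ = a * b := by rw [hff, mul_one]
  inv_mem' := by
    rintro a ⟨ha, ha'⟩
    have haa : a * a = 1 := by rw [← pow_two]; exact h.V_sq ha
    have : a⁻¹ = a := inv_eq_of_mul_eq_one_left haa
    rw [Set.mem_ofPred_eq, this]
    exact ⟨ha, ha'⟩

/-- **LEMMA F**, general form -/
theorem lemF_of (hs : Sit S P m A ε) (hw : Mov ε) (hij : i ≠ j) (hi0 : i ≠ 0) (hj0 : j ≠ 0)
    (honly : ∀ l, l ≠ i → l ≠ j → (∀ s ∈ (S : Subgroup G) ⊓ NN ε i j, ∀ σ : Equiv.Perm (Fin (2 ^ m + 1)),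
      Acts ε s σ → σ l = l) → l = 0) {t : G} (ht : t ∈ NN ε i j) (hf : t * rr ε i 0 * t⁻¹ ∈ zl (S : Subgroup G) P)
    (hT : ∀ s ∈ (S : Subgroup G) ⊓ NN ε i j, s * (t * rr ε i 0 * t⁻¹) * s⁻¹ = t * rr ε i 0 * t⁻¹ ∨
      s * (t * rr ε i 0 * t⁻¹) * s⁻¹ = t * rr ε i 0 * t⁻¹ * rr ε i j) :
    t * rr ε i 0 * t⁻¹ = rr ε i 0 ∨ t * rr ε i 0 * t⁻¹ = rr ε j 0 := by
  classical
  have hE := hs.split.even
  have hn := hs.three
  have five := Sit.five hs
  set f : G := t * rr ε i 0 * t⁻¹ with hfdef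
  obtain ⟨v, hv, a, ha, hva⟩ := hs.mul_eq hf
  obtain ⟨x, rfl⟩ := hE.surj a ha
  have hff : f * f = 1 := by rw [← pow_two]; exact hs.V_sq hf
  -- (1) the group `O₂(C(f))` moves `n = r_ij` by `f`
  have hnt : t * rr ε i j * t⁻¹ = rr ε i j := mem_NN'.mp ht
  have hQn : ∀ y ∈ o2 (centralizer ({f} : Set G)), y * rr ε i j * y⁻¹ = rr ε i j ∨
      y * rr ε i j * y⁻¹ = rr ε i j * f := by
    intro y hy
    have h1 : t⁻¹ * y * t ∈ o2 (NN ε i 0) := pull hy
    have e : y * rr ε i j * y⁻¹ = t * (t⁻¹ * y * t * rr ε i j * (t⁻¹ * y * t)⁻¹) * t⁻¹ := by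
      calc y * rr ε i j * y⁻¹ = y * (t * rr ε i j * t⁻¹) * y⁻¹ := by rw [hnt]
        _ = _ := by group
    have hn' : rr ε i j ∈ zl (S : Subgroup G) P := hs.split.A_le (rr_mem hE i j)
    rcases hs.conj_V hi0 h1 hn' with h2 | h2
    · left
      rw [e, h2, hnt]
    · right
      rw [e, h2]
      calc t * (rr ε i j * rr ε i 0) * t⁻¹ = (t * rr ε i j * t⁻¹) * (t * rr ε i 0 * t⁻¹) := by group
        _ = _ := by rw [hnt]
  have hQmov : ∃ y ∈ o2 (centralizer ({f} : Set G)), y * rr ε i j * y⁻¹ ≠ rr ε i j := by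
    obtain ⟨w, hw1, hw2⟩ := hw i 0 hi0
    refine ⟨t * w * t⁻¹, push hw1, fun h1 => ?_⟩
    have h2 : w * rr ε i j * w⁻¹ = rr ε i j := by
      have e : t * w * t⁻¹ * rr ε i j * (t * w * t⁻¹)⁻¹ = t * (w * rr ε i j * w⁻¹) * t⁻¹ := by
        calc t * w * t⁻¹ * rr ε i j * (t * w * t⁻¹)⁻¹
            = t * w * t⁻¹ * (t * rr ε i j * t⁻¹) * (t * w * t⁻¹)⁻¹ := by rw [hnt]
          _ = _ := by group
      rw [e] at h1
      have h3 : t * (w * rr ε i j * w⁻¹) * t⁻¹ = t * rr ε i j * t⁻¹ := by rw [h1, hnt]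
      exact mul_left_cancel (mul_right_cancel h3)
    rw [rr_conj hw2, Equiv.swap_apply_left, Equiv.swap_apply_of_ne_of_ne hij.symm hj0] at h2
    rcases pair_eq hE five (i := i) (j := j) hij h2.symm with h3 | h3
    · exact hi0 h3.1.symm
    · exact hj0 h3.1.symm
  -- (2) `x i ≠ x j`
  have hxij : x i ≠ x j := by
    intro h1
    have h2 := (Sit.move_iff hs hw hij hv x).mpr h1
    -- conjugate back
    have h3 : ∀ y ∈ o2 (NN ε i j), y * rr ε i 0 * y⁻¹ = rr ε i 0 := by
      intro y hy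
      have hy' : t * y * t⁻¹ ∈ o2 (NN ε i j) := norm_conj (le_normalizer_o2 _ ht) hy
      have h4 := h2 _ hy'
      rw [← hva] at h4
      have e : t * y * t⁻¹ * f * (t * y * t⁻¹)⁻¹ = t * (y * rr ε i 0 * y⁻¹) * t⁻¹ := by
        rw [hfdef]
        group
      rw [e] at h4
      exact mul_left_cancel (mul_right_cancel h4)
    obtain ⟨w, hw1, hw2⟩ := hw i j hij
    have h4 := h3 w hw1
    rw [rr_conj hw2, Equiv.swap_apply_left, Equiv.swap_apply_of_ne_of_ne hi0.symm hj0.symm] at h4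
    rcases pair_eq hE five (i := i) (j := 0) hi0 h4.symm with h5 | h5
    · exact hij h5.1.symm
    · exact hi0 h5.2.symm
  -- (3) crossing pairs
  have hcen : ∀ y ∈ o2 (centralizer ({f} : Set G)), y * f = f * y := fun y hy =>
    mem_centralizer_singleton_iff.mp (o2_le _ hy)
  have hcross : ∀ k l, x k ≠ x l → ∀ y ∈ o2 (centralizer ({f} : Set G)),
      y * rr ε k l * y⁻¹ = rr ε k l ∨ y * rr ε k l * y⁻¹ = rr ε k l * f := by
    -- with fixed orientation
    have key : ∀ k l, x i = x k → x j = x l → ∀ y ∈ o2 (centralizer ({f} : Set G)),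
        y * rr ε k l * y⁻¹ = rr ε k l ∨ y * rr ε k l * y⁻¹ = rr ε k l * f := by
      intro k l hik hjl y hy
      have hil : i ≠ l := by
        rintro rfl
        exact hxij hjl.symm
      have hjk : j ≠ k := by
        rintro rfl
        exact hxij hik
      have hkl : k ≠ l := by
        rintro rfl
        exact hxij (hik.trans hjl.symm)
      let σ : Equiv.Perm (Fin (2 ^ m + 1)) := Equiv.swap i k * Equiv.swap j l
      obtain ⟨c, hc, hcσ⟩ := hE.full σ
      have hσi : σ i = k := by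
        change Equiv.swap i k (Equiv.swap j l i) = k
        rw [Equiv.swap_apply_of_ne_of_ne hij hil, Equiv.swap_apply_left]
      have hσj : σ j = l := by
        change Equiv.swap i k (Equiv.swap j l j) = l
        rw [Equiv.swap_apply_left, Equiv.swap_apply_of_ne_of_ne hil.symm hkl.symm]
      have hxσ : x ∘ σ.symm = x := by
        have hsw : ∀ a b, x a = x b → ∀ c, x (Equiv.swap a b c) = x c := by
          intro a b hab c
          by_cases h1 : c = a
          · rw [h1, Equiv.swap_apply_left, hab]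
          · by_cases h2 : c = b
            · rw [h2, Equiv.swap_apply_right, hab]
            · rw [Equiv.swap_apply_of_ne_of_ne h1 h2]
        have h1 : ∀ c, x (σ c) = x c := by
          intro c
          change x (Equiv.swap i k (Equiv.swap j l c)) = x c
          rw [hsw i k hik, hsw j l hjl]
        funext c
        rw [Function.comp_apply, ← h1 (σ.symm c), Equiv.apply_symm_apply]
      have hcf : c * f * c⁻¹ = f := by
        rw [hva]
        calc c * (v * ε x) * c⁻¹ = c * v * ε x * c⁻¹ := by group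
          _ = v * c * ε x * c⁻¹ := by rw [hs.V0_comm hv hc]
          _ = v * (c * ε x * c⁻¹) := by group
          _ = _ := by rw [hcσ x, hxσ]
      have hcC : c ∈ centralizer ({f} : Set G) := by
        rw [mem_centralizer_singleton_iff, ← mul_inv_eq_iff_eq_mul]
        exact hcf
      have hy' : c⁻¹ * y * c ∈ o2 (centralizer ({f} : Set G)) := norm_conj' (le_normalizer_o2 _ hcC) hy
      have e : y * rr ε k l * y⁻¹ = c * (c⁻¹ * y * c * rr ε i j * (c⁻¹ * y * c)⁻¹) * c⁻¹ := by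
        have e1 : rr ε k l = c * rr ε i j * c⁻¹ := by rw [rr_conj hcσ, hσi, hσj]
        rw [e1]
        group
      rcases hQn _ hy' with h1 | h1
      · left
        rw [e, h1, rr_conj hcσ, hσi, hσj]
      · right
        rw [e, h1]
        calc c * (rr ε i j * f) * c⁻¹ = (c * rr ε i j * c⁻¹) * (c * f * c⁻¹) := by group
          _ = _ := by rw [rr_conj hcσ, hσi, hσj, hcf]
    intro k l hkl y hy
    have h01 : ∀ a b c : ZMod 2, a ≠ b → c = a ∨ c = b := by decide
    rcases h01 _ _ (x k) hxij with h1 | h1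
    · rcases h01 _ _ (x l) hxij with h2 | h2
      · exact absurd (h1.trans h2.symm) hkl
      · exact key k l h1.symm h2.symm y hy
    · rcases h01 _ _ (x l) hxij with h2 | h2
      · rw [rr_symm hE k l]
        exact key l k h2.symm h1.symm y hy
      · exact absurd (h1.trans h2.symm) hkl
  -- (4) all pairs, all of `A`
  have hAD : ∀ y, ∀ hy : y ∈ o2 (centralizer ({f} : Set G)), A ≤ D hs hf y (hcen y hy) := by
    intro y hy
    have h1 : ∀ k l, rr ε k l ∈ D hs hf y (hcen y hy) := by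
      intro k l
      by_cases hkl : x k = x l
      · -- a third letter
        obtain ⟨r, hr⟩ : ∃ r, x k ≠ x r := by
          by_cases h2 : x k = x i
          · exact ⟨j, by rw [h2]; exact hxij⟩
          · exact ⟨i, h2⟩
        have h2 : rr ε k l = rr ε k r * rr ε r l := (rr_add hE k r l).symm
        rw [h2]
        refine mul_mem ⟨hs.split.A_le (rr_mem hE _ _), hcross k r hr y hy⟩
          ⟨hs.split.A_le (rr_mem hE _ _), hcross r l (fun h3 => hr (hkl.trans h3.symm)) y hy⟩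
      · exact ⟨hs.split.A_le (rr_mem hE _ _), hcross k l hkl y hy⟩
    intro b hb
    obtain ⟨z, rfl⟩ := hE.surj b hb
    have hodd : (2 ^ m + 1) % 2 = 1 := by
      have hm := hs.m2
      have : 2 ^ m = 2 * 2 ^ (m - 1) := by
        rw [← pow_succ']
        congr 1
        omega
      omega
    have h2 : ∀ s : Finset (Fin (2 ^ m + 1)), ε (∑ i ∈ s, Pi.single i (z i)) ∈ D hs hf y (hcen y hy) := by
      intro s
      induction s using Finset.induction_on with
      | empty =>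
        rw [Finset.sum_empty, hE.zero]
        exact one_mem _
      | insert k s hk ih =>
        rw [Finset.sum_insert hk, hE.add]
        refine mul_mem ?_ ih
        rcases (show ∀ y : ZMod 2, y = 0 ∨ y = 1 by decide) (z k) with h3 | h3
        · rw [h3, Pi.single_zero, hE.zero]
          exact one_mem _
        · rw [h3]
          exact zz_mem_closure hE hodd hn k h1
    have h3 := h2 Finset.univ
    rwa [Finset.univ_sum_single] at h3
  -- (5) `V₁ = A ⟨f⟩`
  let V₁ : Subgroup G :=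
    { carrier := {g | g ∈ zl (S : Subgroup G) P ∧ (g ∈ A ∨ g * f ∈ A)}
      one_mem' := ⟨one_mem _, Or.inl (one_mem _)⟩
      mul_mem' := by
        rintro a b ⟨ha, ha'⟩ ⟨hb, hb'⟩
        refine ⟨mul_mem ha hb, ?_⟩
        rcases ha' with h1 | h1 <;> rcases hb' with h2 | h2
        · exact Or.inl (mul_mem h1 h2)
        · right
          rw [mul_assoc]
          exact mul_mem h1 h2
        · right
          rw [mul_assoc, hs.V_comm hb hf, ← mul_assoc]
          exact mul_mem h1 h2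
        · left
          have h3 := mul_mem h1 h2
          have e : a * f * (b * f) = a * b := by
            calc a * f * (b * f) = a * (f * b) * f := by group
              _ = a * (b * f) * f := by rw [hs.V_comm hf hb]
              _ = a * b * (f * f) := by group
              _ = a * b := by rw [hff, mul_one]
          rwa [e] at h3
      inv_mem' := by
        rintro a ⟨ha, ha'⟩
        have haa : a * a = 1 := by rw [← pow_two]; exact hs.V_sq ha
        have : a⁻¹ = a := inv_eq_of_mul_eq_one_left haa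
        rw [this]
        exact ⟨ha, ha'⟩ }
  have hAV : A ≤ V₁ := fun b hb => ⟨hs.split.A_le hb, Or.inl hb⟩
  have hVV : V₁ ≤ zl (S : Subgroup G) P := fun b hb => hb.1
  have hfV : f ∈ V₁ := ⟨hf, Or.inr (by rw [hff]; exact one_mem _)⟩
  have hVD : ∀ y, ∀ hy : y ∈ o2 (centralizer ({f} : Set G)), V₁ ≤ D hs hf y (hcen y hy) := by
    rintro y hy b ⟨hb, hb' | hb'⟩
    · exact hAD y hy hb'
    · have h1 : f ∈ D hs hf y (hcen y hy) := ⟨hf, Or.inl (by rw [hcen y hy, mul_inv_cancel_right])⟩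
      have h2 := mul_mem (hAD y hy hb') h1
      rwa [mul_assoc, hff, mul_one] at h2
  have hact : ∀ y ∈ o2 (centralizer ({f} : Set G)), ∀ b ∈ V₁, y * b * y⁻¹ = b ∨ y * b * y⁻¹ = b * f :=
    fun y hy b hb => (hVD y hy hb).2
  have hnorm : o2 (centralizer ({f} : Set G)) ≤ normalizer (V₁ : Set G) := by
    have key : ∀ y ∈ o2 (centralizer ({f} : Set G)), ∀ b ∈ V₁, y * b * y⁻¹ ∈ V₁ := by
      intro y hy b hb
      rcases hact y hy b hb with h1 | h1
      · rw [h1]; exact hb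
      · rw [h1]; exact mul_mem hb hfV
    intro y hy
    rw [mem_normalizer_iff]
    refine fun b => ⟨key y hy b, fun hb => ?_⟩
    have h1 := key y⁻¹ (inv_mem hy) _ hb
    have e : y⁻¹ * (y * b * y⁻¹) * y⁻¹⁻¹ = b := by group
    rwa [e] at h1
  -- (6) `f` is a centre on `V₁`
  have hSN : (S : Subgroup G) ≤ normalizer (V₁ : Set G) := TrV.S_le hs hAV hVV
  obtain ⟨g, hg, hgQ⟩ := exists_conj hnorm S.isPGroup' (o2_isPGroup _) (MinSimple.Basic.not_dvd_relIndex S hSN)
  have hgf : ∀ y ∈ o2 (centralizer ({f} : Set G)), (∃ b ∈ V₁, y * b * y⁻¹ ≠ b) →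
      ∃ k l, k ≠ l ∧ g * f * g⁻¹ = rr ε k l ∧ Acts ε (g * y * g⁻¹) (Equiv.swap k l) := by
    rintro y hy ⟨b, hb, hyb⟩
    refine TrV.of_S hs hAV hVV (hgQ y hy) (fun c hc => ?_) ⟨g * b * g⁻¹, norm_conj hg hb, fun h1 => hyb ?_⟩
    · have hc' := norm_conj' hg hc
      have e : g * y * g⁻¹ * c * (g * y * g⁻¹)⁻¹ = g * (y * (g⁻¹ * c * g) * y⁻¹) * g⁻¹ := by group
      rcases hact y hy _ hc' with h1 | h1
      · left
        rw [e, h1]
        group
      · right
        rw [e, h1]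
        group
    · have e : g * y * g⁻¹ * (g * b * g⁻¹) * (g * y * g⁻¹)⁻¹ = g * (y * b * y⁻¹) * g⁻¹ := by group
      rw [e] at h1
      exact mul_left_cancel (mul_right_cancel h1)
  have hTr : Tr V₁ f :=
    { mem := hfV
      norm := hnorm
      act := hact
      mov := by
        obtain ⟨y, hy, h1⟩ := hQmov
        exact ⟨y, hy, _, hAV (rr_mem hE i j), h1⟩
      uni := by
        intro y hy y' hy' h1 h2 b hb
        obtain ⟨k, l, hkl, e1, a1⟩ := hgf y hy h1
        obtain ⟨k', l', hkl', e2, a2⟩ := hgf y' hy' h2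
        have h3 : Equiv.swap k' l' = Equiv.swap k l := by
          rcases pair_eq hE five hkl (e1.symm.trans e2) with h4 | h4
          · rw [h4.1, h4.2]
          · rw [h4.1, h4.2, Equiv.swap_comm]
        rw [h3] at a2
        have key : ∀ y ∈ o2 (centralizer ({f} : Set G)), Acts ε (g * y * g⁻¹) (Equiv.swap k l) →
            ∀ u ∈ cv (S : Subgroup G) P, ∀ z, g * y * g⁻¹ * (u * ε z) * (g * y * g⁻¹)⁻¹ =
              u * ε (z ∘ (Equiv.swap k l).symm) := by
          intro y hy a1 u hu z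
          have h4 : g * y * g⁻¹ * u = u * (g * y * g⁻¹) := hs.V0_comm hu (hs.par.le (hgQ y hy))
          calc g * y * g⁻¹ * (u * ε z) * (g * y * g⁻¹)⁻¹ = g * y * g⁻¹ * u * ε z * (g * y * g⁻¹)⁻¹ := by group
            _ = u * (g * y * g⁻¹) * ε z * (g * y * g⁻¹)⁻¹ := by rw [h4]
            _ = u * (g * y * g⁻¹ * ε z * (g * y * g⁻¹)⁻¹) := by group
            _ = _ := by rw [a1 z]
        obtain ⟨u, hu, c, hc, h4⟩ := hs.mul_eq (hVV (norm_conj hg hb))
        obtain ⟨z, rfl⟩ := hE.surj c hc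
        have h5 : g * y * g⁻¹ * (g * b * g⁻¹) * (g * y * g⁻¹)⁻¹ =
            g * y' * g⁻¹ * (g * b * g⁻¹) * (g * y' * g⁻¹)⁻¹ := by
          rw [h4, key y hy a1 u hu z, key y' hy' a2 u hu z]
        have e : ∀ y : G, g * y * g⁻¹ * (g * b * g⁻¹) * (g * y * g⁻¹)⁻¹ = g * (y * b * y⁻¹) * g⁻¹ := fun y => by
          group
        rw [e, e] at h5
        exact mul_left_cancel (mul_right_cancel h5) }
  -- (7) `f` is a pair
  obtain ⟨k, l, hkl, hfkl⟩ := TrV.pair_of_tr hs hAV hVV hw hTr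
  -- (8) one letter in `{i, j}`
  have hx' : (Pi.single k 1 + Pi.single l 1 : Fin (2 ^ m + 1) → ZMod 2) i ≠
      (Pi.single k 1 + Pi.single l 1 : Fin (2 ^ m + 1) → ZMod 2) j := by
    intro h1
    apply hxij
    rw [← Sit.move_iff hs hw hij hv x, ← hva]
    have h2 := (Sit.move_iff hs hw hij (one_mem (cv (S : Subgroup G) P)) (Pi.single k 1 + Pi.single l 1)).mpr h1
    rw [one_mul, hE.add] at h2
    rw [hfkl]
    exact h2
  have hfin : ∃ a l, (a = i ∨ a = j) ∧ l ≠ i ∧ l ≠ j ∧ f = rr ε a l := by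
    rw [Pi.add_apply, Pi.add_apply] at hx'
    by_cases hki : k = i
    · subst hki
      refine ⟨k, l, Or.inl rfl, hkl.symm, ?_, hfkl⟩
      rintro rfl
      apply hx'
      rw [Pi.single_eq_same, Pi.single_eq_of_ne hkl, Pi.single_eq_of_ne hkl.symm, Pi.single_eq_same, add_zero,
        zero_add]
    · by_cases hkj : k = j
      · subst hkj
        refine ⟨k, l, Or.inr rfl, ?_, hkl.symm, hfkl⟩
        rintro rfl
        apply hx'
        rw [Pi.single_eq_same, Pi.single_eq_of_ne hkl, Pi.single_eq_of_ne hkl.symm, Pi.single_eq_same, add_zero,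
          zero_add]
      · rw [Pi.single_eq_of_ne (Ne.symm hki), Pi.single_eq_of_ne (Ne.symm hkj), zero_add, zero_add] at hx'
        by_cases hli : l = i
        · subst hli
          exact ⟨l, k, Or.inl rfl, hki, hkj, by rw [hfkl, rr_symm hE]⟩
        · by_cases hlj : l = j
          · subst hlj
            exact ⟨l, k, Or.inr rfl, hki, hkj, by rw [hfkl, rr_symm hE]⟩
          · exfalso
            apply hx'
            rw [Pi.single_eq_of_ne (Ne.symm hli), Pi.single_eq_of_ne (Ne.symm hlj)]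
  obtain ⟨a, l, ha', hli, hlj, hfa⟩ := hfin
  have hal : a ≠ l := by
    rintro rfl
    rcases ha' with h1 | h1
    · exact hli h1
    · exact hlj h1
  have hl0 : l = 0 := by
    refine honly l hli hlj fun s hs' σ hσ => ?_
    have hsN : rr ε (σ i) (σ j) = rr ε i j := by
      rw [← rr_conj hσ]
      exact mem_NN'.mp hs'.2
    have hσij : (σ i = i ∧ σ j = j) ∨ (σ i = j ∧ σ j = i) := pair_eq hE five hij hsN.symm
    have hσl : σ l ≠ i ∧ σ l ≠ j := by
      rcases hσij with h1 | h1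
      · exact ⟨fun h2 => hli (σ.injective (h2.trans h1.1.symm)), fun h2 => hlj (σ.injective (h2.trans h1.2.symm))⟩
      · exact ⟨fun h2 => hlj (σ.injective (h2.trans h1.2.symm)), fun h2 => hli (σ.injective (h2.trans h1.1.symm))⟩
    have hσla : σ l ≠ a := by
      rcases ha' with h1 | h1
      · rw [h1]; exact hσl.1
      · rw [h1]; exact hσl.2
    have h1 := hT s hs'
    rw [hfa, rr_conj hσ] at h1
    rcases h1 with h1 | h1
    · rcases pair_eq hE five hal h1.symm with h2 | h2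
      · exact h2.2
      · exact absurd h2.2 hσla
    · obtain ⟨a', ha'', hal', h3⟩ : ∃ a', (a' = i ∨ a' = j) ∧ a' ≠ l ∧ rr ε a l * rr ε i j = rr ε a' l := by
        rcases ha' with h2 | h2
        · refine ⟨j, Or.inr rfl, hlj.symm, ?_⟩
          rw [h2, hE.comm_mem (rr_mem hE i l) (rr_mem hE i j), rr_symm hE i j, rr_add hE]
        · refine ⟨i, Or.inl rfl, hli.symm, ?_⟩
          rw [h2, hE.comm_mem (rr_mem hE j l) (rr_mem hE i j), rr_add hE]
      rw [h3] at h1
      rcases pair_eq hE five hal' h1.symm with h4 | h4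
      · exact h4.2
      · exfalso
        rcases ha'' with h5 | h5
        · exact hσl.1 (h4.2.trans h5)
        · exact hσl.2 (h4.2.trans h5)
  rw [hl0] at hfa
  rcases ha' with h1 | h1
  · left
    rw [hfa, h1]
  · right
    rw [hfa, h1]

/-- **LEMMA F** -/
theorem lemF (h : Ln S P m A ε i j) {t : G} (ht : t ∈ NN ε i j) (hf : t * rr ε i 0 * t⁻¹ ∈ zl (S : Subgroup G) P)
    (hT : ∀ s ∈ (S : Subgroup G) ⊓ NN ε i j, s * (t * rr ε i 0 * t⁻¹) * s⁻¹ = t * rr ε i 0 * t⁻¹ ∨
      s * (t * rr ε i 0 * t⁻¹) * s⁻¹ = t * rr ε i 0 * t⁻¹ * rr ε i j) :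
    t * rr ε i 0 * t⁻¹ = rr ε i 0 ∨ t * rr ε i 0 * t⁻¹ = rr ε j 0 :=
  lemF_of h.sit h.mov h.ij h.i0 h.j0 (fun _ hi hj hl => h.only0 hi hj hl) ht hf hT

/-- a transposition `(i j)` in `S` -/
theorem only0_of (hs : Sit S P m A ε) (hij : i ≠ j) (hi0 : i ≠ 0) (hj0 : j ≠ 0)
    (hd : ∃ s ∈ (S : Subgroup G), Acts ε s (Equiv.swap i j)) (l : Fin (2 ^ m + 1)) (hli : l ≠ i) (hlj : l ≠ j)
    (hl : ∀ s ∈ (S : Subgroup G) ⊓ NN ε i j, ∀ σ : Equiv.Perm (Fin (2 ^ m + 1)), Acts ε s σ → σ l = l) : l = 0 := by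
  by_contra hl0
  have hE := hs.split.even
  obtain ⟨u, hu, hu'⟩ := hd
  obtain ⟨s, hs', σ, hσ, hσi⟩ := S5.Syl.trans (by have := hs.m2; omega) hE hs.par.le hs.hS2 hs.split.fix0 hi0 hl0
  have h1 : s * u * s⁻¹ ∈ (S : Subgroup G) := mul_mem (mul_mem hs' hu) (inv_mem hs')
  have h2 : Acts ε (s * u * s⁻¹) (Equiv.swap l (σ j)) := by
    have h3 := hσ.conj hu'
    have e : σ * Equiv.swap i j * σ⁻¹ = Equiv.swap l (σ j) := by
      rw [← hσi, Equiv.swap_apply_apply]
    rwa [e] at h3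
  have hlσ : l ≠ σ j := by
    rw [← hσi]
    exact fun h3 => hij (σ.injective h3)
  -- no 3-cycle in `S`
  have no3 : ∀ a b c : Fin (2 ^ m + 1), a ≠ b → a ≠ c → b ≠ c → ∀ x ∈ (S : Subgroup G), ∀ y ∈ (S : Subgroup G),
      Acts ε x (Equiv.swap a b) → Acts ε y (Equiv.swap a c) → False := by
    intro a b c hab hac hbc x hx y hy hx' hy'
    have h3 := hx'.mul hy'
    obtain ⟨k, hk⟩ := S.isPGroup' ⟨x * y, mul_mem hx hy⟩
    have h4 : (x * y) ^ 2 ^ k = 1 := congrArg Subtype.val hk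
    have hpow : ∀ n : ℕ, Acts ε ((x * y) ^ n) ((Equiv.swap a b * Equiv.swap a c) ^ n) := by
      intro n
      induction n with
      | zero => rw [pow_zero, pow_zero]; exact Acts.one
      | succ n ih => rw [pow_succ, pow_succ]; exact ih.mul h3
    have h5 := hpow (2 ^ k)
    rw [h4] at h5
    have h6 : (Equiv.swap a b * Equiv.swap a c) ^ 2 ^ k = 1 := (hE.acts_unique hs.three h5 Acts.one)
    have h10 := (Equiv.Perm.isThreeCycle_swap_mul_swap_same hab hac hbc).orderOf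
    have h8 : Nat.Coprime 3 (2 ^ k) := Nat.Coprime.pow_right k (by norm_num)
    have h9 := orderOf_dvd_of_pow_eq_one h6
    rw [h10] at h9
    have h11 := Nat.Coprime.eq_one_of_dvd h8 h9
    omega
  have hji : σ j ≠ i := by
    intro h3
    rw [h3] at h2
    rw [Equiv.swap_comm] at h2
    exact no3 i l j hli.symm hij hlj _ h1 _ hu h2 hu'
  have hjj : σ j ≠ j := by
    intro h3
    rw [h3, Equiv.swap_comm] at h2
    rw [Equiv.swap_comm] at hu'
    exact no3 j l i hlj.symm hij.symm hli _ h1 _ hu h2 hu'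
  have hN : s * u * s⁻¹ ∈ NN ε i j := by
    rw [mem_NN', rr_conj h2, Equiv.swap_apply_of_ne_of_ne hli.symm hji.symm,
      Equiv.swap_apply_of_ne_of_ne hlj.symm hjj.symm]
  have h3 := hl _ ⟨h1, hN⟩ _ h2
  rw [Equiv.swap_apply_left] at h3
  exact hlσ h3.symm

/-- **LEMMA F**, from a transposition `(i j)` of `S` (literal `Inst.LemF` of helper628) -/
theorem lemF_duad (hs : Sit S P m A ε) (hwp : ∃ i j, i ≠ j ∧ ∃ g ∈ WP ε i j, ¬ g ∈ centralizer (A : Set G))
    (hij : i ≠ j) (hi0 : i ≠ 0) (hj0 : j ≠ 0) (hd : ∃ s ∈ (S : Subgroup G), Acts ε s (Equiv.swap i j)) :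
    ∀ t ∈ NN ε i j, t * rr ε i 0 * t⁻¹ ∈ zl (S : Subgroup G) P →
      (∀ s ∈ (S : Subgroup G) ⊓ NN ε i j, s * (t * rr ε i 0 * t⁻¹) * s⁻¹ = t * rr ε i 0 * t⁻¹ ∨
        s * (t * rr ε i 0 * t⁻¹) * s⁻¹ = t * rr ε i 0 * t⁻¹ * rr ε i j) →
      t * rr ε i 0 * t⁻¹ = rr ε i 0 ∨ t * rr ε i 0 * t⁻¹ = rr ε j 0 := by
  intro t ht hf hT
  have hw : Mov ε := by
    intro k l hkl
    obtain ⟨w, hw, hs'⟩ := hs.mov hwp hkl
    exact ⟨w, hs.fac.ww hs.c2 hs.three hkl hw, hs'⟩
  exact lemF_of hs hw hij hi0 hj0 (only0_of hs hij hi0 hj0 hd) ht hf hT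

end Cfsg.Agent.Omega.F4Leaf.Syl.LemF
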