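import Cfsg.Agent.Omega.F4Leaf.Syl.EndCMain
import Cfsg.Agent.Omega.F4Leaf.Syl.Inst
import Cfsg.Agent.Omega.F4Leaf.Syl.LemF
import Cfsg.Agent.Omega.F4Leaf.Syl.Mix

/-!
# LeafF4, piece E, complete (helper778): `EndTT`, `EndNat` of `Syl/Main.lean`

* `exists_tone` : a moved line and `m ≥ 3` give `TOne` (pieces A: helper758, helper628);
* `pos_of_moved` : a moved line, `n` 2-central: the position `HTwo.Entry.Pos` (pair `(R, R^h)`), any `m ≥ 2`;
* `endTT : Main.EndTT`, `endNat : Main.EndNat` (from `Mix.nonab`, `MixS.mix_sym`, helper300, helper994).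
-/

set_option autoImplicit false
set_option linter.dupNamespace false
set_option linter.unusedSectionVars false

namespace Cfsg.Agent.Omega.F4Leaf.Syl.EndCPure

open Subgroup Pointwise Cfsg Cfsg.Agent Cfsg.Agent.Omega.MinPar
open Cfsg.Agent.ZN (o2 zc zl)
open Cfsg.Agent.ZN.ChoiceBase (cj mem_cj)
open Cfsg.Agent.Omega.Frame Cfsg.Agent.Omega.FFThm
open Cfsg.Agent.Omega.FrameLE (AllIn)
open Cfsg.Agent.Omega.FrameFF (cv Single Free)
open Cfsg.Agent.Omega.FrameMulti (IsSym IsNat Typed AllTyped)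
open Cfsg.Agent.Omega.HOne.Main (NonFree)
open Cfsg.Agent.Omega.S5.Def Cfsg.Agent.Omega.S5.Syl Cfsg.Agent.Omega.S5.Pair Cfsg.Agent.Omega.S5.Main
open Cfsg.Agent.Omega.S5.SymBig (H2 pos_symm rr_cj NN_cj)
open Cfsg.Agent.Omega.F4Leaf.Def Cfsg.Agent.Omega.F4Leaf.Main Cfsg.Agent.Omega.F4Leaf.Two
open Cfsg.Agent.Omega.F4Leaf.Pos Cfsg.Agent.Omega.F4Leaf.Facts
open Cfsg.Agent.Omega.NSix.Base Cfsg.Agent.Omega.NSix.Basic
open Cfsg.Agent.Omega.NSix.Zero (WP mem_WP WP_norm WP_conj zpow_cases)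
open Cfsg.Agent.Omega.NTwo (nn cm cc ci comm_iff mem_cent mem_smul o2_cent_conj o2_cent_conj' mem_csmul csmul_mem)
open Cfsg.Agent.Omega.F4Leaf.Syl.Main (TwoCen EndTT EndNat nonAb_cj)
open Cfsg.Agent.Omega.F4Leaf.Syl.Mix (NonAb nonab)
open Cfsg.Agent.Omega.F4Leaf.Syl.EndC
open Cfsg.Agent.Omega.HT.LineOf (ln dd)
open Cfsg.Agent.MinSimple.VModule (o2_isPGroup o2_le le_o2 le_normalizer_o2 o2_le_of_sylow mem_zc zc_le
  le_normalizer_zl zl_comm zl_sq zc_le_zl zl_le normalizer_le_normalizer_zc)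

universe u

section one

variable {G : Type u} [Group G] [Finite G] {S : Sylow 2 G} {P : Subgroup G} {m : ℕ} {A : Subgroup G}
  {ε : (Fin (2 ^ m + 1) → ZMod 2) → G} (h : Sit S P m A ε) {i j : Fin (2 ^ m + 1)}
include h

theorem ne_zero_of (hij : i ≠ j) (hs : ∃ s ∈ (S : Subgroup G), Acts ε s (Equiv.swap i j)) : i ≠ 0 ∧ j ≠ 0 := by
  have h0 : ∀ k, Equiv.swap i j k ≠ k → k ≠ 0 := by
    rintro k hk rfl
    obtain ⟨s, hs1, hs2⟩ := hs
    exact hk (h.split.fix0 s hs1 _ hs2)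
  exact ⟨h0 i (by rw [Equiv.swap_apply_left]; exact hij.symm), h0 j (by rw [Equiv.swap_apply_right]; exact hij)⟩

theorem mov_of (hij : i ≠ j) (hw : ∃ w ∈ WP ε i j, Acts ε w (Equiv.swap i j)) :
    ∃ i j, i ≠ j ∧ ∃ g ∈ WP ε i j, ¬ g ∈ centralizer (A : Set G) := by
  obtain ⟨w, hw1, hw2⟩ := hw
  refine ⟨i, j, hij, w, hw1, fun h1 => hij ?_⟩
  have h2 := h.split.even.acts_one_iff.2 h1
  have h3 := hw2.single i
  have h4 := h2.single i
  rw [Equiv.swap_apply_left] at h3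
  rw [h3] at h4
  exact (h.split.even.single_inj h.three h4).symm

/-- **pieces A**, a moved line -/
theorem exists_tone (hm : 3 ≤ m) (hcv : cv (S : Subgroup G) P ≠ ⊥) (hij : i ≠ j)
    (hs : ∃ s ∈ (S : Subgroup G), Acts ε s (Equiv.swap i j)) (hw : ∃ w ∈ WP ε i j, Acts ε w (Equiv.swap i j))
    (hM : NonAb ε i j 0) : ∃ T, TOne (S : Subgroup G) ε i j T := by
  obtain ⟨hi, hj⟩ := ne_zero_of h hij hs
  have hmov := mov_of h hij hw
  have hP : TSyl.Part A ε i j := by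
    obtain ⟨k, hk, h1⟩ := hM
    exact ⟨k, hk, _, rr_mem h.split.even i 0, _, rr_mem h.split.even i 0, h1⟩
  obtain ⟨T, hT⟩ := Inst.exists_fr h hm hij hi hj hs hmov hP (LemF.lemF_duad h hmov hij hi hj hs) hcv
  refine ⟨T, hT.leN, hT.p, hT.odd, hT.le, fun t ht => ?_⟩
  have hu : rr ε i 0 ∈ ln (TSyl.line h hij hi hj) := (TSyl.line h hij hi hj).dd_mem 1
  have h1 : t * rr ε i 0 * t⁻¹ ∈ ln (TSyl.line h hij hi hj) := (mem_normalizer_iff.1 (hT.nrm ht) _).1 hu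
  have hr : t * rr ε i j * t⁻¹ = rr ε i j := mem_NN'.1 (hT.leN ht)
  rcases (TSyl.line h hij hi hj).mem_ln.1 h1 with h2 | ⟨s, h2⟩
  · exfalso
    have h3 : rr ε i 0 = 1 := by
      have e : rr ε i 0 = t⁻¹ * (t * rr ε i 0 * t⁻¹) * t := by group
      rw [e, h2]
      group
    exact rr_ne_one h.split.even h.three hi h3
  · fin_cases s
    · exfalso
      have h3 : t * rr ε i 0 * t⁻¹ = t * rr ε i j * t⁻¹ := h2.trans hr.symm
      have h4 : rr ε i 0 = rr ε i j := mul_left_cancel (mul_right_cancel h3)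
      exact hj (h.split.even.single_inj h.three (mul_left_cancel h4)).symm
    · exact Or.inl h2
    · right
      rw [h2]
      exact TSyl.dd_two h i j

/-- the member `R` -/
theorem exists_exM (hcv : cv (S : Subgroup G) P ≠ ⊥) (hij : i ≠ j)
    (hs : ∃ s ∈ (S : Subgroup G), Acts ε s (Equiv.swap i j)) (hw : ∃ w ∈ WP ε i j, Acts ε w (Equiv.swap i j))
    (hM : NonAb ε i j 0) (hc : TwoCen (rr ε i j)) : ∃ c R k, ExG S P (rr ε i j) c R k := by
  by_cases h3 : 3 ≤ m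
  · obtain ⟨T, hT⟩ := exists_tone h h3 hcv hij hs hw hM
    obtain ⟨hi, hj⟩ := ne_zero_of h hij hs
    obtain ⟨R, k, E⟩ := exists_exG h (mov_of h hij hw) hcv hij hi hj hT hc
    exact ⟨_, R, k, E⟩
  · obtain rfl : m = 2 := by have := h.m2; omega
    exact EndCMain.exists_two h hij hs hw hc

/-- **a moved line, `n` 2-central** -/
theorem pos_of_moved (hG : Ctx G) (hT : AllTyped (S : Subgroup G)) (hcv : cv (S : Subgroup G) P ≠ ⊥) (hij : i ≠ j)
    (hs : ∃ s ∈ (S : Subgroup G), Acts ε s (Equiv.swap i j)) (hw : ∃ w ∈ WP ε i j, Acts ε w (Equiv.swap i j))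
    (hM : NonAb ε i j 0) (hc : TwoCen (rr ε i j)) :
    ∃ (P V : Subgroup G) (ι : Type u) (R : ι → Subgroup G) (o : ι) (r z : G), HTwo.Entry.Pos S P V R o r z := by
  obtain ⟨c, R, k, E⟩ := exists_exM h hcv hij hs hw hM hc
  obtain ⟨g, hg, hne⟩ := hM
  have hgr : g * rr ε i j * g⁻¹ = rr ε i j := mem_NN'.1 hg
  refine NoWrFree.exists_pos hG S hT (E.nonFree_tt E hgr fun h0 => hne ?_) E.card E.card
  rw [commutator_eq_bot_iff_le_centralizer] at h0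
  have h1 := rr_V h i 0
  have h2 : g * rr ε i 0 * g⁻¹ ∈ (MulAut.conj g • zl (S : Subgroup G) P : Subgroup G) := csmul_mem h1
  exact (mem_centralizer_iff.mp (h0 h1) _ h2).symm

end one

/-- **Piece E, T-T** -/
theorem endTT : EndTT.{u} := by
  intro G _ _ hG S hT P₁ P₂ y m m' A ε A₂ ε₂ hm hm' hbig hl hc₁ hc₂ hall
  have hc := hG.char2
  obtain ⟨i, j, k, l, hij, hkl, hr, ⟨b, hb, hb1⟩, -, ⟨a, ha, ha1⟩, -⟩ := exists_common hc hl hm hm'
  have s₁ : Pos.Sit S P₁ m A ε := ⟨hc, hl.pair.star₁, hm, hl.split⟩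
  have s₂ : Pos.Sit S P₂ m' A₂ ε₂ := ⟨hc, hl.pair.star₂, hm', hl.split₂⟩
  have hw := wp_eq hr
  have hbS' : b ∈ (S : Subgroup G) := hl.le (map_mono hl.split₂.A_le hb)
  have haS' : y⁻¹ * a * y ∈ (S : Subgroup G) := mem_cj.mp (hl.ge (hl.split.A_le ha))
  have ha2' : Acts ε₂ (y⁻¹ * a * y) (Equiv.swap k l) := by
    rw [← acts_conj_label_iff y]
    have e : y * (y⁻¹ * a * y) * y⁻¹ = a := by group
    rwa [e]
  obtain ⟨hi, hj⟩ := ne_zero_of s₁ hij ⟨b, hbS', hb1⟩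
  obtain ⟨hk, hl0⟩ := ne_zero_of s₂ hkl ⟨_, haS', ha2'⟩
  rcases nonab hc hl hm hm' (Or.inl hc₁) hij hkl hr ⟨b, hb, hb1⟩ with hM | hM
  · replace hM := hM 0 hi.symm hj.symm
    have hbS : b ∈ (S : Subgroup G) := hl.le (map_mono hl.split₂.A_le hb)
    have hbW : b ∈ WP ε i j := by
      rw [hw]
      exact (s₂.fac.conj y).mem_wp hkl hb
    exact pos_of_moved s₁ hG hT hc₁ hij ⟨b, hbS, hb1⟩ ⟨b, hbW, hb1⟩ hM (hall i j)
  · replace hM := hM 0 hk.symm hl0.symm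
    have haS : y⁻¹ * a * y ∈ (S : Subgroup G) := mem_cj.mp (hl.ge (hl.split.A_le ha))
    have haW : y⁻¹ * a * y ∈ WP ε₂ k l := by
      refine Main.wp_cj ?_
      rw [← hw]
      exact s₁.fac.mem_wp hij ha
    have ha2 : Acts ε₂ (y⁻¹ * a * y) (Equiv.swap k l) := by
      rw [← acts_conj_label_iff y]
      have e : y * (y⁻¹ * a * y) * y⁻¹ = a := by group
      rwa [e]
    have hn₂ : y * rr ε₂ k l * y⁻¹ = rr ε i j := by rw [hr, rr_cj]
    have hc2 : TwoCen (rr ε₂ k l) := by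
      have h1 := (hall i j).conj y⁻¹
      have e : y⁻¹ * rr ε i j * y⁻¹⁻¹ = rr ε₂ k l := by rw [← hn₂]; group
      rwa [e] at h1
    exact pos_of_moved s₂ hG hT hc₂ hkl ⟨_, haS, ha2⟩ ⟨_, haW, ha2⟩ (nonAb_cj hM) hc2

/-- the dichotomy for a natural partner (helper300, `Syl/NatBoth.lean`) -/
def NatBoth : Prop :=
  ∀ (G : Type u) [Group G] [Finite G], IsCharacteristicTwoType G → ∀ (S : Sylow 2 G) (P₁ P₂ : Subgroup G) (y : G)
    (m : ℕ) (A : Subgroup G) (ε : (Fin (2 ^ m + 1) → ZMod 2) → G), 2 ≤ m → LabZ S P₁ P₂ y m A ε →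
    IsNat (S : Subgroup G) P₂ 1 → cv (S : Subgroup G) P₁ ≠ ⊥ → ∀ i j : Fin (2 ^ m + 1), i ≠ j →
      (∃ b ∈ cj y (zl (S : Subgroup G) P₂), Acts ε b (Equiv.swap i j)) →
        (∀ o, o ≠ i → o ≠ j → NonAb ε i j o) ∨ ∃ g, Mutual (S : Subgroup G) P₂ P₂ g

/-- **Piece E, natural partner** -/
theorem endNat_of (hB : NatBoth.{u}) : EndNat.{u} := by
  intro G _ _ hG S hT P₁ P₂ y m A ε hm hl hN hc₁ hc₂
  have hc := hG.char2
  have hm2 : 2 ≤ m := by omega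
  obtain ⟨cz1, cz2⟩ := NatStep.natStep G hc S P₁ P₂ y m A ε hm2 hl hN
  have hN' := hN
  obtain ⟨F, i1, i2, i3, ⟨M⟩⟩ := hN
  have hF := F4Leaf.NatStep.card_F hc hm2 hl M
  have hev := hl.split.even
  have hP₁ := hl.pair.star₁
  have hP₂ := hl.pair.star₂
  have s₁ : Pos.Sit S P₁ m A ε := ⟨hc, hP₁, hm2, hl.split⟩
  obtain ⟨r, hr, hrw⟩ := Cen.Entry.nat_two hc hP₂ M hF
  obtain ⟨b, hb, i, j, hij, hbs⟩ := S5.Nat.exists_swap hev hl.side (Cen.Entry.not_le_cent hc hl)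
  have e0 := hbs.single i
  rw [Equiv.swap_apply_left] at e0
  have hne1 : rr ε i j ≠ 1 := rr_ne_one hev s₁.three hij
  have hrr : rr ε i j * rr ε i j = 1 := rr_sq hev i j
  -- `S^y` acts on `V'`
  have hact : ∀ q ∈ cj y (S : Subgroup G), ∀ w ∈ cj y (zl (S : Subgroup G) P₂),
      q * w * q⁻¹ = w ∨ q * w * q⁻¹ = (y * r * y⁻¹) * w := by
    intro q hq w hw
    rcases hrw _ (mem_cj.1 hq) _ (mem_cj.1 hw) with h1 | h1
    · left
      calc q * w * q⁻¹ = y * (y⁻¹ * q * y * (y⁻¹ * w * y) * (y⁻¹ * q * y)⁻¹) * y⁻¹ := by group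
        _ = w := by rw [h1]; group
    · right
      calc q * w * q⁻¹ = y * (y⁻¹ * q * y * (y⁻¹ * w * y) * (y⁻¹ * q * y)⁻¹) * y⁻¹ := by group
        _ = (y * r * y⁻¹) * w := by rw [h1]; group
  -- `n = r^y`
  have hnr : rr ε i j = y * r * y⁻¹ := by
    have h0 : zz ε i ∈ zl (S : Subgroup G) P₁ := hl.split.A_le (zz_mem hev i)
    have h2 : zz ε i * b * (zz ε i)⁻¹ * b⁻¹ = rr ε i j := by
      rw [show (zz ε i)⁻¹ = zz ε i from hev.inv _, rr]
      calc zz ε i * b * zz ε i * b⁻¹ = zz ε i * (b * zz ε i * b⁻¹) := by group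
        _ = zz ε i * zz ε j := by rw [show b * zz ε i * b⁻¹ = zz ε j from e0]
    rcases hact _ (hl.ge h0) b hb with h1 | h1
    · rw [h1, mul_inv_cancel] at h2
      exact absurd h2.symm hne1
    · rw [h1, mul_inv_cancel_right] at h2
      exact h2.symm
  have hSn : ∀ q ∈ cj y (S : Subgroup G), q * rr ε i j * q⁻¹ = rr ε i j := by
    intro q hq
    have h1 : (y⁻¹ * q * y) * r * (y⁻¹ * q * y)⁻¹ = r := comm_iff.2 ((mem_zc.1 hr).2.1 _ (mem_cj.1 hq))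
    rw [hnr]
    calc q * (y * r * y⁻¹) * q⁻¹ = y * ((y⁻¹ * q * y) * r * (y⁻¹ * q * y)⁻¹) * y⁻¹ := by group
      _ = y * r * y⁻¹ := by rw [h1]
  have hSn' : ((y • S : Sylow 2 G) : Subgroup G) ≤ centralizer {rr ε i j} := by
    intro x hx
    rw [mem_smul] at hx
    exact mem_cent.2 (hSn x (mem_cj.2 hx))
  have hcen : TwoCen (rr ε i j) := ⟨y • S, hSn'⟩
  have hQS : ∀ q ∈ o2 (centralizer ({rr ε i j} : Set G)), q ∈ cj y (S : Subgroup G) := by
    intro q hq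
    have h2 := o2_le_of_sylow (y • S : Sylow 2 G).isPGroup'
      (MinSimple.Basic.not_dvd_relIndex (y • S : Sylow 2 G) hSn') hq
    rw [mem_cj]
    exact mem_smul.1 h2
  have hQW : ∀ q ∈ o2 (centralizer ({rr ε i j} : Set G)), ∀ w ∈ cj y (zl (S : Subgroup G) P₂),
      q * w * q⁻¹ = w ∨ q * w * q⁻¹ = rr ε i j * w := by
    intro q hq w hw
    rw [hnr]
    exact hact q (hQS q hq) w hw
  have hWQ : cj y (zl (S : Subgroup G) P₂) ≤ o2 (centralizer ({rr ε i j} : Set G)) := by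
    intro w hw
    have hwS : w ∈ cj y (S : Subgroup G) := by
      rw [mem_cj] at hw ⊢
      exact ((hP₂.isLoc.zl_le S hc).trans (zc_le _)).trans (hP₂.isLoc.o2_le S) hw
    refine S5.Mod.le_o2_of_comm hc (by rw [sq]; exact hrr) hne1 (comm_iff.1 (hSn w hwS)) fun q hq => ?_
    rcases hQW q hq w hw with h1 | h1
    · left
      rw [comm_iff] at h1
      calc w * q * w⁻¹ * q⁻¹ = (q * w) * w⁻¹ * q⁻¹ := by rw [h1]
        _ = 1 := by group
    · right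
      have h2 : q * w = rr ε i j * w * q := by rw [← h1]; group
      calc w * q * w⁻¹ * q⁻¹ = rr ε i j * rr ε i j * w * q * w⁻¹ * q⁻¹ := by rw [hrr, one_mul]
        _ = rr ε i j * (rr ε i j * w * q) * w⁻¹ * q⁻¹ := by group
        _ = rr ε i j * (q * w) * w⁻¹ * q⁻¹ := by rw [h2]
        _ = rr ε i j := by group
  have hbQ := hWQ hb
  have hbW : b ∈ WP ε i j := by
    refine mem_WP.2 ⟨o2_le _ hbQ, fun q hq => ?_⟩
    rcases hQW q hq b hb with h1 | h1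
    · have h2 : b * q * b⁻¹ * q⁻¹ = 1 := by
        rw [comm_iff] at h1
        calc b * q * b⁻¹ * q⁻¹ = (q * b) * b⁻¹ * q⁻¹ := by rw [h1]
          _ = 1 := by group
      rw [h2]
      exact one_mem _
    · have h2 : q * b = rr ε i j * b * q := by rw [← h1]; group
      have h3 : b * q * b⁻¹ * q⁻¹ = rr ε i j := by
        calc b * q * b⁻¹ * q⁻¹ = rr ε i j * rr ε i j * b * q * b⁻¹ * q⁻¹ := by rw [hrr, one_mul]
          _ = rr ε i j * (rr ε i j * b * q) * b⁻¹ * q⁻¹ := by group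
          _ = rr ε i j * (q * b) * b⁻¹ * q⁻¹ := by rw [h2]
          _ = rr ε i j := by group
      rw [h3]
      exact mem_zpowers _
  obtain ⟨hi, hj⟩ := ne_zero_of s₁ hij ⟨b, hl.le hb, hbs⟩
  rcases hB G hc S P₁ P₂ y m A ε hm2 hl hN' hc₁ i j hij ⟨b, hb, hbs⟩ with hM | ⟨g, hg⟩
  · exact pos_of_moved s₁ hG hT hc₁ hij ⟨b, hl.le hb, hbs⟩ ⟨b, hbW, hbs⟩ (hM 0 hi.symm hj.symm) hcen
  · exact NoWrFree.exists_pos hG S hT ⟨hg, hc₂, hc₂⟩ (by omega) (by omega)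

end Cfsg.Agent.Omega.F4Leaf.Syl.EndCPure
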