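import Cfsg.Agent.Omega.F4Leaf.Syl.Mix
import Cfsg.Agent.Omega.F4Leaf.Cen.Entry

/-!
# LeafF4: mixed pairs, natural partner (helper300)

* `natBoth` : `(P₁, P₂)` mutual, `P₁` of type `S_{2^m+1}`, `P₂` natural for `SL_2(2)` (`V₀ ≠ 1` or `m = 2`): either
  `⟨V^{C_G(n)}⟩` is nonabelian, or `(P₂, P₂)` is a mutual pair.
-/

set_option autoImplicit false

namespace Cfsg.Agent.Omega.F4Leaf.Syl.Mix

open Subgroup Pointwise Cfsg Cfsg.Agent Cfsg.Agent.Omega.MinPar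
open Cfsg.Agent.ZN (o2 zc zl)
open Cfsg.Agent.ZN.ChoiceBase
open Cfsg.Agent.Omega.FrameFF (cv Single Free)
open Cfsg.Agent.Omega.FrameMulti (IsNat)
open Cfsg.Agent.Omega.S5.Def Cfsg.Agent.Omega.S5.Pair
open Cfsg.Agent.Omega.NSix.Base Cfsg.Agent.Omega.NSix.Basic
open Cfsg.Agent.Omega.F4Leaf.Def Cfsg.Agent.Omega.F4Leaf.Main Cfsg.Agent.Omega.F4Leaf.Facts
open Cfsg.Agent.Omega.NTwo (comm_iff mem_cent mem_smul)
open Cfsg.Agent.MinSimple.VModule (o2_isPGroup o2_le le_normalizer_o2 o2_le_of_sylow mem_zc zc_le zl_sq zc_le_zl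
  le_normalizer_zl)

universe u

variable {G : Type u} [Group G] [Finite G] {S : Sylow 2 G} {P₁ P₂ : Subgroup G} {y : G} {m : ℕ} {A : Subgroup G}
  {ε : (Fin (2 ^ m + 1) → ZMod 2) → G}

/-- **MIXED pairs, natural partner.** -/
theorem natBoth (hG : IsCharacteristicTwoType G) (hl : LabZ S P₁ P₂ y m A ε) (hm : 2 ≤ m)
    (hN : IsNat (S : Subgroup G) P₂ 1) (hc : cv (S : Subgroup G) P₁ ≠ ⊥ ∨ m = 2) {i j : Fin (2 ^ m + 1)} (hij : i ≠ j)
    (hb : ∃ b ∈ cj y (zl (S : Subgroup G) P₂), Acts ε b (Equiv.swap i j)) :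
    (∀ o, o ≠ i → o ≠ j → NonAb ε i j o) ∨ ∃ g, Mutual (S : Subgroup G) P₂ P₂ g := by
  by_contra hcon
  push Not at hcon
  obtain ⟨⟨o, oi, oj, hn1⟩, hn2⟩ := hcon
  obtain ⟨F, i1, i2, i3, ⟨M⟩⟩ := hN
  have hF := F4Leaf.NatStep.card_F hG hm hl M
  have ev := hl.split.even
  have hP₂ := hl.pair.star₂
  have s₁ : Pos.Sit S P₁ m A ε := ⟨hG, hl.pair.star₁, hm, hl.split⟩
  obtain ⟨r, hr, hrw⟩ := Cen.Entry.nat_two hG hP₂ M hF
  obtain ⟨K, N, s⟩ := MixOne.exists_spl hG hP₂ M.natOver (HOne.splitPar_of_two hG S hP₂ M.natOver hF)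
  have hcard : Nat.card (HOne.Main.vx (S : Subgroup G) P₂) = 4 := by
    rw [N.card_V, hF]
    norm_num
  obtain ⟨b, hb, hbs⟩ := hb
  have e0 := hbs.single i
  rw [Equiv.swap_apply_left] at e0
  have hne1 : rr ε i j ≠ 1 := rr_ne_one ev s₁.three hij
  have hrr : rr ε i j * rr ε i j = 1 := rr_sq ev i j
  -- `S^y` acts on `V'`
  have hact : ∀ q ∈ cj y (S : Subgroup G), ∀ w ∈ cj y (zl (S : Subgroup G) P₂),
      q * w * q⁻¹ = w ∨ q * w * q⁻¹ = (y * r * y⁻¹) * w := by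
    intro q hq w hw
    rcases hrw _ (mem_cj.1 hq) _ (mem_cj.1 hw) with h1 | h1
    · left
      calc q * w * q⁻¹ = y * (y⁻¹ * q * y * (y⁻¹ * w * y) * (y⁻¹ * q * y)⁻¹) * y⁻¹ := by group
        _ = w := by rw [h1]; group
    · right
      calc q * w * q⁻¹ = y * (y⁻¹ * q * y * (y⁻¹ * w * y) * (y⁻¹ * q * y)⁻¹) * y⁻¹ := by group
        _ = (y * r * y⁻¹) * w := by rw [h1]; group
  have h0 : zz ε i ∈ zl (S : Subgroup G) P₁ := hl.split.A_le (zz_mem ev i)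
  have hcomm : zz ε i * b * (zz ε i)⁻¹ * b⁻¹ = rr ε i j := by
    rw [show (zz ε i)⁻¹ = zz ε i from ev.inv _, rr]
    calc zz ε i * b * zz ε i * b⁻¹ = zz ε i * (b * zz ε i * b⁻¹) := by group
      _ = zz ε i * zz ε j := by rw [show b * zz ε i * b⁻¹ = zz ε j from e0]
  -- `n = r^y`
  have hnr : rr ε i j = y * r * y⁻¹ := by
    rcases hact _ (hl.ge h0) b hb with h1 | h1
    · rw [h1, mul_inv_cancel] at hcomm
      exact absurd hcomm.symm hne1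
    · rw [h1, mul_inv_cancel_right] at hcomm
      exact hcomm.symm
  have hSn : ∀ q ∈ cj y (S : Subgroup G), q * rr ε i j * q⁻¹ = rr ε i j := by
    intro q hq
    have h1 : (y⁻¹ * q * y) * r * (y⁻¹ * q * y)⁻¹ = r := comm_iff.2 ((MinSimple.VModule.mem_zc.1 hr).2.1 _ (mem_cj.1 hq))
    rw [hnr]
    calc q * (y * r * y⁻¹) * q⁻¹ = y * ((y⁻¹ * q * y) * r * (y⁻¹ * q * y)⁻¹) * y⁻¹ := by group
      _ = y * r * y⁻¹ := by rw [h1]
  have hSn' : ((y • S : Sylow 2 G) : Subgroup G) ≤ centralizer {rr ε i j} := by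
    intro x hx
    rw [mem_smul] at hx
    exact mem_cent.2 (hSn x (mem_cj.2 hx))
  have hQS : ∀ q ∈ o2 (centralizer ({rr ε i j} : Set G)), q ∈ cj y (S : Subgroup G) := by
    intro q hq
    have h2 := o2_le_of_sylow (y • S : Sylow 2 G).isPGroup'
      (MinSimple.Basic.not_dvd_relIndex (y • S : Sylow 2 G) hSn') hq
    rw [mem_cj]
    exact mem_smul.1 h2
  have hQW : ∀ q ∈ o2 (centralizer ({rr ε i j} : Set G)), ∀ w ∈ cj y (zl (S : Subgroup G) P₂),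
      q * w * q⁻¹ = w ∨ q * w * q⁻¹ = rr ε i j * w := by
    intro q hq w hw
    rw [hnr]
    exact hact q (hQS q hq) w hw
  have hWQ : cj y (zl (S : Subgroup G) P₂) ≤ o2 (centralizer ({rr ε i j} : Set G)) := by
    intro w hw
    have hwS : w ∈ cj y (S : Subgroup G) := by
      rw [mem_cj] at hw ⊢
      exact ((hP₂.isLoc.zl_le S hG).trans (zc_le _)).trans (hP₂.isLoc.o2_le S) hw
    refine S5.Mod.le_o2_of_comm hG (by rw [sq]; exact hrr) hne1 (comm_iff.1 (hSn w hwS)) fun q hq => ?_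
    rcases hQW q hq w hw with h1 | h1
    · left
      rw [comm_iff] at h1
      calc w * q * w⁻¹ * q⁻¹ = (q * w) * w⁻¹ * q⁻¹ := by rw [h1]
        _ = 1 := by group
    · right
      have h2 : q * w = rr ε i j * w * q := by rw [← h1]; group
      calc w * q * w⁻¹ * q⁻¹ = rr ε i j * rr ε i j * w * q * w⁻¹ * q⁻¹ := by rw [hrr, one_mul]
        _ = rr ε i j * (rr ε i j * w * q) * w⁻¹ * q⁻¹ := by group
        _ = rr ε i j * (q * w) * w⁻¹ * q⁻¹ := by rw [h2]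
        _ = rr ε i j := by group
  -- `Q_n ≤ P₂^y`
  have hQP : o2 (NN ε i j) ≤ cj y P₂ := by
    intro q hq
    have h1 := hQS q hq
    rw [mem_cj] at h1 ⊢
    exact hP₂.le h1
  have hQn : ∀ g ∈ NN ε i j, ∀ x, x ∈ o2 (NN ε i j) → g⁻¹ * x * g ∈ o2 (NN ε i j) := fun g hg x hx => by
    have := (mem_normalizer_iff.mp (le_normalizer_o2 _ (inv_mem hg)) x).mp hx
    rwa [inv_inv] at this
  have hQn' : ∀ g ∈ NN ε i j, ∀ x, x ∈ o2 (NN ε i j) → g * x * g⁻¹ ∈ o2 (NN ε i j) := fun g hg x hx =>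
    (mem_normalizer_iff.mp (le_normalizer_o2 _ hg) x).mp hx
  have hPV : P₂ ≤ normalizer (zl (S : Subgroup G) P₂ : Set G) := le_normalizer_zl _ _
  -- `⟨V'^{C(n)}⟩` is abelian
  have c2 : ∀ g ∈ NN ε i j, ∀ v ∈ cj y (zl (S : Subgroup G) P₂), ∀ w ∈ cj y (zl (S : Subgroup G) P₂),
      v * (g * w * g⁻¹) = g * w * g⁻¹ * v := by
    intro g hg v hv w hw
    by_contra hne
    refine hn2 (y⁻¹ * g * y) ⟨hP₂, hP₂, ?_, ?_, ?_⟩
    · -- `V' ≤ N(V'^g)`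
      intro x hx
      have h1 : y * x * y⁻¹ ∈ o2 (NN ε i j) := hWQ (by
        rw [mem_cj]
        have e : y⁻¹ * (y * x * y⁻¹) * y = x := by group
        rwa [e])
      have h2 := hQP (hQn g hg _ h1)
      rw [mem_cj] at h2
      have h3 := mem_normalizer_iff.mp (hPV h2)
      change x ∈ normalizer ((cj (y⁻¹ * g * y) (zl (S : Subgroup G) P₂) : Subgroup G) : Set G)
      rw [mem_normalizer_iff]
      intro w
      rw [mem_cj, mem_cj, h3]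
      have e : y⁻¹ * (g⁻¹ * (y * x * y⁻¹) * g) * y * ((y⁻¹ * g * y)⁻¹ * w * (y⁻¹ * g * y)) *
          (y⁻¹ * (g⁻¹ * (y * x * y⁻¹) * g) * y)⁻¹ = (y⁻¹ * g * y)⁻¹ * (x * w * x⁻¹) * (y⁻¹ * g * y) := by group
      rw [e]
    · intro x hx
      have hx' : x ∈ cj (y⁻¹ * g * y) (zl (S : Subgroup G) P₂) := hx
      rw [mem_cj] at hx'
      have h1 : g⁻¹ * (y * x * y⁻¹) * g ∈ o2 (NN ε i j) := hWQ (by
        rw [mem_cj]
        have e : y⁻¹ * (g⁻¹ * (y * x * y⁻¹) * g) * y = (y⁻¹ * g * y)⁻¹ * x * (y⁻¹ * g * y) := by group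
        rwa [e])
      have h2 := hQP (hQn' g hg _ h1)
      have e : g * (g⁻¹ * (y * x * y⁻¹) * g) * g⁻¹ = y * x * y⁻¹ := by group
      rw [e, mem_cj] at h2
      have e' : y⁻¹ * (y * x * y⁻¹) * y = x := by group
      rw [e'] at h2
      exact hPV h2
    · intro h0
      apply hne
      rw [commutator_eq_bot_iff_le_centralizer] at h0
      rw [mem_cj] at hv hw
      have h2 : y⁻¹ * (g * w * g⁻¹) * y ∈ cj (y⁻¹ * g * y) (zl (S : Subgroup G) P₂) := by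
        rw [mem_cj]
        have e : (y⁻¹ * g * y)⁻¹ * (y⁻¹ * (g * w * g⁻¹) * y) * (y⁻¹ * g * y) = y⁻¹ * w * y := by group
        rwa [e]
      have h3 := (mem_centralizer_iff.mp (h0 hv)) _ h2
      calc v * (g * w * g⁻¹) = y * (y⁻¹ * v * y * (y⁻¹ * (g * w * g⁻¹) * y)) * y⁻¹ := by group
        _ = y * (y⁻¹ * (g * w * g⁻¹) * y * (y⁻¹ * v * y)) * y⁻¹ := by rw [h3]
        _ = _ := by group
  have c1 : ∀ g ∈ NN ε i j, ∀ a ∈ A, ∀ b ∈ A, a * (g * b * g⁻¹) = g * b * g⁻¹ * a := by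
    intro g hg a ha b hb
    by_contra h1
    exact hn1 (nonAb_of ev (by omega) hij oi oj ⟨g, hg, a, ha, b, hb, h1⟩)
  -- the four-group
  set V₁ : Subgroup G := cj y (HOne.Main.vx (S : Subgroup G) P₂) with hV₁
  have hVV : V₁ ≤ cj y (zl (S : Subgroup G) P₂) := cj_mono y s.NV
  have hnorm : P₂ ≤ normalizer (HOne.Main.vx (S : Subgroup G) P₂ : Set G) := s.PK.trans N.le
  have hnorm' : cj y P₂ ≤ normalizer (V₁ : Set G) := by
    intro x hx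
    rw [mem_cj] at hx
    have h3 := mem_normalizer_iff.mp (hnorm hx)
    rw [mem_normalizer_iff]
    intro w
    rw [hV₁, mem_cj, mem_cj, h3]
    have e : y⁻¹ * x * y * (y⁻¹ * w * y) * (y⁻¹ * x * y)⁻¹ = y⁻¹ * (x * w * x⁻¹) * y := by group
    rw [e]
  -- `b = b₀ d`
  rw [mem_cj] at hb
  obtain ⟨b₀, hb₀, d, hd, hbd⟩ := s.dec _ hb
  have hb' : b = y * b₀ * y⁻¹ * (y * d * y⁻¹) := by
    calc b = y * (y⁻¹ * b * y) * y⁻¹ := by group
      _ = _ := by rw [hbd]; group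
  have hdc : ∀ x ∈ cj y P₂, x * (y * d * y⁻¹) = y * d * y⁻¹ * x := by
    intro x hx
    rw [mem_cj] at hx
    have h1 := mem_centralizer_iff.mp (s.cen hx) d hd
    calc x * (y * d * y⁻¹) = y * (y⁻¹ * x * y * d) * y⁻¹ := by group
      _ = y * (d * (y⁻¹ * x * y)) * y⁻¹ := by rw [h1]
      _ = _ := by group
  have hSP : cj y (S : Subgroup G) ≤ cj y P₂ := cj_mono y hP₂.le
  have hAy : ∀ a ∈ zl (S : Subgroup G) P₁, a ∈ cj y P₂ := fun a ha => hSP (hl.ge ha)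
  have hb₀V : y * b₀ * y⁻¹ ∈ V₁ := by
    rw [hV₁, mem_cj]
    have e : y⁻¹ * (y * b₀ * y⁻¹) * y = b₀ := by group
    rwa [e]
  have hdA : Acts ε (y * d * y⁻¹) 1 := by
    rw [ev.acts_one_iff, mem_centralizer_iff]
    intro a ha
    exact hdc a (hAy a (hl.split.A_le ha))
  have hb₀s : Acts ε (y * b₀ * y⁻¹) (Equiv.swap i j) := by
    have e : y * b₀ * y⁻¹ = b * (y * d * y⁻¹)⁻¹ := by rw [hb', mul_inv_cancel_right]
    rw [e]
    have := hbs.mul hdA.inv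
    rwa [inv_one, mul_one] at this
  have hnV : rr ε i j ∈ V₁ := by
    have e1 : zz ε i * (y * d * y⁻¹) = y * d * y⁻¹ * zz ε i := hdc _ (hAy _ h0)
    rw [← hcomm, hb']
    have e2 : zz ε i * (y * b₀ * y⁻¹ * (y * d * y⁻¹)) * (zz ε i)⁻¹ * (y * b₀ * y⁻¹ * (y * d * y⁻¹))⁻¹ =
        zz ε i * (y * b₀ * y⁻¹) * (zz ε i)⁻¹ * (y * b₀ * y⁻¹)⁻¹ := by
      calc _ = zz ε i * (y * b₀ * y⁻¹) * ((y * d * y⁻¹) * (zz ε i)⁻¹ * (y * d * y⁻¹)⁻¹) * (y * b₀ * y⁻¹)⁻¹ := by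
            group
        _ = _ := by
            have e3 : (y * d * y⁻¹) * (zz ε i)⁻¹ * (y * d * y⁻¹)⁻¹ = (zz ε i)⁻¹ := by
              rw [show (zz ε i)⁻¹ = zz ε i from ev.inv _, ← e1, mul_inv_cancel_right]
            rw [e3]
    rw [e2]
    exact mul_mem ((mem_normalizer_iff.mp (hnorm' (hAy _ h0)) _).mp hb₀V) (inv_mem hb₀V)
  have hsq : ∀ v ∈ cj y (zl (S : Subgroup G) P₂), v * v = 1 := by
    intro v hv
    rw [mem_cj] at hv
    have h1 := zl_sq hP₂.le S.isPGroup' (MinSimple.Basic.not_dvd_relIndex S hP₂.le) (hP₂.isLoc.char2 S hG) _ hv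
    rw [pow_two] at h1
    calc v * v = y * (y⁻¹ * v * y * (y⁻¹ * v * y)) * y⁻¹ := by group
      _ = 1 := by rw [h1]; group
  refine IId.MixS.mix_sym s₁ hij ⟨b, ?_, hbs⟩ hc (V₁ := V₁) ?_ (fun v hv => hsq v (hVV hv)) hnV ?_ ?_
    ⟨_, hb₀V, hb₀s⟩ (fun g hg v hv w hw => c2 g hg v (hVV hv) w (hVV hw)) ?_
  · exact hl.le (mem_cj.2 hb)
  · rw [hV₁, ← hcard]
    exact card_cj y _
  · intro v hv hv1
    have hn0 : y⁻¹ * rr ε i j * y ∈ HOne.Main.vx (S : Subgroup G) P₂ := mem_cj.1 hnV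
    have hv0 : y⁻¹ * v * y ∈ HOne.Main.vx (S : Subgroup G) P₂ := mem_cj.1 hv
    obtain ⟨g, hg, hgv⟩ := s.trans _ hn0 (fun e => hne1 (by
      calc rr ε i j = y * (y⁻¹ * rr ε i j * y) * y⁻¹ := by group
        _ = 1 := by rw [e]; group)) _ hv0 (fun e => hv1 (by
      calc v = y * (y⁻¹ * v * y) * y⁻¹ := by group
        _ = 1 := by rw [e]; group))
    refine ⟨y * g * y⁻¹, hnorm' ?_, ?_⟩
    · rw [mem_cj]
      have e : y⁻¹ * (y * g * y⁻¹) * y = g := by group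
      rwa [e]
    · calc y * g * y⁻¹ * rr ε i j * (y * g * y⁻¹)⁻¹ = y * (g * (y⁻¹ * rr ε i j * y) * g⁻¹) * y⁻¹ := by group
        _ = v := by rw [hgv]; group
  · exact hVV.trans hWQ
  · intro g hg v hv w hw
    obtain ⟨v0, hv0, a, ha, rfl⟩ := s₁.mul_eq hv
    obtain ⟨w0, hw0, b, hb, rfl⟩ := s₁.mul_eq hw
    have hgQ := le_normalizer_o2 _ hg
    have hwQ : g * (w0 * b) * g⁻¹ ∈ o2 (NN ε i j) :=
      (mem_normalizer_iff.mp hgQ _).mp (s₁.V_le hij hw)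
    have haQ : g⁻¹ * a * g ∈ o2 (NN ε i j) := by
      have h1 := (mem_normalizer_iff.mp (inv_mem hgQ) _).mp (s₁.fac.le i j hij ha)
      rwa [inv_inv] at h1
    have e1 : v0 * (g * (w0 * b) * g⁻¹) = g * (w0 * b) * g⁻¹ * v0 := (s₁.comm_V0 hij hwQ hv0).symm
    have e2 : g⁻¹ * a * g * w0 = w0 * (g⁻¹ * a * g) := s₁.comm_V0 hij haQ hw0
    have e3 := c1 g hg a ha b hb
    calc v0 * a * (g * (w0 * b) * g⁻¹) = v0 * (g * (g⁻¹ * a * g * w0) * g⁻¹ * (g * b * g⁻¹)) := by group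
      _ = v0 * (g * w0 * g⁻¹ * (a * (g * b * g⁻¹))) := by rw [e2]; group
      _ = v0 * (g * (w0 * b) * g⁻¹) * a := by rw [e3]; group
      _ = _ := by rw [e1]; group

end Cfsg.Agent.Omega.F4Leaf.Syl.Mix
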