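import Cfsg.Agent.Omega.F4Leaf.Syl.Plug
import Cfsg.Agent.Omega.F4Leaf.Syl.EndCPure
import Cfsg.Agent.Omega.F4Leaf.Syl.NatBoth
import Cfsg.Agent.Omega.IId.Cv.TTPairOf

/-!
# LeafF4 is closed: `LeafF4 K` and `IId.Cv.TTPair K` from `PosExit` (II.0h1, `q = 2`)

Owners of the pieces: helper758 (LEMMA F), helper628 ((I)), helper904 (frame, pure case), helper74 (`OtT`),
helper376 (`Sig`), helper670, 107 (LE), helper450 (`Tr`, `Dua`), helper300, 994 (mixed), helper778 (natural partner),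
helper223, 924, 138, 252, 171; assembler: helper816.

* `natBoth`, `endNat`; `leaf : PosExit → LeafF4 K`; `ttPair : PosExit → IId.Cv.TTPair K`.
-/

set_option autoImplicit false

namespace Cfsg.Agent.Omega.F4Leaf.Syl.Final

open Cfsg Cfsg.Agent.Omega.MinPar Cfsg.Agent.Omega.Frame Cfsg.Agent.Omega.FrameMulti
open Cfsg.Agent.Omega.F4Leaf.Cen.Main (PosExit)

universe u

theorem natBoth : EndCPure.NatBoth.{u} :=
  fun _ _ _ hc _ _ _ _ _ _ _ hm hl hN hcv _ _ hij hb => Mix.natBoth hc hl hm hN (Or.inl hcv) hij hb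

theorem endNat : Main.EndNat.{u} := EndCPure.endNat_of natBoth

/-- **LeafF4** from `PosExit`. -/
theorem leaf {K : Cls.{u}} (hX : PosExit.{u}) : LeafF4 K := Plug.leaf_of_end hX endNat

/-- **`TTPair`** from `PosExit`. -/
theorem ttPair {K : Cls.{u}} (hX : PosExit.{u}) : IId.Cv.TTPair K :=
  fun G _ _ hG _ S hF hI hT P₁ P₂ x hm hnf m m' h h' hS hS' =>
    Plug.tt_known hX G hG S hF hI hT P₁ P₂ x hm hnf m m' h h' hS hS'

end Cfsg.Agent.Omega.F4Leaf.Syl.Final
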