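import Cfsg.Agent.Omega.F4Leaf.Syl.Inst
import Cfsg.Agent.Omega.F4Leaf.Syl.LemF
import Cfsg.Agent.Omega.F4Leaf.Syl.Mix

/-!
# MemH2 (#21478), piece A: `T` Sylow in `C_G(r_ij)` normalising the line, pure case

* `hasFr` : the frame `Fr` for a moved line.
-/

set_option autoImplicit false
set_option linter.dupNamespace false

namespace Cfsg.Agent.Omega.F4Leaf.Syl.Has

open Subgroup Pointwise Cfsg Cfsg.Agent Cfsg.Agent.Omega.MinPar
open Cfsg.Agent.ZN (o2 zc zl)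
open Cfsg.Agent.Omega.FrameFF (cv)
open Cfsg.Agent.Omega.S5.Def Cfsg.Agent.Omega.S5.Syl Cfsg.Agent.Omega.F4Leaf.Def
open Cfsg.Agent.Omega.F4Leaf.Pos Cfsg.Agent.Omega.F4Leaf.TSyl
open Cfsg.Agent.Omega.NSix.Base Cfsg.Agent.Omega.NSix.Basic
open Cfsg.Agent.Omega.NSix.Zero (WP mem_WP)

universe u

variable {G : Type u} [Group G] [Finite G] {S : Sylow 2 G} {P : Subgroup G} {m : ℕ} {A : Subgroup G}
  {ε : (Fin (2 ^ m + 1) → ZMod 2) → G} {i j : Fin (2 ^ m + 1)}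

/-- **the frame `Fr`** -/
theorem hasFr_part (h : Sit S P m A ε) (hm : 3 ≤ m) (hcv : cv (S : Subgroup G) P ≠ ⊥) (hij : i ≠ j) (hi : i ≠ 0)
    (hj : j ≠ 0) (hd : ∃ s ∈ (S : Subgroup G), Acts ε s (Equiv.swap i j))
    (hw : ∃ w ∈ WP ε i j, Acts ε w (Equiv.swap i j)) (hP : Part A ε i j) : ∃ T, Fr S P m A ε i j T := by
  have hE := h.split.even
  have hmov : ∃ i j, i ≠ j ∧ ∃ g ∈ WP ε i j, ¬ g ∈ centralizer (A : Set G) := by
    obtain ⟨w, hw1, hw2⟩ := hw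
    refine ⟨i, j, hij, w, hw1, fun h1 => hij ?_⟩
    exact Equiv.swap_eq_one_iff.1 (hE.acts_unique h.three hw2 (hE.acts_one_iff.2 h1))
  exact Inst.exists_fr h hm hij hi hj hd hmov hP (LemF.lemF_duad h hmov hij hi hj hd) hcv

omit [Finite G] in
theorem part_of (hE : EvenSet (2 ^ m + 1) A P ε) (hM : Mix.NonAb ε i j 0) : Part A ε i j := by
  obtain ⟨k, hk, hne⟩ := hM
  exact ⟨k, hk, rr ε i 0, rr_mem hE i 0, rr ε i 0, rr_mem hE i 0, hne⟩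

/-- **the frame `Fr`**, a moved line -/
theorem hasFr (h : Sit S P m A ε) (hm : 3 ≤ m) (hcv : cv (S : Subgroup G) P ≠ ⊥) (hij : i ≠ j) (hi : i ≠ 0)
    (hj : j ≠ 0) (hd : ∃ s ∈ (S : Subgroup G), Acts ε s (Equiv.swap i j))
    (hw : ∃ w ∈ WP ε i j, Acts ε w (Equiv.swap i j)) (hM : Mix.NonAb ε i j 0) : ∃ T, Fr S P m A ε i j T :=
  hasFr_part h hm hcv hij hi hj hd hw (part_of h.split.even hM)

end Cfsg.Agent.Omega.F4Leaf.Syl.Has
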