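import Cfsg.Agent.Omega.F4Leaf.Syl.LEone
import Cfsg.Agent.Omega.HTwo.ThmA

/-!
# LeafF4: LE of `HTwo.ThmA` over any frame `L`, `R` with `L ∋ r_ij, r_io, r_jo` (plug of `LEone.le_one`)

* `A_le_WW`, `WW_le_WW` : `⟨A ^ N_io⟩ ≤ ⟨L ^ N(R)⟩`;
* `le_frame` : `(H2)` or `LE L R j` for all `j`.
-/

set_option autoImplicit false
set_option linter.dupNamespace false

namespace Cfsg.Agent.Omega.F4Leaf.Syl.LEone

open Subgroup Pointwise Cfsg Cfsg.Agent Cfsg.Agent.Omega.MinPar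
open Cfsg.Agent.ZN (o2 zc zl)
open Cfsg.Agent.Omega.FrameFF (cv)
open Cfsg.Agent.Omega.S5.Def Cfsg.Agent.Omega.S5.Syl Cfsg.Agent.Omega.F4Leaf.Def
open Cfsg.Agent.Omega.S5.SymBig (H2)
open Cfsg.Agent.Omega.F4Leaf.Pos Cfsg.Agent.Omega.F4Leaf.Facts
open Cfsg.Agent.Omega.NSix.Base Cfsg.Agent.Omega.NSix.Basic Cfsg.Agent.Omega.NSix.FixApp
open Cfsg.Agent.Omega.NSix.Zero (WP)
open Cfsg.Agent.MinSimple.VModule (o2_isPGroup o2_le le_o2 le_normalizer_o2)

universe u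

variable {G : Type u} [Group G] [Finite G] {S : Sylow 2 G} {P : Subgroup G} {m : ℕ} {A : Subgroup G}
  {ε : (Fin (2 ^ m + 1) → ZMod 2) → G} {L : Subgroup G}

/-- `A ≤ ⟨L ^ N(R)⟩` for `r_ao, r_bo ∈ L`, `N_ao ≤ N(R)` -/
theorem A_le_WW (h : Sit S P m A ε) {R : Subgroup G} {a b o : Fin (2 ^ m + 1)} (hab : a ≠ b)
    (hao : a ≠ o) (hbo : b ≠ o) (hR : NN ε a o ≤ normalizer (R : Set G)) (h1 : rr ε a o ∈ L) (h2 : rr ε b o ∈ L) :
    A ≤ BTwo.WW L R := by
  have hE := h.split.even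
  have hodd : Odd (2 ^ m + 1) := NSix.CosetAct.odd_n (by have := h.m2; omega)
  have hL := BTwo.V_le_WW L R
  have hn : NN ε a o ≤ normalizer (BTwo.WW L R : Set G) := hR.trans (BTwo.normalizer_le_WW L R)
  have hko : ∀ k, k ≠ o → rr ε k o ∈ BTwo.WW L R := by
    intro k hko
    by_cases ka : k = a
    · rw [ka]
      exact hL h1
    obtain ⟨p, -, hp⟩ := hE.full (Equiv.swap b k)
    have s1 : Equiv.swap b k a = a := swap_fix hab.symm ka
    have s2 : Equiv.swap b k o = o := swap_fix hbo hko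
    have h3 := conj_of (hn (NN_of_acts hp s1 s2)) (hL h2)
    rwa [rr_conj hp, Equiv.swap_apply_left, s2] at h3
  have hall : ∀ k l, rr ε k l ∈ BTwo.WW L R := by
    intro k l
    rw [← rr_add hE k o l]
    have h0 : ∀ k, rr ε k o ∈ BTwo.WW L R := by
      intro k
      by_cases hk : k = o
      · rw [hk]
        have h4 : rr ε o o = 1 := by
          unfold rr
          rw [zz_sq hE]
        rw [h4]
        exact one_mem _
      · exact hko k hk
    refine mul_mem (h0 k) ?_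
    rw [rr_symm hE]
    exact h0 l
  have hz : ∀ k, k ≠ a → k ≠ o → zz ε k ∈ BTwo.WW L R := fun k ka ko =>
    NSix.Free.zz_mem_of_rr hE hodd h.three hao (hall a o) (fun c d _ _ _ _ _ => hall c d) ka ko
  refine NSix.Free.v_le_of_zz hE fun k => ?_
  have h3 := hz b hab.symm hbo
  have h4 : zz ε k = rr ε k b * zz ε b := by
    unfold rr
    rw [mul_assoc, zz_sq hE, mul_one]
  rw [h4]
  exact mul_mem (hall k b) h3

theorem WW_le_WW (h : Sit S P m A ε) {R : Subgroup G} {a b o : Fin (2 ^ m + 1)} (hab : a ≠ b)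
    (hao : a ≠ o) (hbo : b ≠ o) (hR : NN ε a o ≤ normalizer (R : Set G)) (h1 : rr ε a o ∈ L) (h2 : rr ε b o ∈ L) :
    WW A ε a o ≤ BTwo.WW L R := by
  unfold WW
  rw [closure_le]
  rintro x ⟨g, hg, v, hv, rfl⟩
  exact conj_of (hR.trans (BTwo.normalizer_le_WW L R) hg) (A_le_WW h hab hao hbo hR h1 h2 hv)

/-- **LE or (H2)**, for a frame -/
theorem le_frame {ι : Type*} {R : ι → Subgroup G} (h : Sit S P m A ε) (b : BTwo.BTS L R)
    (hN : ∃ i j, i ≠ j ∧ ∃ g ∈ WW A ε i j, ¬ g ∈ centralizer (A : Set G))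
    {i j o : Fin (2 ^ m + 1)} (hij : i ≠ j) (oi : o ≠ i) (oj : o ≠ j)
    (h1 : rr ε i j ∈ L) (h2 : rr ε i o ∈ L) (h3 : rr ε j o ∈ L) {a1 a2 a3 : ι}
    (hr : ∀ x ∈ R a1, x = 1 ∨ x = rr ε i j) (hri : rr ε i j ∈ R a1) (hn1 : NN ε i j ≤ normalizer (R a1 : Set G))
    (hn2 : NN ε i o ≤ normalizer (R a2 : Set G)) (hn3 : NN ε j o ≤ normalizer (R a3 : Set G)) :
    H2 ε ∨ ∀ l, HTwo.ThmA.LE L R l := by
  by_cases hH : H2 ε
  · exact Or.inl hH
  right
  have hE := h.split.even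
  have f := fam_WW h hN
  have hX : ∀ x ∈ BTwo.CenX L R, x ∈ CC (WW A ε) i j o := by
    intro x hx
    have k2 : WW A ε i o ≤ BTwo.XX L R :=
      (WW_le_WW h hij oi.symm oj.symm hn2 h2 h3).trans (le_iSup (fun l => BTwo.WW L (R l)) a2)
    have k3 : WW A ε j o ≤ BTwo.XX L R :=
      (WW_le_WW h hij.symm oj.symm oi.symm hn3 h3 h2).trans (le_iSup (fun l => BTwo.WW L (R l)) a3)
    exact ⟨centralizer_le k2 hx, centralizer_le k3 hx⟩
  have hXr : ∀ x ∈ BTwo.CenX L R, x * rr ε i j = rr ε i j * x := fun x hx =>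
    (mem_centralizer_iff.mp (b.CenX_le_cen hx) _ h1).symm
  refine HTwo.ThmA.le_all b.toBT (i := a1) fun Λ hΛ hΛn => ?_
  have hd : ∀ u ∈ Λ, u ∈ BTwo.CenX L R ∨ rr ε i j * u ∈ BTwo.CenX L R := by
    intro u hu
    obtain ⟨a, ha, hau⟩ := hΛ u hu
    rcases hr a ha with rfl | rfl
    · left
      rwa [one_mul] at hau
    · exact Or.inr hau
  have hΛ2 : IsPGroup 2 Λ := by
    rintro ⟨x, hx⟩
    have h5 : x * x ∈ BTwo.CenX L R := by
      rcases hd x hx with h6 | h6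
      · exact mul_mem h6 h6
      · have h7 := hXr _ h6
        have h8 : x * rr ε i j = rr ε i j * x := by
          apply mul_left_cancel (a := rr ε i j)
          rw [← mul_assoc, h7]
        have e : x * x = (rr ε i j * x) * (rr ε i j * x) := by
          calc x * x = x * (rr ε i j * rr ε i j) * x := by rw [rr_sq hE, mul_one]
            _ = (x * rr ε i j) * (rr ε i j * x) := by group
            _ = _ := by rw [h8]
        rw [e]
        exact mul_mem h6 h6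
    obtain ⟨k, hk⟩ := b.CenX_isPGroup ⟨x * x, h5⟩
    refine ⟨k + 1, Subtype.ext ?_⟩
    have h6 : (x * x) ^ 2 ^ k = 1 := congrArg Subtype.val hk
    change x ^ 2 ^ (k + 1) = 1
    rw [pow_succ', pow_mul, pow_two, h6]
  rcases le_one h f hij oi oj hΛ2 (hn1.trans hΛn) fun u hu => (hd u hu).imp (hX u) (hX _) with h4 | h4
  · exact absurd h4 hH
  · intro u hu
    rcases h4 u hu with rfl | rfl
    · exact one_mem _
    · exact hri

end Cfsg.Agent.Omega.F4Leaf.Syl.LEone
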