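import Cfsg.Agent.Omega.F4Leaf.Syl.Plug
import Cfsg.Agent.Omega.F4Leaf.Syl.EndCPure
import Cfsg.Agent.Omega.F4Leaf.Syl.NatBoth

/-!
# LeafF4 from `PosExit` alone
-/

set_option autoImplicit false

namespace Cfsg.Agent.Omega.F4Leaf.Syl.Leaf

open Subgroup Cfsg Cfsg.Agent.Omega.MinPar
open Cfsg.Agent.Omega.Frame Cfsg.Agent.Omega.FFThm
open Cfsg.Agent.Omega.FrameMulti (LeafF4)
open Cfsg.Agent.Omega.F4Leaf.Cen.Main (PosExit)

universe u

theorem endNat : Main.EndNat.{u} := EndCPure.endNat_of (by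
  intro G _ _ hG S P₁ P₂ y m A ε hm hl hN hc i j hij hb
  exact Mix.natBoth hG hl hm hN (Or.inl hc) hij hb)

theorem leafF4 {K : Cls.{u}} (hX : PosExit.{u}) : LeafF4 K := Plug.leaf_of_end hX endNat

end Cfsg.Agent.Omega.F4Leaf.Syl.Leaf
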