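import Cfsg.Agent.Omega.HT.Basic

/-!
# MemH2 (#21183), (loc'): `O₂(M) ≤ T₁`, `[O₂(M), V_l] = 1` for `M ≥ ⟨T₁, X⟩`

`LD V L Q T T₁ R o` : `L = V_l` with the points `R i`, `R o = ⟨12⟩`, `Q = C_S(V)`, `V = Ω₁Z(Q)`, `T = C_S(12) ≤ T₁`,
`T₁` of odd index in `N(R o) ∩ N(L)`, and LEMMA F as a hypothesis.
-/

set_option autoImplicit false
set_option linter.unusedSectionVars false

namespace Cfsg.Agent.Omega.F4Leaf.Syl.LocP

open Subgroup Cfsg
open Cfsg.Agent.ZN (o2 zc)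
open Cfsg.Agent.Omega.BTwo
open Cfsg.Agent.Omega.HT
open Cfsg.Agent.Omega.HOneTwo (eq_of_card_two normalizer_le_cen_of_card)
open Cfsg.Agent.MinSimple.VModule (o2_isPGroup le_o2 o2_le le_normalizer_o2 o2_le_of_sylow mem_zc zc_le zc_comm zc_sq)

universe u

variable {G : Type u} [Group G] {ι : Type*}

/-- a 2-subgroup `H` of `K` normalised by `T`, `T` of odd index in `K`, lies in `T` -/
theorem le_of_odd [Finite G] {T H K : Subgroup G} (hT : IsPGroup 2 T) (hTK : T ≤ K) (hodd : ¬ 2 ∣ T.relIndex K)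
    (hH : IsPGroup 2 H) (hHK : H ≤ K) (hn : T ≤ normalizer (H : Set G)) : H ≤ T := by
  have h1 : IsPGroup 2 (H ⊔ T : Subgroup G) := IsPGroup.to_sup_of_normal_left' hH hT hn
  have h2 := Nat.le_of_dvd Nat.card_pos (card_dvd_card hTK hodd h1 (sup_le hHK hTK))
  have h3 : T = H ⊔ T := eq_of_le_of_card_ge le_sup_right h2
  rw [h3]
  exact le_sup_left

/-- a 2-group `O` normalised by the 2-group `T`, `O ⊄ T`: there is `w ∈ O ∩ N(T)`, `w ∉ T` -/
theorem exists_step [Finite G] {T O : Subgroup G} (hT : IsPGroup 2 T) (hO : IsPGroup 2 O)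
    (hn : T ≤ normalizer (O : Set G)) (hlt : ¬ O ≤ T) : ∃ w ∈ O, w ∈ normalizer (T : Set G) ∧ w ∉ T := by
  obtain ⟨E, hE⟩ : ∃ E, E = O ⊔ T := ⟨_, rfl⟩
  have hEp : IsPGroup 2 E := by rw [hE]; exact IsPGroup.to_sup_of_normal_left' hO hT hn
  have hTE : T ≤ E := by rw [hE]; exact le_sup_right
  have hOE : O ≤ E := by rw [hE]; exact le_sup_left
  have : Fact (Nat.Prime 2) := ⟨Nat.prime_two⟩
  have : Group.IsNilpotent E := hEp.isNilpotent
  have hne : T.subgroupOf E < ⊤ := by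
    rw [lt_top_iff_ne_top, ne_eq, subgroupOf_eq_top]
    exact fun h => hlt (hOE.trans h)
  have h1 := Group.normalizerCondition_of_isNilpotent (G := E) _ hne
  obtain ⟨x, hx, hx'⟩ := SetLike.exists_of_lt h1
  have hxN : (x : G) ∈ normalizer (T : Set G) := by
    refine mem_normalizer_of_conj fun t ht => ?_
    have h2 := (mem_normalizer_iff.1 hx ⟨t, hTE ht⟩).1 (mem_subgroupOf.2 ht)
    exact mem_subgroupOf.1 h2
  have hxE : (x : G) ∈ O ⊔ T := by rw [← hE]; exact x.2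
  rw [← SetLike.mem_coe, coe_mul_of_right_le_normalizer_left _ _ hn] at hxE
  obtain ⟨w, hw, t, ht, hwt⟩ := hxE
  refine ⟨w, hw, ?_, fun h => hx' (mem_subgroupOf.2 ?_)⟩
  · have h3 : w = (x : G) * t⁻¹ := by rw [← hwt]; group
    rw [h3]
    exact mul_mem hxN (inv_mem (le_normalizer ht))
  · rw [← hwt]
    exact mul_mem h ht

/-- The data of (loc'). -/
structure LD (V L Q T T₁ : Subgroup G) (R : ι → Subgroup G) (o : ι) : Prop extends BT L R where
  card_R : ∀ i, Nat.card (R i) = 2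
  T_p : IsPGroup 2 T₁
  T_R : T₁ ≤ normalizer (R o : Set G)
  T_L : T₁ ≤ normalizer (L : Set G)
  T_odd : ¬ 2 ∣ T₁.relIndex (normalizer (R o : Set G) ⊓ normalizer (L : Set G))
  T_le : T ≤ T₁
  Q_T : Q ≤ T
  Q_cen : centralizer (Q : Set G) ≤ Q
  zcQ : zc Q = V
  L_le : L ≤ V
  QV' : ∀ g ∈ QQ (R o), ∀ v ∈ V, g * v * g⁻¹ * v⁻¹ ∈ R o
  F : ∀ t ∈ normalizer (R o : Set G), ∀ i, i ≠ o → cj t (R i) ≤ V →
    (∀ s ∈ T, ∀ x ∈ cj t (R i), s * x * s⁻¹ * x⁻¹ ∈ R o) → t ∈ normalizer (L : Set G)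

namespace LD

variable [Finite G] {V L Q T T₁ : Subgroup G} {R : ι → Subgroup G} {o : ι} (b : LD V L Q T T₁ R o)
include b

/-- `Q₁₂ ≤ T₁` -/
theorem QQ_le : QQ (R o) ≤ T₁ := by
  refine le_of_odd b.T_p (le_inf b.T_R b.T_L) b.T_odd (O2_isPGroup _) (le_inf (b.Q_le o) ?_)
    (b.T_R.trans (le_normalizer_O2 _))
  intro g hg
  refine mem_normalizer_of_conj fun v hv => ?_
  have h1 := b.R_le o (b.QV o g hg v hv)
  have h2 : g * v * g⁻¹ = g * v * g⁻¹ * v⁻¹ * v := by group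
  rw [h2]
  exact mul_mem h1 hv

/-- `[T₁, L] ≤ R o` -/
theorem comm_T1 {t y : G} (ht : t ∈ T₁) (hy : y ∈ L) : t * y * t⁻¹ * y⁻¹ ∈ R o := by
  obtain ⟨i, hio, -⟩ := b.third o o
  have htR := b.T_R ht
  obtain ⟨a, ha, c, hc, rfl⟩ := b.exists_mul (Ne.symm hio) hy
  obtain ⟨a', ha', c', hc', h5⟩ := b.exists_mul (Ne.symm hio)
    (conj_mem_of_normalizer (b.T_L ht) (b.R_le i hc))
  by_cases hc1 : c = 1
  · rw [hc1, mul_one]
    exact mul_mem (conj_mem_of_normalizer htR ha) (inv_mem ha)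
  · have hc1' : c' ≠ 1 := by
      intro h6
      rw [h6, mul_one] at h5
      have h7 : c ∈ R o := by
        have h8 := conj_inv_mem_of_normalizer htR (h5 ▸ ha')
        have h9 : t⁻¹ * (t * c * t⁻¹) * t = c := by group
        rwa [h9] at h8
      exact hc1 (b.eq_one hio hc h7)
    have h6 : c' = c := eq_of_card_two (b.card_R i) hc hc1 hc' hc1'
    have h7 : t * (a * c) * t⁻¹ * (a * c)⁻¹ = (t * a * t⁻¹) * a' * a⁻¹ := by
      calc t * (a * c) * t⁻¹ * (a * c)⁻¹ = (t * a * t⁻¹) * (t * c * t⁻¹) * c⁻¹ * a⁻¹ := by group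
        _ = _ := by rw [h5, h6]; group
    rw [h7]
    exact mul_mem (mul_mem (conj_mem_of_normalizer htR ha) ha') (inv_mem ha)

/-- an element of `Q₁₂` moving the point `i ≠ o` -/
theorem exists_mov {i : ι} (hi : i ≠ o) : ∃ g ∈ QQ (R o), ∃ j, j ≠ o ∧ j ≠ i ∧ cj g (R i) = R j := by
  obtain ⟨k, hko, hki⟩ := b.third o i
  obtain ⟨h, hh, hm⟩ := b.mt o
  obtain ⟨⟨v, hv, h1⟩, -⟩ := hm i k hi hko
  refine ⟨h * v * h⁻¹, ?_, k, hko, hki, h1⟩
  exact conj_mem_of_normalizer (le_normalizer_O2 _ hh) (b.V_Q o hv)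

theorem R_cen {i : ι} {g x : G} (hg : g ∈ normalizer (R i : Set G)) (hx : x ∈ R i) : g * x = x * g := by
  have h1 := mem_centralizer_iff.1 (normalizer_le_cen_of_card (b.card_R i) hg) x hx
  exact h1.symm

/-- an element normalising all the points centralises `L` -/
theorem cen_of_norm {g : G} (h : ∀ i, g ∈ normalizer (R i : Set G)) : g ∈ centralizer (L : Set G) := by
  obtain ⟨i, j, hij⟩ := b.exists_pair
  rw [← b.R_sup i j hij]
  exact mem_cen_sup (normalizer_le_cen_of_card (b.card_R i) (h i))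
    (normalizer_le_cen_of_card (b.card_R j) (h j))

/-- a 2-group `O ≤ N(L)` normalised by `T₁` and by `X` centralises `L` -/
theorem cen_of_two {O : Subgroup G} (hO : IsPGroup 2 O) (hL : O ≤ normalizer (L : Set G))
    (hT : T₁ ≤ normalizer (O : Set G)) (hX : XX L R ≤ normalizer (O : Set G)) :
    O ≤ centralizer (L : Set G) := by
  -- a common fixed point of `O` and `T₁`
  have h1 : IsPGroup 2 (O ⊔ T₁ : Subgroup G) := IsPGroup.to_sup_of_normal_left' hO b.T_p hT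
  have hLp : IsPGroup 2 L := by
    intro x
    refine ⟨1, Subtype.ext ?_⟩
    have := b.V_sq x x.2
    rw [pow_one, pow_two]
    exact this
  have hL1 : L ≠ ⊥ := fun h => b.R_ne o (le_bot_iff.1 (h ▸ b.R_le o))
  obtain ⟨e, he, he1, -, hc⟩ := exists_inv h1 hLp hL1 (sup_le hL b.T_L)
  obtain ⟨i, hi⟩ := b.R_cov e he
  have hio : i = o := by
    by_contra hne
    obtain ⟨g, hg, j, hjo, hji, h2⟩ := b.exists_mov hne
    have h3 : g * e * g⁻¹ ∈ R j := by rw [← h2]; exact conj_mem_cj hi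
    have h4 := hc g (mem_sup_right (b.QQ_le hg))
    rw [← h4, mul_inv_cancel_right] at h3
    exact he1 (b.eq_one hji h3 hi)
  have hR : ∀ y ∈ O, y ∈ normalizer (R o : Set G) := by
    intro y hy
    refine mem_normalizer_of_conj fun x hx => ?_
    rw [← hio] at hx ⊢
    by_cases hx1 : x = 1
    · rw [hx1, mul_one, mul_inv_cancel]; exact one_mem _
    · have : x = e := eq_of_card_two (b.card_R i) hi he1 hx hx1
      rw [this, ← hc y (mem_sup_left hy), mul_inv_cancel_right]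
      exact hi
  intro y hy
  refine b.cen_of_norm fun j => ?_
  obtain ⟨x, hx, h2⟩ := b.trans_X_one o j
  have h3 : x⁻¹ * y * x ∈ O := conj_inv_mem_of_normalizer (hX hx) hy
  have h4 := hR _ h3
  rw [← h2, normalizer_cj, mem_cj]
  exact h4

/-- **(loc')** -/
theorem loc {M : Subgroup G} (hT : T₁ ≤ M) (hX : XX L R ≤ M) :
    o2 M ≤ T₁ ∧ o2 M ≤ centralizer (L : Set G) := by
  obtain ⟨O, hO⟩ : ∃ O, O = o2 M := ⟨_, rfl⟩
  have hOp : IsPGroup 2 O := by rw [hO]; exact o2_isPGroup M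
  have hMO : M ≤ normalizer (O : Set G) := by rw [hO]; exact le_normalizer_o2 M
  have hTO := hT.trans hMO
  have hXO := hX.trans hMO
  -- `N_O(L)` centralises `L` and lies in `T₁`
  have hXNL : XX L R ≤ normalizer (normalizer (L : Set G) : Set G) := b.X_le_NV.trans le_normalizer
  have hinf : ∀ {A B C : Subgroup G}, A ≤ normalizer (B : Set G) → A ≤ normalizer (C : Set G) →
      A ≤ normalizer ((B ⊓ C : Subgroup G) : Set G) := by
    intro A B C h1 h2 a ha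
    refine mem_normalizer_of_conj fun x hx => ?_
    exact ⟨conj_mem_of_normalizer (h1 ha) hx.1, conj_mem_of_normalizer (h2 ha) hx.2⟩
  have h1 : O ⊓ normalizer (L : Set G) ≤ centralizer (L : Set G) :=
    b.cen_of_two (hOp.to_le inf_le_left) inf_le_right (hinf hTO (b.T_L.trans le_normalizer)) (hinf hXO hXNL)
  have h2 : O ⊓ normalizer (L : Set G) ≤ T₁ := by
    refine le_of_odd b.T_p (le_inf b.T_R b.T_L) b.T_odd (hOp.to_le inf_le_left) (le_inf (fun y hy => ?_) inf_le_right)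
      (hinf hTO (b.T_L.trans le_normalizer))
    refine mem_normalizer_of_conj fun x hx => ?_
    have h3 := mem_centralizer_iff.1 (h1 hy) x (b.R_le o hx)
    rw [← h3, mul_inv_cancel_right]
    exact hx
  suffices hOT : O ≤ T₁ by
    rw [← hO]
    exact ⟨hOT, fun y hy => h1 ⟨hy, b.T_L (hOT hy)⟩⟩
  by_contra hlt
  obtain ⟨w, hw, hwN, hwT⟩ := exists_step b.T_p hOp hTO hlt
  -- `[w, T₁] ≤ O₁ = O ∩ T₁`
  have hc : ∀ s ∈ T₁, w * s * w⁻¹ * s⁻¹ ∈ O ∧ w * s * w⁻¹ * s⁻¹ ∈ T₁ := by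
    intro s hs
    refine ⟨?_, mul_mem (conj_mem_of_normalizer hwN hs) (inv_mem hs)⟩
    have h3 : w * s * w⁻¹ * s⁻¹ = w * (s * w⁻¹ * s⁻¹) := by group
    rw [h3]
    exact mul_mem hw (conj_mem_of_normalizer (hTO hs) (inv_mem hw))
  have hc' : ∀ s ∈ T₁, ∀ x ∈ L, (w * s * w⁻¹ * s⁻¹) * x = x * (w * s * w⁻¹ * s⁻¹) := by
    intro s hs x hx
    obtain ⟨h3, h4⟩ := hc s hs
    exact (mem_centralizer_iff.1 (h1 ⟨h3, b.T_L h4⟩) x hx).symm
  have hQT : Q ≤ T₁ := b.Q_T.trans b.T_le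
  have hwN' := inv_mem hwN
  have hO1 : ∀ y ∈ O, y ∈ T₁ → w⁻¹ * y * w ∈ O ∧ w⁻¹ * y * w ∈ T₁ := fun y h3 h4 =>
    ⟨mul_mem (mul_mem (inv_mem hw) h3) hw, conj_inv_mem_of_normalizer hwN h4⟩
  -- `x ∈ L` is moved by `w` into `V ∩ C(O₁)`
  have hCO : ∀ x ∈ L, ∀ y ∈ O, y ∈ T₁ → y * (w * x * w⁻¹) = (w * x * w⁻¹) * y := by
    intro x hx y h3 h4
    obtain ⟨h5, h6⟩ := hO1 y h3 h4
    have h7 := mem_centralizer_iff.1 (h1 ⟨h5, b.T_L h6⟩) x hx
    calc y * (w * x * w⁻¹) = w * ((w⁻¹ * y * w) * x) * w⁻¹ := by group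
      _ = w * (x * (w⁻¹ * y * w)) * w⁻¹ := by rw [← h7]
      _ = (w * x * w⁻¹) * y := by group
  have hCV : ∀ x ∈ L, w * x * w⁻¹ ∈ V := by
    intro x hx
    have hxV := b.L_le hx
    rw [← b.zcQ] at hxV ⊢
    obtain ⟨-, h4, h5⟩ := mem_zc.1 hxV
    have hcomm : ∀ q ∈ Q, q * (w * x * w⁻¹) = (w * x * w⁻¹) * q := by
      intro q hq
      -- `w⁻¹ q w = d q` with `d ∈ O₁`
      obtain ⟨d, hd⟩ : ∃ d, d = w⁻¹ * q * w * q⁻¹ := ⟨_, rfl⟩
      have hdO : d ∈ O := by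
        have h6 : d = w⁻¹ * (q * w * q⁻¹) := by rw [hd]; group
        rw [h6]
        exact mul_mem (inv_mem hw) (conj_mem_of_normalizer (hTO (hQT hq)) hw)
      have hdT : d ∈ T₁ := by
        rw [hd]
        exact mul_mem (conj_inv_mem_of_normalizer hwN (hQT hq)) (inv_mem (hQT hq))
      have h7 := mem_centralizer_iff.1 (h1 ⟨hdO, b.T_L hdT⟩) x hx
      have h8 : q * x = x * q := h4 q hq
      have h9 : w⁻¹ * q * w = d * q := by rw [hd]; group
      calc q * (w * x * w⁻¹) = w * ((w⁻¹ * q * w) * x) * w⁻¹ := by group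
        _ = w * (d * (q * x)) * w⁻¹ := by rw [h9]; group
        _ = w * ((x * d) * q) * w⁻¹ := by rw [h8, h7]; group
        _ = w * (x * (w⁻¹ * q * w)) * w⁻¹ := by rw [h9]; group
        _ = (w * x * w⁻¹) * q := by group
    have hQ : w * x * w⁻¹ ∈ Q := b.Q_cen (mem_centralizer_iff.2 fun q hq => hcomm q hq)
    refine mem_zc.2 ⟨hQ, hcomm, ?_⟩
    have h6 : (w * x * w⁻¹) ^ 2 = w * x ^ 2 * w⁻¹ := by rw [pow_two, pow_two]; group
    rw [h6, h5, mul_one, mul_inv_cancel]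
  -- `w` normalises `R o`
  obtain ⟨i, hio⟩ : ∃ i, i ≠ o := by
    obtain ⟨k, hk, -⟩ := b.third o o
    exact ⟨k, hk⟩
  obtain ⟨g, hg, j, hjo, hji, hgj⟩ := b.exists_mov hio
  obtain ⟨x, hx, hx1⟩ := b.exists_ne i
  have hxL := b.R_le i hx
  have hne : g * x * g⁻¹ * x⁻¹ ≠ 1 := by
    intro h3
    have h4 : g * x * g⁻¹ ∈ R j := by rw [← hgj]; exact conj_mem_cj hx
    have h5 : g * x * g⁻¹ = x := by
      have : g * x * g⁻¹ = g * x * g⁻¹ * x⁻¹ * x := by group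
      rw [this, h3, one_mul]
    rw [h5] at h4
    exact hx1 (b.eq_one hji h4 hx)
  have hr : g * x * g⁻¹ * x⁻¹ ∈ R o := b.QV o g hg x hxL
  have hwo : w * (g * x * g⁻¹ * x⁻¹) * w⁻¹ ∈ R o := by
    have hgT := b.QQ_le hg
    obtain ⟨d, hd⟩ : ∃ d, d = w * g * w⁻¹ * g⁻¹ := ⟨_, rfl⟩
    have hd1 := (hc g hgT).1
    have hd2 := (hc g hgT).2
    rw [← hd] at hd1 hd2
    have hxV := hCV x hxL
    obtain ⟨y, hy⟩ : ∃ y, y = w * x * w⁻¹ := ⟨_, rfl⟩
    have h3 := hCO x hxL d hd1 hd2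
    rw [← hy] at h3 hxV
    have h4 : g * y * g⁻¹ * y⁻¹ ∈ R o := b.QV' g hg y hxV
    have h5 := mem_centralizer_iff.1 (h1 ⟨hd1, b.T_L hd2⟩) _ (b.R_le o h4)
    have h6 : w * g * w⁻¹ = d * g := by rw [hd]; group
    have h7 : w * (g * x * g⁻¹ * x⁻¹) * w⁻¹ = g * y * g⁻¹ * y⁻¹ := by
      calc w * (g * x * g⁻¹ * x⁻¹) * w⁻¹ = (w * g * w⁻¹) * (w * x * w⁻¹) * (w * g * w⁻¹)⁻¹ * (w * x * w⁻¹)⁻¹ := by
            group
        _ = d * g * y * (d * g)⁻¹ * y⁻¹ := by rw [h6, ← hy]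
        _ = d * (g * y * g⁻¹ * y⁻¹) * (y * d⁻¹ * y⁻¹) := by group
        _ = d * (g * y * g⁻¹ * y⁻¹) * d⁻¹ := by
            have h8 : y * d⁻¹ * y⁻¹ = d⁻¹ := by
              have : d⁻¹ * y = y * d⁻¹ := by
                calc d⁻¹ * y = d⁻¹ * (y * d) * d⁻¹ := by group
                  _ = d⁻¹ * (d * y) * d⁻¹ := by rw [h3]
                  _ = y * d⁻¹ := by group
              rw [← this]; group
            rw [h8]
        _ = g * y * g⁻¹ * y⁻¹ := by rw [← h5]; group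
    rw [h7]
    exact h4
  have hwR : w ∈ normalizer (R o : Set G) := by
    refine mem_normalizer_of_conj fun z hz => ?_
    by_cases hz1 : z = 1
    · rw [hz1, mul_one, mul_inv_cancel]; exact one_mem _
    · rw [eq_of_card_two (b.card_R o) hr hne hz hz1]
      exact hwo
  -- LEMMA F
  refine hwT (h2 ⟨hw, b.F w hwR i hio ?_ ?_⟩)
  · rw [cj_le_iff]
    exact fun z hz => hCV z (b.R_le i hz)
  · intro s hs z hz
    rw [mem_cj] at hz
    obtain ⟨y, hy⟩ : ∃ y, y = w⁻¹ * z * w := ⟨_, rfl⟩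
    rw [← hy] at hz
    have hyz : z = w * y * w⁻¹ := by rw [hy]; group
    have hsT := b.T_le hs
    have hs' : w⁻¹ * s * w ∈ T₁ := conj_inv_mem_of_normalizer hwN hsT
    have h3 := b.comm_T1 hs' (b.R_le i hz)
    have h4 : s * z * s⁻¹ * z⁻¹ = w * (w⁻¹ * s * w * y * (w⁻¹ * s * w)⁻¹ * y⁻¹) * w⁻¹ := by
      rw [hyz]; group
    rw [h4]
    exact conj_mem_of_normalizer hwR h3

end LD

end Cfsg.Agent.Omega.F4Leaf.Syl.LocP
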