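import Cfsg.Agent.Omega.F4Leaf.Syl.LemF
import Cfsg.Agent.Omega.ThmC.TwoSyl
import Cfsg.Agent.ZN.Facts

/-!
# LeafF4, `m ≥ 2`: (I) of #21183 (helper758)

`Tn.odd` : the Sylow 2-subgroup `T₁ ≥ S ∩ C(r_ij)` of `C_G(r_ij) ∩ N_G(V_l)` is a Sylow 2-subgroup of `C_G(r_ij)`, if
`|Ω₁Z(S)| ≥ 4` and `O₂(C_G(e))` centralises `V_l` for every involution `e` of `V` centralised by `T₁` and by `XL`.
-/

set_option autoImplicit false
set_option linter.dupNamespace false

namespace Cfsg.Agent.Omega.F4Leaf.Syl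

open Subgroup Pointwise Cfsg Cfsg.Agent Cfsg.Agent.Omega.MinPar
open Cfsg.Agent.ZN (o2 zc zl)
open Cfsg.Agent.Omega.FrameFF (cv Single Free)
open Cfsg.Agent.Omega.S5.Def Cfsg.Agent.Omega.S5.Syl Cfsg.Agent.Omega.F4Leaf.Def
open Cfsg.Agent.Omega.NSix.Base Cfsg.Agent.Omega.NSix.Basic Cfsg.Agent.Omega.F4Leaf.Pos
open Cfsg.Agent.Omega.NSix.Zero (WP mem_WP WP_norm WP_conj zpow_cases)
open Cfsg.Agent.Omega.F4Leaf.Exit.Tr Cfsg.Agent.Omega.F4Leaf.Exit.Dua
open Cfsg.Agent.MinSimple.VModule (o2_isPGroup o2_le le_o2 le_normalizer_o2 le_normalizer_zl o2_le_of_sylow mem_zc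
  zc_le normalizer_le_normalizer_zc)

universe u

variable {G : Type u} [Group G] [Finite G] {S : Sylow 2 G} {P : Subgroup G} {m : ℕ} {A : Subgroup G}
  {ε : (Fin (2 ^ m + 1) → ZMod 2) → G} {i j : Fin (2 ^ m + 1)}

section basics

variable (h : Ln S P m A ε i j)
include h

/-- `O₂(C(r_ij)) ≤ S ∩ C(r_ij)` -/
theorem Ln.Qn_le : o2 (NN ε i j) ≤ (S : Subgroup G) ⊓ NN ε i j := by
  have h1 : o2 (NN ε i j) ≤ P ⊓ NN ε i j := le_inf (h.sit.o2_le_P h.ij) (o2_le _)
  have h2 : IsPGroup 2 ((S : Subgroup G) ⊓ NN ε i j : Subgroup G) := S.isPGroup'.to_le inf_le_left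
  have h3 : P ⊓ NN ε i j ≤ normalizer (o2 (NN ε i j) : Set G) := inf_le_right.trans (le_normalizer_o2 _)
  have h4 : o2 (NN ε i j) ≤ o2 (P ⊓ NN ε i j) := le_o2 h1 (o2_isPGroup _) h3
  exact h4.trans (o2_le_of_sylow h2 h.odd)

theorem Ln.V_norm : normalizer (o2 P : Set G) ≤ normalizer (zl (S : Subgroup G) P : Set G) := by
  rw [← h.sit.omega_one h.wp]
  exact normalizer_le_normalizer_zc _

/-- a 2-subgroup of `C(V)` normalised by `O₂(P)` is in `O₂(P)` -/
theorem Ln.le_Q {Y : Subgroup G} (hY : IsPGroup 2 Y) (hYC : Y ≤ centralizer (zl (S : Subgroup G) P : Set G))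
    (hn : o2 P ≤ normalizer (Y : Set G)) : Y ≤ o2 P := by
  have h1 := ThmC.le_of_normalized S (N := normalizer (zl (S : Subgroup G) P : Set G))
    (C := centralizer (zl (S : Subgroup G) P : Set G)) (Sit.S_le h.sit) (centralizer_le_normalizer _)
    (by
      intro g hg
      have := Cfsg.Agent.Omega.NSix.End.Six.norm_cen _ hg
      exact this) hY hYC
    (by rw [h.sit.par.inf_centralizer S h.sit.c2]; exact hn)
  rw [← h.sit.par.inf_centralizer S h.sit.c2]
  exact le_inf h1 hYC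

/-- `X` centralises `v ε(x)` iff `x` is constant on `{i, j, 0}` -/
theorem Ln.XL_iff {v : G} (hv : v ∈ cv (S : Subgroup G) P) (x : Fin (2 ^ m + 1) → ZMod 2) :
    XL ε i j ≤ centralizer ({v * ε x} : Set G) ↔ x i = x j ∧ x i = x 0 := by
  have key : ∀ k l, k ≠ l → (o2 (NN ε k l) ≤ centralizer ({v * ε x} : Set G) ↔ x k = x l) := by
    intro k l hkl
    rw [← Sit.move_iff h.sit h.mov hkl hv x]
    constructor
    · intro h1 y hy
      have h2 : y * (v * ε x) = v * ε x * y := mem_centralizer_singleton_iff.mp (h1 hy)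
      rw [h2, mul_inv_cancel_right]
    · intro h1 y hy
      rw [mem_centralizer_singleton_iff, ← mul_inv_eq_iff_eq_mul]
      exact h1 y hy
  unfold XL
  rw [sup_le_iff, sup_le_iff, key _ _ h.ij, key _ _ h.i0, key _ _ h.j0]
  constructor
  · rintro ⟨⟨h1, h2⟩, -⟩
    exact ⟨h1, h2⟩
  · rintro ⟨h1, h2⟩
    exact ⟨⟨h1, h2⟩, h1.symm.trans h2⟩

/-- `C_V(S ∩ C(r_ij)) = ⟨r_ij⟩ (C_V(T) ∩ C(X))` -/
theorem Ln.cent {e : G} (he : e ∈ zl (S : Subgroup G) P) (hT : ∀ s ∈ (S : Subgroup G) ⊓ NN ε i j, s * e = e * s) :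
    XL ε i j ≤ centralizer ({e} : Set G) ∨ XL ε i j ≤ centralizer ({e * rr ε i j} : Set G) := by
  obtain ⟨v, hv, a, ha, rfl⟩ := h.sit.mul_eq he
  obtain ⟨x, rfl⟩ := h.sit.split.even.surj a ha
  have h1 : x i = x j := by
    rw [← Sit.move_iff h.sit h.mov h.ij hv x]
    intro y hy
    rw [hT y (h.Qn_le hy), mul_inv_cancel_right]
  have h01 : ∀ a b : ZMod 2, a = b ∨ a + 1 = b := by decide
  rcases h01 (x i) (x 0) with h2 | h2
  · left
    exact (h.XL_iff hv x).mpr ⟨h1, h2⟩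
  · right
    have e1 : v * ε x * rr ε i j = v * ε (x + (Pi.single i 1 + Pi.single j 1)) := by
      rw [h.sit.split.even.add, h.sit.split.even.add, mul_assoc]
      rfl
    rw [e1]
    refine (h.XL_iff hv _).mpr ⟨?_, ?_⟩
    · simp only [Pi.add_apply, Pi.single_eq_same, Pi.single_eq_of_ne h.ij, Pi.single_eq_of_ne h.ij.symm]
      rw [h1, add_zero, zero_add]
    · simp only [Pi.add_apply, Pi.single_eq_same, Pi.single_eq_of_ne h.ij, Pi.single_eq_of_ne h.i0.symm,
        Pi.single_eq_of_ne h.j0.symm]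
      rw [add_zero, add_zero, add_zero, h2]

end basics

/-- growth of `T₁` -/
theorem exists_grow {T H : Subgroup G} (hT : IsPGroup 2 T) (hTH : T ≤ H) (hd : 2 ∣ T.relIndex H) :
    ∃ (K : Subgroup G) (t : G), IsPGroup 2 K ∧ K ≤ H ∧ T ≤ K ∧ t ∈ K ∧ t ∉ T ∧ t ∈ normalizer (T : Set G) := by
  have hf : Fact (Nat.Prime 2) := ⟨Nat.prime_two⟩
  have h1 : IsPGroup 2 (T.subgroupOf H) := hT.comap_of_injective H.subtype Subtype.val_injective
  obtain ⟨Q, hQ⟩ := h1.exists_le_sylow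
  have hTK : T ≤ (Q : Subgroup H).map H.subtype := by
    intro x hx
    exact ⟨⟨x, hTH hx⟩, hQ hx, rfl⟩
  have hK : IsPGroup 2 ((Q : Subgroup H).map H.subtype) := Q.isPGroup'.map _
  have hne : ¬ (Q : Subgroup H).map H.subtype ≤ T := by
    intro h2
    have h3 : T.subgroupOf H = (Q : Subgroup H) := by
      refine le_antisymm hQ fun x hx => ?_
      exact h2 ⟨x, hx, rfl⟩
    have h4 : T.relIndex H = (Q : Subgroup H).index := by rw [← h3]; rfl
    rw [h4] at hd
    exact Q.not_dvd_index hd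
  obtain ⟨t, ht, htT, htn⟩ := S5.TT.exists_mem_normalizer hK hTK hne
  exact ⟨_, t, hK, map_subtype_le _, hTK, ht, htT, htn⟩

/-- `S₁ ≤ S` and `z ∈ Ω₁Z(S^g)`: an element of `V`. -/
theorem Ln.mem_V (h : Ln S P m A ε i j) {e : G} (h2 : e ^ 2 = 1) (hQ : ∀ q ∈ o2 P, q * e = e * q) :
    e ∈ zl (S : Subgroup G) P := by
  rw [← h.sit.omega_one h.wp]
  exact mem_zc.mpr ⟨h.sit.mem_o2_of_cent fun q hq => (hQ q hq).symm, hQ, h2⟩

/-- **(I)** `T₁` is a Sylow 2-subgroup of `C_G(r_ij)`. -/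
theorem Tn.odd {T₁ : Subgroup G} (h : Tn S P m A ε i j T₁) (h4 : 4 ≤ Nat.card (zc (S : Subgroup G)))
    (hloc : ∀ e ∈ zl (S : Subgroup G) P, e ≠ 1 → T₁ ≤ centralizer ({e} : Set G) →
      XL ε i j ≤ centralizer ({e} : Set G) →
      o2 (centralizer ({e} : Set G)) ≤ centralizer (VL ε i j : Set G)) :
    ¬ 2 ∣ T₁.relIndex (NN ε i j) := by
  intro hd
  have l := h.ln
  have hs := l.sit
  have hE := hs.split.even
  have hw := l.mov
  have hQT : o2 P ≤ T₁ := l.o2_le_T.trans h.TT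
  obtain ⟨K, t, hK, hKH, hTK, htK, htT, htn⟩ := exists_grow h.two h.le hd
  have htH : t ∈ NN ε i j := hKH htK
  have hnt : t * rr ε i j * t⁻¹ = rr ε i j := mem_NN'.mp htH
  -- conjugate `K` into `S`
  obtain ⟨g, -, hg⟩ := exists_conj (C := ⊤) (S := (S : Subgroup G)) (X := K) le_top S.isPGroup' hK (by
    rw [relIndex_top_right]
    exact not_dvd S)
  -- the elements of `Ω₁Z(S^g)`
  have hZV : ∀ z ∈ zc (S : Subgroup G), (∀ k ∈ K, k * (g⁻¹ * z * g) = g⁻¹ * z * g * k) := by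
    intro z hz k hk
    have h1 := (mem_zc.mp hz).2.1 _ (hg k hk)
    calc k * (g⁻¹ * z * g) = g⁻¹ * (g * k * g⁻¹ * z) * g := by group
      _ = g⁻¹ * (z * (g * k * g⁻¹)) * g := by rw [h1]
      _ = _ := by group
  have hZ2 : ∀ z ∈ zc (S : Subgroup G), (g⁻¹ * z * g) ^ 2 = 1 := by
    intro z hz
    have h1 := (mem_zc.mp hz).2.2
    rw [pow_two] at h1 ⊢
    calc g⁻¹ * z * g * (g⁻¹ * z * g) = g⁻¹ * (z * z) * g := by group
      _ = 1 := by rw [h1]; group
  have hZm : ∀ z ∈ zc (S : Subgroup G), g⁻¹ * z * g ∈ zl (S : Subgroup G) P := fun z hz =>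
    l.mem_V (hZ2 z hz) fun q hq => hZV z hz q (hTK (hQT hq))
  have hZc : ∀ z ∈ zc (S : Subgroup G), XL ε i j ≤ centralizer ({g⁻¹ * z * g} : Set G) ∨
      XL ε i j ≤ centralizer ({g⁻¹ * z * g * rr ε i j} : Set G) := fun z hz =>
    l.cent (hZm z hz) fun s hs' => hZV z hz s (hTK (h.TT hs'))
  -- a good element
  obtain ⟨e, heV, he1, heK, heX⟩ : ∃ e ∈ zl (S : Subgroup G) P, e ≠ 1 ∧ (∀ k ∈ K, k * e = e * k) ∧
      XL ε i j ≤ centralizer ({e} : Set G) := by
    by_contra hno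
    push Not at hno
    have h1 : ∀ z ∈ zc (S : Subgroup G), z ≠ 1 → XL ε i j ≤ centralizer ({g⁻¹ * z * g * rr ε i j} : Set G) := by
      intro z hz hz1
      refine (hZc z hz).resolve_left fun h2 => ?_
      refine hno _ (hZm z hz) (fun h3 => hz1 ?_) (hZV z hz) h2
      have h4 : z = g * (g⁻¹ * z * g) * g⁻¹ := by group
      rw [h4, h3]
      group
    -- at most two elements
    have h2 : ∀ a ∈ zc (S : Subgroup G), ∀ b ∈ zc (S : Subgroup G), a ≠ 1 → b ≠ 1 → a = b := by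
      intro a ha b hb ha1 hb1
      by_contra hab
      have hab' : a * b ≠ 1 := by
        intro h3
        apply hab
        have h5 : b * b = 1 := by rw [← pow_two]; exact (mem_zc.mp hb).2.2
        calc a = a * b * b := by rw [mul_assoc, h5, mul_one]
          _ = b := by rw [h3, one_mul]
      have h3 : XL ε i j ≤ centralizer ({g⁻¹ * (a * b) * g} : Set G) := by
        intro x hx
        have h4 := mem_centralizer_singleton_iff.mp (h1 a ha ha1 hx)
        have h5 := mem_centralizer_singleton_iff.mp (h1 b hb hb1 hx)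
        rw [mem_centralizer_singleton_iff]
        have hnn : rr ε i j * rr ε i j = 1 := rr_sq hE i j
        have hcb : g⁻¹ * b * g * rr ε i j = rr ε i j * (g⁻¹ * b * g) :=
          hs.V_comm (hZm b hb) (hs.split.A_le (rr_mem hE i j))
        have e1 : g⁻¹ * (a * b) * g = (g⁻¹ * a * g * rr ε i j) * (g⁻¹ * b * g * rr ε i j) := by
          rw [hcb]
          calc g⁻¹ * (a * b) * g = g⁻¹ * a * g * (g⁻¹ * b * g) := by group
            _ = g⁻¹ * a * g * (rr ε i j * rr ε i j) * (g⁻¹ * b * g) := by rw [hnn, mul_one]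
            _ = _ := by group
        rw [e1, ← mul_assoc, h4, mul_assoc, h5, ← mul_assoc]
      refine hno _ (hZm _ (mul_mem ha hb)) (fun h4 => hab' ?_) (hZV _ (mul_mem ha hb)) h3
      have h5 : a * b = g * (g⁻¹ * (a * b) * g) * g⁻¹ := by group
      rw [h5, h4]
      group
    have h3 : Nat.card (zc (S : Subgroup G)) ≤ 2 := by
      by_cases h5 : ∃ a ∈ zc (S : Subgroup G), a ≠ 1
      · obtain ⟨a, ha, ha1⟩ := h5
        have h6 : ((zc (S : Subgroup G) : Subgroup G) : Set G) ⊆ {1, a} := by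
          intro b hb
          by_cases hb1 : b = 1
          · left; exact hb1
          · right; exact h2 b hb a ha hb1 ha1
        calc Nat.card (zc (S : Subgroup G)) = ((zc (S : Subgroup G) : Subgroup G) : Set G).ncard := rfl
          _ ≤ ({1, a} : Set G).ncard := Set.ncard_le_ncard h6 (Set.toFinite _)
          _ ≤ 2 := (Set.ncard_insert_le _ _).trans (by rw [Set.ncard_singleton])
      · push Not at h5
        have h6 : zc (S : Subgroup G) = ⊥ := eq_bot_iff.mpr fun x hx => mem_bot.mpr (h5 x hx)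
        rw [h6, card_bot]
        omega
    omega
  have he2 : e ^ 2 = 1 := hs.V_sq heV
  have hTe : T₁ ≤ centralizer ({e} : Set G) := fun s hs' => mem_centralizer_singleton_iff.mpr (heK s (hTK hs'))
  have hOV := hloc e heV he1 hTe heX
  -- `V_l ≤ O := O₂(C(e))`
  have hVLV : VL ε i j ≤ zl (S : Subgroup G) P := (VL_le hE).trans hs.split.A_le
  have hVLO : VL ε i j ≤ o2 (centralizer ({e} : Set G)) := by
    intro v hv
    refine MinSimple.Basic.char2_centralizer hs.c2 he2 he1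
      ⟨mem_centralizer_singleton_iff.mpr (hs.V_comm (hVLV hv) heV), mem_centralizer_iff.mpr fun x hx => ?_⟩
    exact (mem_centralizer_iff.mp (hOV hx) v hv).symm
  have htC : t ∈ centralizer ({e} : Set G) := mem_centralizer_singleton_iff.mpr (heK t htK)
  -- the element `x = t r_i0 t⁻¹`
  set x : G := t * rr ε i 0 * t⁻¹ with hx
  have hxO : x ∈ o2 (centralizer ({e} : Set G)) := norm_conj (le_normalizer_o2 _ htC) (hVLO ri_mem_VL)
  have hxx : x * x = 1 := by
    rw [hx]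
    calc t * rr ε i 0 * t⁻¹ * (t * rr ε i 0 * t⁻¹) = t * (rr ε i 0 * rr ε i 0) * t⁻¹ := by group
      _ = 1 := by rw [rr_sq hE]; group
  have hxV : ∀ v ∈ VL ε i j, x * v = v * x := fun v hv => (mem_centralizer_iff.mp (hOV hxO) v hv).symm
  have hxn : x * rr ε i j = rr ε i j * x := hxV _ rr_mem_VL
  -- `[x, T₁] ≤ ⟨n⟩`
  have hTx : ∀ s ∈ T₁, s * x * s⁻¹ = x ∨ s * x * s⁻¹ = x * rr ε i j := by
    intro s hs'
    have hs1 : t⁻¹ * s * t ∈ T₁ := norm_conj' htn hs'
    have hs2 := norm_conj (h.nrm hs1) (ri_mem_VL (ε := ε) (i := i) (j := j))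
    have hs3 : t⁻¹ * s * t * rr ε i j * (t⁻¹ * s * t)⁻¹ = rr ε i j := mem_NN'.mp (h.le hs1)
    have e1 : s * x * s⁻¹ = t * (t⁻¹ * s * t * rr ε i 0 * (t⁻¹ * s * t)⁻¹) * t⁻¹ := by
      rw [hx]
      group
    rcases (mem_VL hE).mp hs2 with h1 | h1 | h1 | h1
    · exfalso
      have h2 : rr ε i 0 = 1 := by
        calc rr ε i 0 = (t⁻¹ * s * t)⁻¹ * (t⁻¹ * s * t * rr ε i 0 * (t⁻¹ * s * t)⁻¹) * (t⁻¹ * s * t) := by group
          _ = 1 := by rw [h1]; group
      exact rr_ne_one hE hs.three l.i0 h2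
    · exfalso
      have h2 : rr ε i 0 = rr ε i j := by
        have h3 : t⁻¹ * s * t * rr ε i 0 * (t⁻¹ * s * t)⁻¹ = t⁻¹ * s * t * rr ε i j * (t⁻¹ * s * t)⁻¹ := by
          rw [h1, hs3]
        exact mul_left_cancel (mul_right_cancel h3)
      rcases pair_eq hE l.five l.i0 h2 with h3 | h3
      · exact l.j0 h3.2
      · exact l.i0 h3.1
    · left
      rw [e1, h1]
    · right
      rw [e1, h1]
      have h2 : rr ε j 0 = rr ε i 0 * rr ε i j := by
        rw [hE.comm_mem (rr_mem hE i 0) (rr_mem hE i j), rr_symm hE i j, rr_add hE]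
      rw [h2]
      calc t * (rr ε i 0 * rr ε i j) * t⁻¹ = t * rr ε i 0 * t⁻¹ * (t * rr ε i j * t⁻¹) := by group
        _ = _ := by rw [hnt]
  -- `x q x⁻¹ ∈ q ⟨n⟩`
  have hnV : rr ε i j ∈ zl (S : Subgroup G) P := hs.split.A_le (rr_mem hE i j)
  have hxinv : x⁻¹ = x := inv_eq_of_mul_eq_one_left hxx
  have hxq : ∀ q ∈ o2 P, x * q * x⁻¹ = q ∨ x * q * x⁻¹ = q * rr ε i j := by
    intro q hq
    have hqn : q * rr ε i j = rr ε i j * q := (mem_zc.mp (hs.V_le_zc hnV)).2.1 q hq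
    rcases hTx q (hQT hq) with h1 | h1
    · left
      have h2 : q * x = x * q := by
        rw [← mul_inv_eq_iff_eq_mul]
        exact h1
      rw [← h2, mul_inv_cancel_right]
    · right
      have h2 : q * x = x * rr ε i j * q := by
        rw [← mul_inv_eq_iff_eq_mul]
        exact h1
      rw [hxinv]
      calc x * q * x = x * (q * x) := mul_assoc _ _ _
        _ = x * (x * rr ε i j * q) := by rw [h2]
        _ = x * x * (rr ε i j * q) := by group
        _ = q * rr ε i j := by rw [hxx, one_mul, hqn]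
  have hnQ : rr ε i j ∈ o2 P := zc_le _ (hs.V_le_zc hnV)
  have hxN : x ∈ normalizer (o2 P : Set G) := by
    have key : ∀ q ∈ o2 P, x * q * x⁻¹ ∈ o2 P := by
      intro q hq
      rcases hxq q hq with h1 | h1
      · rw [h1]; exact hq
      · rw [h1]; exact mul_mem hq hnQ
    rw [mem_normalizer_iff]
    refine fun q => ⟨key q, fun hq => ?_⟩
    have h1 := key _ hq
    rw [hxinv] at h1
    have e1 : x * (x * q * x) * x = q := by
      calc x * (x * q * x) * x = (x * x) * q * (x * x) := by group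
        _ = q := by rw [hxx, one_mul, mul_one]
    rwa [e1] at h1
  have hxNV := l.V_norm hxN
  -- `x` centralises `V`
  have hxcV : x ∈ centralizer (zl (S : Subgroup G) P : Set G) := by
    by_contra hno
    have h1 : ∃ v ∈ zl (S : Subgroup G) P, x * v * x⁻¹ ≠ v := by
      by_contra h2
      push Not at h2
      exact hno (mem_centralizer_iff.mpr fun v hv => (mul_inv_eq_iff_eq_mul.mp (h2 v hv)).symm)
    obtain ⟨k, k', hkk, h2, h3⟩ := Sit.transv hs hw (c := rr ε i j) hxNV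
      (fun v hv => hxq v (zc_le _ (hs.V_le_zc hv))) h1
    have h5 : x * rr ε i 0 * x⁻¹ = rr ε i 0 := by rw [hxV _ ri_mem_VL, mul_inv_cancel_right]
    have h6 : Equiv.swap k k' = Equiv.swap i j := by
      rcases pair_eq hE l.five l.ij h2 with h4 | h4
      · rw [h4.1, h4.2]
      · rw [h4.1, h4.2, Equiv.swap_comm]
    rw [h6] at h3
    rw [rr_conj h3, Equiv.swap_apply_left, Equiv.swap_apply_of_ne_of_ne l.i0.symm l.j0.symm] at h5
    rcases pair_eq hE l.five l.j0 h5 with h7 | h7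
    · exact l.ij h7.1
    · exact l.i0 h7.1
  -- `x ∈ Q`
  have hxQ : x ∈ o2 P := by
    have hf : Fact (Nat.Prime 2) := ⟨Nat.prime_two⟩
    have hx2 : IsPGroup 2 (zpowers x) := by
      rw [IsPGroup.iff_card]
      have h3 : orderOf x ∣ 2 ^ 1 := orderOf_dvd_of_pow_eq_one (by rw [pow_one, pow_two, hxx])
      obtain ⟨k, -, hk⟩ := (Nat.dvd_prime_pow Nat.prime_two).1 h3
      exact ⟨k, by rw [Nat.card_zpowers, hk]⟩
    have hY : IsPGroup 2 (zpowers x ⊔ o2 P : Subgroup G) :=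
      hx2.to_sup_of_normal_right' (o2_isPGroup P) (by rw [zpowers_le]; exact hxN)
    have hQV : o2 P ≤ centralizer (zl (S : Subgroup G) P : Set G) := by
      rw [← hs.par.inf_centralizer S hs.c2]
      exact inf_le_right
    exact l.le_Q hY (sup_le (by rw [zpowers_le]; exact hxcV) hQV) (le_sup_right.trans le_normalizer)
      ((le_sup_left : zpowers x ≤ zpowers x ⊔ o2 P) (mem_zpowers x))
  -- `Z_p := Ω₁Z(Q_p)`, `p = r_i0`
  have hQV : ∀ q ∈ o2 P, ∀ v ∈ zl (S : Subgroup G) P, q * v = v * q := fun q hq v hv =>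
    (mem_zc.mp (hs.V_le_zc hv)).2.1 q hq
  have hp : rr ε i 0 ∈ zl (S : Subgroup G) P := hs.split.A_le (rr_mem hE i 0)
  have hVQp : zl (S : Subgroup G) P ≤ o2 (NN ε i 0) := hs.V_le l.i0
  have hCN : centralizer (zl (S : Subgroup G) P : Set G) ≤ NN ε i 0 := by
    intro y hy
    rw [mem_NN]
    exact (mem_centralizer_iff.mp hy _ hp).symm
  have hQNp : o2 P ≤ NN ε i 0 := fun q hq => mem_NN.mpr (hQV q hq _ hp)
  have hNZ : NN ε i 0 ≤ normalizer (zc (o2 (NN ε i 0)) : Set G) :=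
    (le_normalizer_o2 _).trans (normalizer_le_normalizer_zc _)
  have hZQ : zc (o2 (NN ε i 0)) ≤ o2 P := by
    refine l.le_Q ((o2_isPGroup _).to_le (zc_le _)) (fun y hy => mem_centralizer_iff.mpr fun v hv => ?_)
      (hQNp.trans hNZ)
    exact (mem_zc.mp hy).2.1 v (hVQp hv)
  have heZ : e ∈ zc (o2 (NN ε i 0)) := by
    refine mem_zc.mpr ⟨hVQp heV, fun y hy => ?_, he2⟩
    exact mem_centralizer_singleton_iff.mp (heX ((le_sup_right.trans le_sup_left :
      o2 (NN ε i 0) ≤ XL ε i j) hy))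
  -- `x` centralises `Z_p`
  have hxZ : ∀ y ∈ zc (o2 (NN ε i 0)), x * y = y * x := by
    intro y hy
    rcases hxq y (hZQ hy) with h1 | h1
    · exact mul_inv_eq_iff_eq_mul.mp h1
    · exfalso
      have h2 : x * y * x⁻¹ ∈ zc (o2 (NN ε i 0)) := norm_conj (hNZ (hCN hxcV)) hy
      rw [h1] at h2
      have h3 : rr ε i j ∈ zc (o2 (NN ε i 0)) := by
        have h4 := mul_mem (inv_mem hy) h2
        rwa [inv_mul_cancel_left] at h4
      obtain ⟨w, hw1, hw2⟩ := hw i 0 l.i0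
      have h4 := (mem_zc.mp h3).2.1 w hw1
      have h5 : w * rr ε i j * w⁻¹ = rr ε i j := by rw [h4, mul_inv_cancel_right]
      rw [rr_conj hw2, Equiv.swap_apply_left, Equiv.swap_apply_of_ne_of_ne l.ij.symm l.j0] at h5
      rcases pair_eq hE l.five l.ij h5.symm with h6 | h6
      · exact l.i0 h6.1.symm
      · exact l.j0 h6.1.symm
  -- `x ∈ O₂(C(Z_p)) ≤ Q_p`
  have hpZ : rr ε i 0 ∈ zc (o2 (NN ε i 0)) := by
    refine mem_zc.mpr ⟨hVQp hp, fun y hy => ?_, hs.V_sq hp⟩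
    exact mem_NN.mp (o2_le _ hy)
  let C : Subgroup G := centralizer ((zc (o2 (NN ε i 0)) : Subgroup G) : Set G)
  have hCe : C ≤ centralizer ({e} : Set G) := fun y hy =>
    mem_centralizer_singleton_iff.mpr (mem_centralizer_iff.mp hy e heZ).symm
  have hCp : C ≤ NN ε i 0 := fun y hy => mem_NN.mpr (mem_centralizer_iff.mp hy _ hpZ).symm
  have hxC : x ∈ o2 C := by
    have h1 : o2 (centralizer ({e} : Set G)) ⊓ C ≤ o2 C := by
      refine le_o2 inf_le_right ((o2_isPGroup _).to_le inf_le_left) ?_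
      intro y hy
      have h2 := le_normalizer_o2 _ (hCe hy)
      rw [mem_normalizer_iff] at h2 ⊢
      intro z
      constructor
      · rintro ⟨hz, hz'⟩
        exact ⟨(h2 z).mp hz, C.mul_mem (C.mul_mem hy hz') (C.inv_mem hy)⟩
      · rintro ⟨hz, hz'⟩
        refine ⟨(h2 z).mpr hz, ?_⟩
        have h3 := C.mul_mem (C.mul_mem (C.inv_mem hy) hz') hy
        have e1 : y⁻¹ * (y * z * y⁻¹) * y = z := by group
        rwa [e1] at h3
    exact h1 ⟨hxO, mem_centralizer_iff.mpr fun y hy => (hxZ y hy).symm⟩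
  have hxQp : x ∈ o2 (NN ε i 0) := by
    have h1 : o2 C ≤ o2 (NN ε i 0) := by
      refine le_o2 ((o2_le _).trans hCp) (o2_isPGroup _) ?_
      exact (hNZ.trans (Cfsg.Agent.Omega.NSix.End.Six.norm_cen _)).trans (ZN.normalizer_le_normalizer_o2 C)
    exact h1 hxC
  -- `[x, Q] = 1`
  have hxcQ : ∀ q ∈ o2 P, x * q * x⁻¹ = q := by
    obtain ⟨w, hw1, hw2⟩ := hs.mov l.wp l.i0
    have hwP : w ∈ P := hs.o2_le_P l.i0 (hs.fac.ww hs.c2 hs.three l.i0 hw1)
    have hwx : w * x * w⁻¹ = x ∨ w * x * w⁻¹ = rr ε i 0 * x := by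
      rcases zpow_cases (rr_sq hE i 0) ((mem_WP.mp hw1).2 x hxQp) with h1 | h1
      · left
        exact mul_inv_eq_one.mp h1
      · right
        exact mul_inv_eq_iff_eq_mul.mp h1
    intro q hq
    rcases hxq q hq with h1 | h1
    · exact h1
    · exfalso
      have hq' : w * q * w⁻¹ ∈ o2 P := norm_conj (le_normalizer_o2 _ hwP) hq
      have h2 : (w * x * w⁻¹) * (w * q * w⁻¹) * (w * x * w⁻¹)⁻¹ = w * q * w⁻¹ * (w * rr ε i j * w⁻¹) := by
        calc (w * x * w⁻¹) * (w * q * w⁻¹) * (w * x * w⁻¹)⁻¹ = w * (x * q * x⁻¹) * w⁻¹ := by group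
          _ = _ := by rw [h1]; group
      have h3 : (w * x * w⁻¹) * (w * q * w⁻¹) * (w * x * w⁻¹)⁻¹ = x * (w * q * w⁻¹) * x⁻¹ := by
        rcases hwx with h4 | h4
        · rw [h4]
        · rw [h4]
          have h5 : rr ε i 0 * (x * (w * q * w⁻¹) * x⁻¹) = x * (w * q * w⁻¹) * x⁻¹ * rr ε i 0 :=
            (hQV _ (norm_conj hxN hq') _ hp).symm
          calc rr ε i 0 * x * (w * q * w⁻¹) * (rr ε i 0 * x)⁻¹
              = rr ε i 0 * (x * (w * q * w⁻¹) * x⁻¹) * (rr ε i 0)⁻¹ := by group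
            _ = _ := by rw [h5, mul_inv_cancel_right]
      rw [h3, rr_conj hw2, Equiv.swap_apply_left, Equiv.swap_apply_of_ne_of_ne l.ij.symm l.j0] at h2
      rcases hxq _ hq' with h4 | h4
      · rw [h4] at h2
        exact rr_ne_one hE hs.three l.j0.symm (mul_eq_left.mp h2.symm)
      · rw [h4] at h2
        rcases pair_eq hE l.five l.ij (mul_left_cancel h2) with h6 | h6
        · exact l.i0 h6.1.symm
        · exact l.j0 h6.1.symm
  -- `x ∈ V`, LEMMA F
  have hxV' : x ∈ zl (S : Subgroup G) P := by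
    refine l.mem_V (by rw [pow_two]; exact hxx) fun q hq => ?_
    exact (mul_inv_eq_iff_eq_mul.mp (hxcQ q hq)).symm
  have hF := LemF.lemF l htH hxV' fun s hs' => hTx s (h.TT hs')
  have htN : t ∈ normalizer (VL ε i j : Set G) := by
    have hle : ∀ v ∈ VL ε i j, t * v * t⁻¹ ∈ VL ε i j := by
      have h1 : VL ε i j ≤ (VL ε i j).comap (MulAut.conj t).toMonoidHom := by
        conv_lhs => unfold VL
        rw [closure_le]
        rintro v (rfl | rfl)
        · change t * rr ε i j * t⁻¹ ∈ VL ε i j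
          rw [hnt]
          exact rr_mem_VL
        · change t * rr ε i 0 * t⁻¹ ∈ VL ε i j
          rcases hF with h2 | h2
          · rw [h2]
            exact ri_mem_VL
          · rw [h2]
            exact rj_mem_VL hE
      exact fun v hv => h1 hv
    exact ZN.ChoiceBase.mem_normalizer_of_cj_le (by
      rintro _ ⟨v, hv, rfl⟩
      exact hle v hv)
  -- end
  apply htT
  have hf : Fact (Nat.Prime 2) := ⟨Nat.prime_two⟩
  have ht2 : IsPGroup 2 (zpowers t) := hK.to_le (by rw [zpowers_le]; exact htK)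
  exact absorb h.two ht2 h.syl (le_inf h.le h.nrm) (by rw [zpowers_le]; exact ⟨htH, htN⟩)
    (by rw [zpowers_le]; exact htn) (mem_zpowers t)

end Cfsg.Agent.Omega.F4Leaf.Syl
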