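import Cfsg.Agent.Omega.F4Leaf.Big.OneZ
import Cfsg.Agent.Omega.HT.OtHtt
import Cfsg.Agent.Omega.HT.AlphaY

/-!
# LeafF4, MemH2, pure case: the end of II.0h1 over a Sylow 2-subgroup `T` of `C_G(r_ij)` (no `hodd`)

`V` is a four-group of pairs on the point `r_ij` (any `BT V R`), `T` a Sylow 2-subgroup of `C_G(r_ij)` normalising `V`,
`O₂(P) ≤ T`.

* `otD` : `OtD T V X r_ij`; `htt` : `HTT T (T ⊔ X) V R o`;
* `comm_pt` : `⟨V^{C(v z_k)}⟩` is centralised by `V` (`v ∈ V₀`, `m ≥ 3`);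
* `main` : `|Z₀#| ≤ 1`, if the elements `c` with `Sig V R o c` satisfy `c r_ij = v z_k`, `v ∈ V₀`.
-/

set_option autoImplicit false
set_option linter.dupNamespace false

namespace Cfsg.Agent.Omega.F4Leaf.Syl.OtT

open Subgroup Pointwise Cfsg Cfsg.Agent Cfsg.Agent.Omega.MinPar
open Cfsg.Agent.ZN (o2 zc zl)
open Cfsg.Agent.Omega.FrameFF (cv)
open Cfsg.Agent.Omega.S5.Def Cfsg.Agent.Omega.S5.Syl Cfsg.Agent.Omega.F4Leaf.Def
open Cfsg.Agent.Omega.F4Leaf.Pos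
open Cfsg.Agent.Omega.NSix.Base Cfsg.Agent.Omega.NSix.Basic Cfsg.Agent.Omega.NSix.FixApp
open Cfsg.Agent.Omega.NSix.Zero (WP)
open Cfsg.Agent.Omega.BTwo (BT BTS XX CenX QQ)
open Cfsg.Agent.Omega.HT (HTT)
open Cfsg.Agent.Omega.HT.OtCore (OtD)
open Cfsg.Agent.Omega.HTwo.ThmA (LE)
open Cfsg.Agent.Omega.HTwo.AlphaP (MP)
open Cfsg.Agent.MinSimple.VModule (o2_isPGroup o2_le le_o2 le_normalizer_o2 o2_le_of_sylow mem_zc zc_le)

universe u

variable {G : Type u} [Group G] [Finite G] {S : Sylow 2 G} {P : Subgroup G} {m : ℕ} {A : Subgroup G}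
  {ε : (Fin (2 ^ m + 1) → ZMod 2) → G} {ι : Type*} {V T : Subgroup G} {R : ι → Subgroup G} {o : ι}
  {i j : Fin (2 ^ m + 1)}

/-- `V_P` commutes with `⟨a^{C(v z_k)}⟩`, `a ∈ V_P`, `v ∈ V₀`, `m ≥ 3` -/
theorem comm_pt (h : Sit S P m A ε) (hm : 3 ≤ m) {v : G}
    (hv : v ∈ cv (S : Subgroup G) P) (k : Fin (2 ^ m + 1)) {g : G} (hg : g * (v * zz ε k) = v * zz ε k * g) {a w : G}
    (ha : a ∈ zl (S : Subgroup G) P) (hw : w ∈ zl (S : Subgroup G) P) :
    w * (g * a * g⁻¹) = g * a * g⁻¹ * w := by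
  obtain ⟨h1, h2⟩ := h.cen_pt hm hv k
  have h3 : g * a * g⁻¹ ∈ o2 (centralizer ({v * zz ε k} : Set G)) :=
    (mem_normalizer_iff.1 (le_normalizer_o2 _ (mem_centralizer_singleton_iff.2 hg)) a).1 (h1 ha)
  exact mem_centralizer_iff.1 (h2 h3) w hw

/-- the data: a line `V` of pairs on the point `r_ij`, and a Sylow 2-subgroup `T` of `C_G(r_ij)` normalising it -/
structure Ln (S : Sylow 2 G) (P : Subgroup G) {m : ℕ} (A : Subgroup G) (ε : (Fin (2 ^ m + 1) → ZMod 2) → G)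
    (i j : Fin (2 ^ m + 1)) (T V : Subgroup G) (R : ι → Subgroup G) (o : ι) : Prop where
  sit : Sit S P m A ε
  mv : ∃ i j, i ≠ j ∧ ∃ g ∈ WP ε i j, ¬ g ∈ centralizer (A : Set G)
  ne : i ≠ j
  bt : BT V R
  hr : ∀ x, x ∈ R o ↔ x = 1 ∨ x = rr ε i j
  pair : ∀ v ∈ V, v ≠ 1 → ∃ a b, a ≠ b ∧ v = rr ε a b
  k : ∃ k, k ≠ i ∧ k ≠ j ∧ rr ε i k ∈ V
  T_p : IsPGroup 2 T
  T_N : T ≤ NN ε i j
  odd : ¬ 2 ∣ T.relIndex (NN ε i j)
  T_V : T ≤ normalizer (V : Set G)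
  Q_T : o2 P ≤ T

namespace Ln

variable (h : Ln S P A ε i j T V R o)
include h

theorem Qn_T : o2 (NN ε i j) ≤ T := o2_le_of_sylow h.T_p h.odd

theorem r_ne : rr ε i j ≠ 1 := rr_ne_one h.sit.split.even h.sit.three h.ne

theorem V_le_A : V ≤ A := by
  intro v hv
  by_cases h1 : v = 1
  · rw [h1]; exact one_mem _
  · obtain ⟨a, b, -, rfl⟩ := h.pair v hv h1
    exact rr_mem h.sit.split.even a b

theorem V_le_zl : V ≤ zl (S : Subgroup G) P := h.V_le_A.trans h.sit.split.A_le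

theorem V_le_T : V ≤ T := h.V_le_zl.trans ((h.sit.V_le h.ne).trans h.Qn_T)

theorem T_r {t : G} (ht : t ∈ T) : t * rr ε i j = rr ε i j * t := mem_NN.1 (h.T_N ht)

/-- an element of `WP i j` inducing `(i j)`, and the action on `r_ik` -/
theorem exists_w : ∃ w ∈ o2 (NN ε i j), Acts ε w (Equiv.swap i j) := by
  obtain ⟨w, hw, h1⟩ := h.sit.mov h.mv h.ne
  exact ⟨w, h.sit.fac.ww h.sit.c2 h.sit.three h.ne hw, h1⟩

/-- **`OtD`** over `T` -/
theorem otD : OtD T V (XX V R) (rr ε i j) where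
  T_p := h.T_p
  T_r _ ht := h.T_r ht
  odd := h.odd
  V_T := h.V_le_T
  V_sq := h.bt.V_sq
  V_four := by
    intro v hv hv1 hvr w hw
    have hcard := fun l => OtD.card_R h.bt h.hr h.r_ne l
    have hrV := h.bt.R_le o ((h.hr _).2 (Or.inr rfl))
    obtain ⟨l, hl⟩ := h.bt.R_cov v hv
    have hlo : l ≠ o := by
      rintro rfl
      rcases (h.hr v).1 hl with h1 | h1
      · exact hv1 h1
      · exact hvr h1
    have hl' : ∀ x ∈ R l, x = 1 ∨ x = v := fun x hx => by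
      by_cases hx1 : x = 1
      · exact Or.inl hx1
      · exact Or.inr (HOneTwo.eq_of_card_two (hcard l) hl hv1 hx hx1)
    obtain ⟨a, ha, c, hc, rfl⟩ := h.bt.exists_mul (Ne.symm hlo) hw
    rcases (h.hr a).1 ha with rfl | rfl <;> rcases hl' c hc with rfl | rfl
    · left; rw [mul_one]
    · right; right; left; rw [one_mul]
    · right; left; rw [mul_one]
    · right; right; right; exact h.bt.V_comm _ hrV _ hv
  r_mem := h.bt.R_le o ((h.hr _).2 (Or.inr rfl))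
  r_ne := h.r_ne
  T_V := h.T_V
  X_V := h.bt.X_le_NV
  trans := by
    intro v hv hv1
    obtain ⟨l, hl⟩ := h.bt.R_cov v hv
    obtain ⟨x, hx, e⟩ := h.bt.trans_X_one o l
    refine ⟨x, hx, ?_⟩
    have h1 : x * rr ε i j * x⁻¹ ∈ R l := by rw [← e]; exact BTwo.conj_mem_cj ((h.hr _).2 (Or.inr rfl))
    have h2 : x * rr ε i j * x⁻¹ ≠ 1 := fun h3 => h.r_ne (conj_eq_one_iff.1 h3)
    exact HOneTwo.eq_of_card_two (OtD.card_R h.bt h.hr h.r_ne l) hl hv1 h1 h2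
  zt := by
    obtain ⟨w, hwQ, hw⟩ := h.exists_w
    obtain ⟨k, hki, hkj, hk⟩ := h.k
    have hE := h.sit.split.even
    refine ⟨w, h.Qn_T hwQ, rr ε i k, hk, ?_, ?_⟩
    · rw [rr_conj hw, Equiv.swap_apply_left, Equiv.swap_apply_of_ne_of_ne hki hkj, ← rr_add hE j i k,
        rr_symm hE j i]
      exact h.sit.V_comm (h.sit.split.A_le (rr_mem hE i j)) (h.sit.split.A_le (rr_mem hE i k))
    · intro c hc hcc hcV
      have h1 : ∀ q ∈ o2 P, q * c = c * q := fun q hq => hcV q (h.Q_T hq) (by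
        refine mem_centralizer_iff.2 fun v hv => ?_
        exact (h.sit.V_le_zc (h.V_le_zl hv) |> mem_zc.1).2.1 q hq |>.symm)
      have h2 : c ∈ o2 P := h.sit.mem_o2_of_cent fun q hq => (h1 q hq).symm
      have h3 : c ∈ zl (S : Subgroup G) P := by
        rw [← h.sit.omega_one h.mv]
        exact mem_zc.2 ⟨h2, h1, by rw [pow_two]; exact hcc⟩
      exact h.sit.conj_V h.ne hwQ h3

/-- `Ω₁Z(T) ≤ V_P` -/
theorem zc_le_zl : zc T ≤ zl (S : Subgroup G) P := h.sit.zc_le_V h.mv h.Q_T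

/-- **the instance of II.0h1 over `T`** -/
theorem htt : HTT T (T ⊔ XX V R) V R o where
  toBT := h.bt
  card_R := OtD.card_R h.bt h.hr h.r_ne
  char2 := h.sit.c2
  S_p := h.T_p
  S_odd := by
    rw [OtD.normalizer_R (OtD.card_R h.bt h.hr h.r_ne o) ((h.hr _).2 (Or.inr rfl)) h.r_ne]
    exact h.odd
  S_V := h.T_V
  S_R := by
    rw [OtD.normalizer_R (OtD.card_R h.bt h.hr h.r_ne o) ((h.hr _).2 (Or.inr rfl)) h.r_ne]
    exact h.T_N
  S_P := le_sup_left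
  P_V := sup_le h.T_V h.bt.X_le_NV
  P_trans l := by
    obtain ⟨x, hx, e⟩ := h.bt.trans_X_one o l
    exact ⟨x, mem_sup_right hx, e⟩
  P_Z x hx z hz := by
    have h1 : T ⊔ XX V R ≤ BTwo.cenMod V (zc T) := by
      refine sup_le (fun t ht => ⟨h.T_V ht, fun z hz => ?_⟩)
        (iSup_le fun l w hw => ⟨h.bt.W_le_NV l hw, fun z hz => ?_⟩)
      · rw [((mem_zc.1 hz).2.1 t ht), mul_inv_cancel_right, mul_inv_cancel]
        exact one_mem _
      · obtain ⟨v, hv, hv1⟩ := h.bt.exists_ne l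
        obtain ⟨a, b, hab, rfl⟩ := h.pair v (h.bt.R_le l hv) hv1
        have hN := OtD.normalizer_R (OtD.card_R h.bt h.hr h.r_ne l) hv hv1
        have hwQ : w ∈ o2 (NN ε a b) := by
          have h2 := h.bt.W_le_Q l hw
          change w ∈ o2 (normalizer (R l : Set G)) at h2
          rw [hN] at h2
          exact h2
        rcases h.sit.conj_V hab hwQ (h.zc_le_zl hz) with h3 | h3
        · rw [h3, mul_inv_cancel]; exact one_mem _
        · rw [h3, h.sit.V_comm (h.zc_le_zl hz) (h.V_le_zl (h.bt.R_le l hv)), mul_inv_cancel_right]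
          exact h.bt.R_le l hv
    exact (h1 hx).2 z hz
  loc _ hT hX _ _ := h.otD.ot hT hX

/-- `c r_ij = v z_k` implies `c ≠ 1` -/
theorem ne_one (hm : 3 ≤ m) {c v : G} (hv : v ∈ cv (S : Subgroup G) P) {k : Fin (2 ^ m + 1)}
    (hc : c * rr ε i j = v * zz ε k) : c ≠ 1 := by
  rintro rfl
  rw [one_mul] at hc
  obtain ⟨w, hwQ, hw⟩ := h.exists_w
  obtain ⟨l, hli, hlj, hl⟩ := h.k
  have hE := h.sit.split.even
  have h1 : w ∈ o2 (centralizer ({v * zz ε k} : Set G)) := by rw [← hc]; exact hwQ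
  have h2 := mem_centralizer_iff.1 ((h.sit.cen_pt hm hv k).2 h1) _ (h.V_le_zl hl)
  have h3 : w * rr ε i l * w⁻¹ = rr ε j l := by
    rw [rr_conj hw, Equiv.swap_apply_left, Equiv.swap_apply_of_ne_of_ne hli hlj]
  rw [← h2, mul_inv_cancel_right] at h3
  have h4 : rr ε i j = rr ε i l * rr ε l j := (rr_add hE i l j).symm
  rw [rr_symm hE l j, ← h3, rr_sq hE] at h4
  exact h.r_ne h4

/-- **the end of II.0h1 over `T`** : `|Z₀#| ≤ 1` -/
theorem main (hm : 3 ≤ m) (hLE : ∀ l, LE V R l)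
    (hsig : ∀ c ∈ zc T, c ∈ CenX V R → HT.Sig V R o c →
      ∃ v ∈ cv (S : Subgroup G) P, ∃ k, c * rr ε i j = v * zz ε k) :
    ∀ x ∈ zc T, x ∈ CenX V R → ∀ y ∈ zc T, y ∈ CenX V R → x ≠ 1 → y ≠ 1 → x = y := by
  have hZ : ∀ {z : G}, z ∈ zc T → z ∈ CenX V R → z ∈ zc T ⊓ centralizer ((T ⊔ XX V R : Subgroup G) : Set G) :=
    fun hz hX => OtD.mem_Z0 hz hX
  intro x hx hxX y hy hyX hx1 hy1
  refine HT.EndCore.main h.htt hLE h.hr h.otD (fun _ c hcz hs => ?_) x (hZ hx hxX) y (hZ hy hyX) hx1 hy1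
  have hcX : c ∈ CenX V R := centralizer_le (fun x hx => mem_sup_right hx) hcz.2
  obtain ⟨v, hv, k, hvk⟩ := hsig c hcz.1 hcX hs
  have hc1 := h.ne_one hm hv hvk
  refine ⟨c, hcz, hc1, Or.inr rfl, ?_⟩
  refine HT.AlphaY.not_alpha h.htt h.hr hLE hcz hc1
    (HT.Main.gsys_of_core h.htt h.hr hcz hc1 (HT.EndCore.core h.htt h.hr h.otD hcz)) ?_
  intro g hg w hw
  rw [hvk] at hg
  exact comm_pt h.sit hm hv k hg (h.sit.split.A_le (rr_mem h.sit.split.even i j)) (h.V_le_zl hw)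

end Ln

end Cfsg.Agent.Omega.F4Leaf.Syl.OtT
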