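import Cfsg.Agent.Omega.F4Leaf.Syl.Main
import Cfsg.Agent.Omega.F4Leaf.Syl.Inst
import Cfsg.Agent.Omega.F4Leaf.Syl.LemF

/-!
# LeafF4: `HasFr` (helper628's `exists_fr` and helper758's LEMMA F), and the T-T pairs

* `hasFr : Main.HasFr`; `tt_big`, `tt_known` : the T-T pairs from `PosExit`; `leaf_of`, `leaf_of_end`.
-/

set_option autoImplicit false

namespace Cfsg.Agent.Omega.F4Leaf.Syl.Plug

open Subgroup Cfsg Cfsg.Agent.ZN Cfsg.Agent.Omega.MinPar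
open Cfsg.Agent.Omega.Frame Cfsg.Agent.Omega.FFThm
open Cfsg.Agent.Omega.FrameLE (AllIn)
open Cfsg.Agent.Omega.FrameFF (cv Single Free)
open Cfsg.Agent.Omega.FrameMulti (IsSym IsNat Typed AllTyped NoWr LeafF4)
open Cfsg.Agent.Omega.S5.Def
open Cfsg.Agent.Omega.NSix.Base Cfsg.Agent.Omega.NSix.Basic
open Cfsg.Agent.Omega.F4Leaf.Cen.Main (PosExit)

universe u

/-- **`HasFr`** -/
theorem hasFr : Main.HasFr.{u} := by
  intro G _ _ S P m A ε hs hm hcv i j hij hi hj hd hw hM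
  have hE := hs.split.even
  have hmov : ∃ i j, i ≠ j ∧ ∃ g ∈ NSix.Zero.WP ε i j, ¬ g ∈ centralizer (A : Set G) := by
    obtain ⟨w, hw, ha⟩ := hw
    exact ⟨i, j, hij, w, hw, fun h0 =>
      hij (Equiv.swap_eq_one_iff.mp (hE.acts_unique hs.three (hE.acts_one_iff.mpr h0) ha).symm)⟩
  have hP : TSyl.Part A ε i j := by
    obtain ⟨h, hh, hne⟩ := hM
    exact ⟨h, hh, _, rr_mem hE i 0, _, rr_mem hE i 0, hne⟩
  exact Inst.exists_fr hs hm hij hi hj hd hmov hP (LemF.lemF_duad hs hmov hij hi hj hd) hcv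

/-- **Two members of type `S_{2^m+1}`, `S_{2^m'+1}` of a mutual pair, not free.** -/
theorem tt_known (hX : PosExit.{u}) (G : Type u) [Group G] [Finite G] (hG : Ctx G) (S : Sylow 2 G)
    (hF : Full (S : Subgroup G)) (hI : AllIn (S : Subgroup G))
    (hT : AllTyped (S : Subgroup G)) (P₁ P₂ : Subgroup G) (x : G) (hm : Mutual (S : Subgroup G) P₁ P₂ x)
    (hnf : ¬ (Free (S : Subgroup G) P₁ ∧ Free (S : Subgroup G) P₂)) (m m' : ℕ) (hm2 : 2 ≤ m) (hm2' : 2 ≤ m')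
    (hS : IsSym (S : Subgroup G) P₁ 1 m) (hS' : IsSym (S : Subgroup G) P₂ 1 m') : IsKnownSimple' G :=
  Main.tt_known hX hasFr G hG S hF hI hT P₁ P₂ x hm hnf m m' hm2 hm2' hS hS'

theorem leaf_of {K : Cls.{u}} (hX : PosExit.{u}) (h2 : Main.NonAbNat.{u}) : LeafF4 K := Main.leaf hX hasFr h2

theorem leaf_of_end {K : Cls.{u}} (hX : PosExit.{u}) (h2 : Main.EndNat.{u}) : LeafF4 K :=
  Main.leaf_of_end hX hasFr h2

end Cfsg.Agent.Omega.F4Leaf.Syl.Plug
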