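import Cfsg.Agent.Omega.F4Leaf.Syl.Plug
import Cfsg.Agent.Omega.F4Leaf.Syl.NatBoth
import Cfsg.Agent.Omega.F4Leaf.Syl.EndCPure

/-!
# LeafF4: the natural partner, final plug

* `endNat : Main.EndNat` (helper300's `Mix.natBoth` + `EndCPure.endNat_of`)
* `leaf : PosExit → LeafF4 K`
-/

set_option autoImplicit false

namespace Cfsg.Agent.Omega.F4Leaf.Syl.PlugNat

open Cfsg Cfsg.Agent.Omega.MinPar Cfsg.Agent.Omega.Frame
open Cfsg.Agent.Omega.FrameMulti (LeafF4)
open Cfsg.Agent.Omega.F4Leaf.Cen.Main (PosExit)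

universe u

theorem natBoth : EndCPure.NatBoth.{u} := fun _ _ _ hc _ _ _ _ _ _ _ hm hl hN hcv _ _ hij hb =>
  Mix.natBoth hc hl hm hN (Or.inl hcv) hij hb

/-- **The natural partner.** -/
theorem endNat : Main.EndNat.{u} := EndCPure.endNat_of natBoth

/-- **`LeafF4` from `PosExit`** -/
theorem leaf {K : Cls.{u}} (hX : PosExit.{u}) : LeafF4 K := Plug.leaf_of_end hX endNat

end Cfsg.Agent.Omega.F4Leaf.Syl.PlugNat
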